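/- All instances of the classes of `H48.Spec4`. -/
import Cfsg.Agent.H48.Final4
import Cfsg.Agent.H48.MetaAct
import Cfsg.Agent.H48.Blackburn
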