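import Cfsg.Agent.H48.QR5
import Cfsg.Agent.H48.QRV
import Cfsg.Agent.H53.QRV1

/-! The qrc-lemma (S1824). -/

set_option autoImplicit false

namespace H48.QR

open Subgroup Cfsg H98 H96

universe u

theorem jobV : JobV.{u} := fun h hB hne => by
  obtain ⟨𝓔, c⟩ := h.exists_comp hB hne
  refine H53.QRV.reduce h.syl c fun E hE => ?_
  obtain ⟨n, hn, ⟨A, hA, b, -⟩ | ⟨-, ⟨m⟩⟩⟩ := c.type E hE
  · exact H53.QRV.blk_case h c hE hA b
  · exact (pm_case h c hB hne hE hn m).trans
      (commutator_mono (inf_le_inf_left _ (res_mono le_top)) le_rfl)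

theorem qrc : H97.QT.T1824.{u} := t1824 jobV

theorem jobQRC : H97.QT.JobQRC.{u} := fun _ => qrc

end H48.QR
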