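import Cfsg.Agent.H48.DP2Spec

/-! # S3275, chapter U0: interface of the sub-chapters; proofs in `blueprints/U0.md`. -/

set_option autoImplicit false

namespace H48.DP2

open Subgroup Cfsg H98 H48.DP H57.DPC
open scoped commutatorElement

universe u

variable {G : Type u} [Group G]

def E27 (B : Subgroup G) : Prop := IsElementaryAbelian 3 B ∧ 27 ≤ Nat.card B

def Good (x : G) : Prop := ∃ B : Subgroup G, E27 B ∧ x ∈ B

def InU (M A : Subgroup G) : Prop := ∃ B : Subgroup G, B ≤ M ∧ E27 B ∧ A ≤ B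

/-- `O_{3'}(H)` as a subgroup of `G`. -/
abbrev O3p (H : Subgroup G) : Subgroup G := (pPrimeCore 3 H).map H.subtype

structure Ua (M Q : Subgroup G) : Prop extends Hyp2 G where
  h1 : Hyp1 G
  no : No Q = M
  o2 : O2 M = Q
  nt : Q ≠ ⊥
  cq : Ce Q ≤ Q
  e27 : ∃ B : Subgroup G, B ≤ M ∧ E27 B
  t27 : ∀ (B : Subgroup G) (g : G), E27 B → B ≤ M → cj g B ≤ M → g ∈ M
  n9 : ∀ A : Subgroup G, InU M A → 9 ≤ Nat.card A → No A ≤ M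
  dq : ∀ x : G, orderOf x = 3 → InU M (zpowers x) → O2 (C1 x) = Q ⊓ C1 x

structure Ub (M Q : Subgroup G) : Prop extends Ua M Q where
  loc : ∀ H B : Subgroup G, H ≠ ⊤ → E27 B → B ≤ H ⊓ M → H ≤ M
  tg : ∀ x g : G, orderOf x = 3 → Good x → x ∈ M → g * x * g⁻¹ ∈ M → g ∈ M

/-! ### Chapter A -/

def UA : Prop := ∀ (G : Type u) [Group G] [Finite G], Hyp2 G → Hyp1 G →
  ∀ (N : ℕ) (B : Subgroup G) (x : G), Top N B → x ∈ B → x ≠ 1 → O2 (C1 x) ≠ ⊥ →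
  ∃ M Q : Subgroup G, Ua M Q

def BH : Prop := ∀ (G : Type u) [Group G] [Finite G], Hyp G → ∀ (H : Subgroup G) (y : G), H ≠ ⊤ →
  y ∈ H → orderOf y = 3 → O3p (H ⊓ C1 y) ≤ O3p H

def U1 : Prop := ∀ (G : Type u) [Group G] [Finite G] (M Q H A : Subgroup G), Ua M Q → H ≠ ⊤ →
  A ≤ H → InU M A → 9 ≤ Nat.card A → Q ⊓ H ≤ O2 H

def ISO : Prop := ∀ (G : Type u) [Group G] [Finite G] (M Q : Subgroup G) (P : Sylow 3 G) (y z : G),
  Ua M Q → (P : Subgroup G) ≤ M → y ∈ (P : Subgroup G) → z ∈ (P : Subgroup G) →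
  (P : Subgroup G) ≤ C1 z → orderOf y = 3 → orderOf z = 3 → y ∉ zpowers z →
  ¬ InU M (zpowers y ⊔ zpowers z) →
  ∀ X : Subgroup G, X ≤ M → IsPGroup 2 X → y ∈ No X → z ∈ No X → X ≤ Q

/-! ### Chapter B -/

/-- `H/O_{3'}(H) = U₃(3) × C` with `C` of 3-rank one. -/
def AlphaH (M H : Subgroup G) : Prop := ∃ K : Subgroup (H ⧸ pPrimeCore 3 H),
  IsComponent K ∧ IsU33 K ∧ K ⊔ Ce K = ⊤ ∧ PRankLE 3 1 (Ce K) ∧ 3 ∣ Nat.card (Ce K) ∧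
    ¬ K ≤ (M.subgroupOf H).map (QuotientGroup.mk' (pPrimeCore 3 H))

/-- `H` normalises `D = 3^{1+2}` modulo `O_{3'}(H)`. -/
structure BetaH (M H D : Subgroup G) (x : G) : Prop where
  sol : Group.IsSolvable H
  le : D ≤ H ⊓ M
  card : Nat.card D = 27
  ex : ∀ d ∈ D, d ^ 3 = 1
  x3 : orderOf x = 3
  der : ⁅D, D⁆ = zpowers x
  fr : H ≤ O3p H ⊔ No D
  big : ∃ B : Subgroup G, E27 B ∧ B ≤ H ⊓ M ∧ B ≤ No D
  out : ¬ H ⊓ No D ≤ M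
  cen : ∀ c ∈ H, c ∈ Ce D → c ^ 3 = 1 → c ∈ zpowers x
  nY : ∀ Y : Subgroup G, Y ≤ H → (∀ g ∈ Y, g ^ 3 = 1) → 81 ≤ Nat.card Y →
    Nat.card ↥(Y ⊓ Ce Y) ≤ 3

def G0 : Prop := ∀ (G : Type u) [Group G] [Finite G] (M Q H B : Subgroup G), Ua M Q → H ≠ ⊤ →
  E27 B → B ≤ H ⊓ M → O3p H ≤ M ∧ (H ≤ M ∨ AlphaH M H ∨ ∃ D x, BetaH M H D x)

/-- Chapter alpha. -/
def NA : Prop := ∀ (G : Type u) [Group G] [Finite G] (M Q H B : Subgroup G), Ua M Q → H ≠ ⊤ →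
  E27 B → B ≤ H ⊓ M → ¬ AlphaH M H

def UB : Prop := ∀ (G : Type u) [Group G] [Finite G] (M Q : Subgroup G), Ua M Q → Ub M Q

/-! ### Chapter C: elements of order 3 that lie in no `3³` -/

structure Bd (M Q : Subgroup G) (y z u : G) : Prop extends Ub M Q where
  syl : ∃ P : Sylow 3 G, (P : Subgroup G) ≤ M ∧ y ∈ (P : Subgroup G) ∧ z ∈ (P : Subgroup G) ∧
    u ∈ (P : Subgroup G) ∧ (P : Subgroup G) ≤ C1 z ∧ (P : Subgroup G) ≤ No (zpowers z ⊔ zpowers u) ∧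
    ∀ R : Subgroup G, IsPGroup 3 R → (P : Subgroup G) ⊓ C1 y ≤ R → R ≤ C1 y → R ≤ P
  y3 : orderOf y = 3
  z3 : orderOf z = 3
  u3 : orderOf u = 3
  uy : u * y * u⁻¹ = y * z
  bad : ¬ Good y
  uU : InU M (zpowers z ⊔ zpowers u)
  iso : ∀ X : Subgroup G, X ≤ M → IsPGroup 2 X → y ∈ No X → z ∈ No X → X ≤ Q

/-- The `L₃(2)` configuration: `L/J ≅ L₃(2)` is centralised by `y`. -/
structure LT (M Q J L : Subgroup G) (y z : G) : Prop where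
  nt : J ≠ ⊥
  JQ : J ≤ Q
  o2 : O2 (No J) = J
  JL : J ≤ L
  LN : L ≤ No J
  nor : No J ≤ No L
  two : ∀ S : Subgroup G, S ≤ No J → IsPGroup 2 S → y ∈ No S → S ≤ L
  iso : ∃ f : L →* Matrix.ProjectiveSpecialLinearGroup (Fin 2) (ZMod 7),
    Function.Surjective f ∧ f.ker = J.subgroupOf L
  zL : z ∈ L
  yN : y ∈ No J
  yL : ∀ l ∈ L, ⁅y, l⁆ ∈ J
  idx : J.relIndex (Q ⊓ L) = 4
  out : ¬ L ≤ M
  mx : ∀ X : Subgroup G, IsPGroup 2 X → y ∈ No X → z ∈ No X → ¬ X ≤ M →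
    Nat.card ↥(X ⊓ M) ≤ Nat.card J
  uniq : ∀ N : Subgroup G, IsPGroup 2 N → N ≠ ⊥ → L ≤ No N → y ∈ No N → No N ≤ No J

def C0 : Prop := ∀ (G : Type u) [Group G] [Finite G] (M Q : Subgroup G) (y : G), Ub M Q → y ∈ M →
  orderOf y = 3 → ¬ Good y → ∃ z u, Bd M Q y z u

def CL : Prop := ∀ (G : Type u) [Group G] [Finite G] (M Q X : Subgroup G) (y z u : G),
  Bd M Q y z u → IsPGroup 2 X → y ∈ No X → z ∈ No X → ¬ X ≤ M → X ⊓ M ≠ ⊥ →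
  ∃ (y' : G) (J L : Subgroup G), Bd M Q y' z u ∧ LT M Q J L y' z

def C4 : Prop := ∀ (G : Type u) [Group G] [Finite G] (M Q J L : Subgroup G) (y z u : G),
  Bd M Q y z u → LT M Q J L y z → False

/-- No 2-group normalised by `⟨y, z⟩` meets `M` properly. -/
def J1 (M : Subgroup G) (y z : G) : Prop := ∀ X : Subgroup G, IsPGroup 2 X → y ∈ No X →
  z ∈ No X → ¬ X ≤ M → X ⊓ M = ⊥

/-- `C(y)` has the component `K ≅ L₃(2)` containing `z`. -/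
def C6 : Prop := ∀ (G : Type u) [Group G] [Finite G] (M Q K : Subgroup G) (y z u : G),
  Bd M Q y z u → J1 M y z → O2 (C1 y) = ⊥ → IsComponentOf K (C1 y) → IsL27 K → z ∈ K → False

def C3 : Prop := C6.{u} → ∀ (G : Type u) [Group G] [Finite G] (M Q : Subgroup G) (y z u : G),
  Bd M Q y z u → J1 M y z → C1 y ≤ M

def JobUC : Prop := C0.{u} → CL.{u} → C4.{u} → C6.{u} → C3.{u} →
  ∀ (G : Type u) [Group G] [Finite G] (M Q : Subgroup G), Ub M Q → Uw M Q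

theorem u0_of (a : UA.{u}) (b : UB.{u}) (c0 : C0.{u}) (cl : CL.{u}) (c4 : C4.{u}) (c6 : C6.{u})
    (c3 : C3.{u}) (uc : JobUC.{u}) : U0.{u} := fun G _ _ h2 h1 N B x hB hx hx1 hO => by
  obtain ⟨M, Q, ha⟩ := a G h2 h1 N B x hB hx hx1 hO
  exact ⟨M, Q, uc c0 cl c4 c6 c3 G M Q (b G M Q ha)⟩

end H48.DP2
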