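import Cfsg.Agent.H48.DC4Spec
import Cfsg.Agent.H26.DP0ASpec
import Cfsg.Agent.H98.DP0CSpec

/-! # S3275, chapter alpha (NA); proofs in `blueprints/U0NA.md`. -/

set_option autoImplicit false

namespace H48.DP2

open Subgroup Cfsg H98 H48.DP H57.DPC H26.DA H98.DP0C
open scoped commutatorElement

universe u

variable {G : Type u} [Group G]

/-! ### Facts on the three groups -/

/-- `K ≅ U₃(3)`, `P = 3^{1+2}`, `r` of order 8, `S = Q₈`. -/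
structure Fu (K P S : Subgroup G) (z r : G) : Prop where
  syl : IsSyl 3 P K
  card : Nat.card P = 27
  ex : ∀ p ∈ P, p ^ 3 = 1
  z3 : orderOf z = 3
  der : ⁅P, P⁆ = zpowers z
  zc : P ≤ C1 z
  cP : K ⊓ Ce P ≤ zpowers z
  rK : r ∈ K
  r2 : IsPGroup 2 (zpowers r)
  rP : r ∈ No P
  rz : r * z * r⁻¹ = z⁻¹
  cr : ∀ w ∈ K, w ^ 3 = 1 → Commute w r → w = 1
  SK : S ≤ K
  S2 : IsPGroup 2 S
  zS : z ∈ No S
  gen : K ≤ (K ⊓ No (zpowers z)) ⊔ S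

def JFU0 : Prop := ∀ (L : Type u) [Group L] [Finite L], IsU33 L →
  Nat.card L = 6048 ∧ ∃ (P S : Subgroup L) (z r : L), Fu ⊤ P S z r

/-- Every 3-subgroup lies in such a `P`. -/
def FU : Prop := ∀ (X : Type u) [Group X] [Finite X] (K R : Subgroup X), IsU33 K → R ≤ K →
  IsPGroup 3 R → ∃ (P S : Subgroup X) (z r : X), R ≤ P ∧ Fu K P S z r

def JFU1 : Prop := JFU0.{u} → FU.{u}

/-- A group with abelian Sylow 3-subgroups is `L₃(2)`. -/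
def NAb : Prop := ∀ (X : Type u) [Group X] [Finite X] (K : Subgroup X), Three K →
  IsL27 K ∨ ∃ R : Subgroup X, R ≤ K ∧ IsPGroup 3 R ∧ ⁅R, R⁆ ≠ ⊥

def JNAb : Prop := FU.{u} → NAb.{u}

/-- Lifting through a kernel of order prime to 3. -/
def LR : Prop := ∀ (H X : Type u) [Group H] [Finite H] [Group X] (π : H →* X),
  Function.Surjective π → ¬ 3 ∣ Nat.card π.ker →
  (∀ P : Subgroup H, IsPGroup 3 P → ∀ g ∈ No (P.map π), ∃ h ∈ No P, π h = g ∧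
    (IsPGroup 2 (zpowers g) → IsPGroup 2 (zpowers h))) ∧
  ∀ (y : H) (g : X), y ^ 3 = 1 → Commute g (π y) → ∃ h, Commute h y ∧ π h = g ∧
    (g ^ 3 = 1 → h ^ 3 ∈ π.ker) ∧ (IsPGroup 2 π.ker → g ^ 3 = 1 → h ^ 3 = 1)

/-! ### The package -/

structure Lt (P : Subgroup G) (y z r : G) : Prop where
  y3 : orderOf y = 3
  z3 : orderOf z = 3
  Py : P ≤ C1 y
  card : Nat.card P = 27
  ex : ∀ p ∈ P, p ^ 3 = 1
  der : ⁅P, P⁆ = zpowers z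
  zc : P ≤ C1 z
  yP : y ∉ P
  ry : Commute r y
  rz : r * z * r⁻¹ = z⁻¹

/-- `y` is an alpha element. -/
structure Al (M Q : Subgroup G) (y : G) : Prop extends Ua M Q where
  y3 : orderOf y = 3
  inU : InU M (zpowers y)
  al : AlphaH M (C1 y)

def AE : Prop := ∀ (G : Type u) [Group G] [Finite G] (M Q H B : Subgroup G), Ua M Q → H ≠ ⊤ →
  E27 B → B ≤ H ⊓ M → AlphaH M H → ∃ y, Al M Q y

def JAE : Prop := LR.{u} → G0.{u} → AE.{u}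

/-- The data in `C(y) / O_{3'}(C(y)) = K × C`. -/
structure Pk (M Q P : Subgroup G) (y : G) (z r : C1 y)
    (K S : Subgroup (C1 y ⧸ pPrimeCore 3 (C1 y))) : Prop extends Al M Q y where
  lt : Lt P y z r
  yM : y ∈ M
  PM : P ≤ M
  rM : (r : G) ∈ M
  r2 : IsPGroup 2 (zpowers (r : G))
  rP : (r : G) ∈ No P
  nA : No (zpowers y ⊔ zpowers (z : G)) ≤ M
  comp : IsComponent K
  u33 : IsU33 K
  sup : K ⊔ Ce K = ⊤
  rk : PRankLE 3 1 (Ce K)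
  out : ¬ K ≤ (M.subgroupOf (C1 y)).map (pm (C1 y))
  fu : Fu K ((P.subgroupOf (C1 y)).map (pm (C1 y))) S (pm (C1 y) z) (pm (C1 y) r)

def PK1 : Prop := ∀ (G : Type u) [Group G] [Finite G] (M Q : Subgroup G) (y : G), Al M Q y →
  ∃ P z r K S, Pk M Q P y z r K S

def Fr (y r : G) : Prop := ∀ w ∈ C1 y, w ^ 3 = 1 → ⁅w, r⁆ ∈ th y → w ∈ zpowers y

def Fc (P : Subgroup G) (y z : G) : Prop :=
  ∀ w ∈ C1 y, w ^ 3 = 1 → w ∈ Ce P → w ∈ zpowers y ⊔ zpowers z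

def Fd (P : Subgroup G) (y z : G) : Prop :=
  ∀ R : Subgroup G, IsPGroup 3 R → R ≤ C1 y → P ≤ R → ⁅R, R⁆ ≤ zpowers z

def Ft (M P : Subgroup G) (y r : G) : Prop :=
  ∀ t ∈ No (zpowers y), IsPGroup 2 (zpowers t) → (∀ p ∈ P, ⁅t, p⁆ ∈ th y) → ⁅t, r⁆ ∈ th y →
    ∃ g ∈ C1 y, g ∉ M ∧ ⁅t, g⁆ ∈ O2 (C1 y)

def Fs (M : Subgroup G) (y z : G) : Prop :=
  ∃ S : Subgroup G, IsPGroup 2 S ∧ S ≤ C1 y ∧ z ∈ No S ∧ ¬ S ≤ M

def JPK2 : Prop := ∀ (G : Type u) [Group G] [Finite G] (M Q P : Subgroup G) (y : G) (z r : C1 y)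
  (K S : Subgroup (C1 y ⧸ pPrimeCore 3 (C1 y))), Pk M Q P y z r K S →
  (∀ p ∈ P, Commute p (r : G) → p = 1) ∧ Fr y (r : G) ∧ Fc P y (z : G)

def JPK3 : Prop := ∀ (G : Type u) [Group G] [Finite G] (M Q P : Subgroup G) (y : G) (z r : C1 y)
  (K S : Subgroup (C1 y ⧸ pPrimeCore 3 (C1 y))), Pk M Q P y z r K S → Fd P y (z : G)

def PK4a : Prop := ∀ (G : Type u) [Group G] [Finite G] (M Q P : Subgroup G) (y : G) (z r : C1 y)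
  (K S : Subgroup (C1 y ⧸ pPrimeCore 3 (C1 y))), Pk M Q P y z r K S →
  ∀ t ∈ No (zpowers y), IsPGroup 2 (zpowers t) → (∀ p ∈ P, ⁅t, p⁆ ∈ th y) → ⁅t, (r : G)⁆ ∈ th y →
    ∀ g : C1 y, pm (C1 y) g ∈ K → ⁅t, (g : G)⁆ ∈ th y

def PK4 : Prop := ∀ (G : Type u) [Group G] [Finite G] (M Q P : Subgroup G) (y : G) (z r : C1 y)
  (K S : Subgroup (C1 y ⧸ pPrimeCore 3 (C1 y))), Pk M Q P y z r K S → Ft M P y (r : G)

def JPK4 : Prop := LR.{u} → PK4a.{u} → PK4.{u}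

def PK5 : Prop := ∀ (G : Type u) [Group G] [Finite G] (M Q P : Subgroup G) (y : G) (z r : C1 y)
  (K S : Subgroup (C1 y ⧸ pPrimeCore 3 (C1 y))), Pk M Q P y z r K S → Fs M y (z : G)

def JPK5 : Prop := LR.{u} → PK5.{u}

structure Ae (M Q P : Subgroup G) (y z r : G) : Prop extends Ua M Q where
  lt : Lt P y z r
  yM : y ∈ M
  PM : P ≤ M
  rM : r ∈ M
  r2 : IsPGroup 2 (zpowers r)
  rP : r ∈ No P
  dy : O2 (C1 y) = Q ⊓ C1 y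
  fpf : ∀ p ∈ P, Commute p r → p = 1
  fr : Fr y r
  fc : Fc P y z
  fd : Fd P y z
  ft : Ft M P y r
  fs : Fs M y z

def PK : Prop := ∀ (G : Type u) [Group G] [Finite G] (M Q : Subgroup G) (y : G), Al M Q y →
  ∃ P z r, Ae M Q P y z r

theorem pk_of (a : PK1.{u}) (b : JPK2.{u}) (c : JPK3.{u}) (d : PK4.{u}) (e : PK5.{u}) : PK.{u} :=
  fun G _ _ M Q y h => by
  obtain ⟨P, z, r, K, S, k⟩ := a G M Q y h
  obtain ⟨h1, h2, h3⟩ := b G M Q P y z r K S k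
  exact ⟨P, z, r, h.toUa, k.lt, k.yM, k.PM, k.rM, k.r2, k.rP, h.dq y h.y3 h.inU, h1, h2, h3,
    c G M Q P y z r K S k, d G M Q P y z r K S k, e G M Q P y z r K S k⟩

/-! ### Tools -/

/-- An `E27` in `P × ⟨y⟩`, and no beta. -/
def G1 : Prop := ∀ (G : Type u) [Group G] [Finite G] (M Q P : Subgroup G) (y z r : G), Ua M Q →
  Lt P y z r → P ≤ M → y ∈ M →
  (∃ B : Subgroup G, E27 B ∧ B ≤ P ⊔ zpowers y ∧ y ∈ B ∧ z ∈ B) ∧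
    ∀ H : Subgroup G, H ≠ ⊤ → P ≤ H → y ∈ H → H ≤ M ∨ AlphaH M H

def JG1 : Prop := G0.{u} → G1.{u}

def JPK1 : Prop := LR.{u} → FU.{u} → G1.{u} → PK1.{u}

def CP : Prop := ∀ (G : Type u) [Group G] [Finite G] (M H P : Subgroup G) (y z r : G),
  Lt P y z r → AlphaH M H → P ≤ H →
  ¬ H ≤ C1 z ∧ (y ∈ H → r ∈ H → ∃ g ∈ H, g ∈ C1 y ∧ g ∉ M)

def JCP : Prop := LR.{u} → FU.{u} → CP.{u}

def QX : Prop := ∀ (G : Type u) [Group G] [Finite G] (M Q B W C : Subgroup G), Ua M Q → E27 B →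
  B ≤ M → B ≤ W → IsPGroup 2 C → C ≠ ⊥ → W ≤ No C →
  ∃ X : Subgroup G, IsPGroup 2 X ∧ W ≤ No X ∧ Q ≤ X ∧ X ≤ M ∧ No X ≠ ⊤

def JQX : Prop := G0.{u} → U1.{u} → QX.{u}

/-- Pushing up. -/
def PU : Prop := ∀ (G : Type u) [Group G] [Finite G] (D V Q : Subgroup G) (y s : G),
  IsPGroup 2 D → V ≤ D → V.relIndex D = 2 → Q ≤ V → Ce Q ≤ Q → orderOf y = 3 → y ∈ No V →
  D ≤ No V → s ∈ D → s ∉ V → s * y * s⁻¹ * y ∈ V → ¬ ⁅D, D⁆ ≤ Q →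
  ∃ C : Subgroup G, C ≠ ⊥ ∧ IsPGroup 2 C ∧ No D ≤ No C ∧ y ∈ No C

/-! ### The case `O₂(C(y)) ≠ 1` -/

/-- The situation in `M / Q`. -/
structure Sc (X P : Subgroup G) (y r : G) : Prop where
  str : H26.DA.Str G
  X2 : IsPGroup 2 X
  nt : X ≠ ⊥
  y3 : orderOf y = 3
  cX : C1 y ≤ No X
  fX : X ⊓ C1 y = ⊥
  r2 : IsPGroup 2 (zpowers r)
  ry : Commute r y
  fr : ∀ w : G, w ^ 3 = 1 → Commute w y → Commute w r → w ∈ zpowers y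
  Py : P ≤ C1 y
  rP : r ∈ No P
  fpf : ∀ p ∈ P, Commute p r → p = 1

def JS1 : Prop := LR.{u} → STR.{u} → ∀ (G Γ : Type u) [Group G] [Finite G] [Group Γ] [Finite Γ]
  (M Q P X : Subgroup G) (π : M →* Γ) (y r : M) (z : G), Ae M Q P y z r → Pj M π →
  IsPGroup 2 X → C1 (y : G) ≤ No X → Q ≤ X → X ≤ M → Sc (bar π X) (bar π P) (π y) (π r)

def S2 : Prop := ∀ (G : Type u) [Group G] [Finite G] (X P : Subgroup G) (y r : G), Sc X P y r →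
  ∃ L : Subgroup G, IsComponentOf L ⊤ ∧ ¬ X ≤ Ce L ∧ y ∈ No L

def JS2 : Prop := NORM.{u} → S2.{u}

def JS3 : Prop := ∀ (G : Type u) [Group G] [Finite G] (X P L : Subgroup G) (y r : G), Sc X P y r →
  IsComponentOf L ⊤ → ¬ X ≤ Ce L → y ∈ No L → y ∈ L ∧ IsL27 L

def JS4 : Prop := ∀ (G : Type u) [Group G] [Finite G] (X P L : Subgroup G) (y r : G), Sc X P y r →
  IsComponentOf L ⊤ → y ∈ L → IsL27 L → X ≤ L ∧ Nat.card X = 4 ∧ P ≤ Ce L ∧ r ∈ Ce L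

/-- The preimage `L` of the component. -/
structure L7 (M Q L X P : Subgroup G) (y r : G) : Prop where
  QX : Q ≤ X
  XL : X ≤ L
  LM : L ≤ M
  md : ∃ (f : L →* P7) (y' : L), Function.Surjective f ∧ f.ker = Q.subgroupOf L ∧ (y' : G) = y ∧
    Nat.card ↥((X.subgroupOf L).map f) = 4 ∧ orderOf (f y') = 3
  yX : y ∈ No X
  PL : ∀ p ∈ P, ∀ l ∈ L, ⁅p, l⁆ ∈ Q
  rL : ∀ l ∈ L, ⁅r, l⁆ ∈ Q

def JS5 : Prop := ∀ (G Γ : Type u) [Group G] [Finite G] [Group Γ] [Finite Γ]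
  (M Q P X : Subgroup G) (π : M →* Γ) (y r : M) (L : Subgroup Γ), O2 M = Q → Pj M π → Q ≤ X →
  X ≤ M → P ≤ M → (y : G) ∈ No X → orderOf (π y) = 3 → π y ∈ L → IsL27 L → bar π X ≤ L →
  Nat.card (bar π X) = 4 → bar π P ≤ Ce L → π r ∈ Ce L → ∃ L', L7 M Q L' X P y r

/-- The elements for pushing up; `D / Q` is dihedral of order 8. -/
structure Pu (M Q X P D V : Subgroup G) (y r l t s : G) : Prop where
  lM : l ∈ M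
  lP : l ∈ Ce P
  tN : t ∈ No (zpowers y)
  t2 : IsPGroup 2 (zpowers t)
  tX : t ∈ No X
  tP : ∀ p ∈ P, ⁅t, p⁆ ∈ Q
  tr : ⁅t, r⁆ ∈ Q
  eq : D = X ⊔ zpowers t
  D2 : IsPGroup 2 D
  VD : V ≤ D
  idx : V.relIndex D = 2
  QV : Q ≤ V
  yV : l * y * l⁻¹ ∈ No V
  DV : D ≤ No V
  sD : s ∈ D
  sV : s ∉ V
  sy : s * (l * y * l⁻¹) * s⁻¹ * (l * y * l⁻¹) ∈ V
  nab : ¬ ⁅D, D⁆ ≤ Q
  PD : P ≤ No D
  rD : l * r * l⁻¹ ∈ No D
  fin : ∀ Y : Subgroup G, IsPGroup 2 Y → Q ≤ Y → D ≤ No Y → l * y * l⁻¹ ∈ No Y → Y ⊓ cj l X = Q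

/-- The model of `Pu` in `L₃(2)`. -/
structure Pm {Λ : Type*} [Group Λ] (B D V : Subgroup Λ) (y l t s : Λ) : Prop where
  tN : t ∈ No (zpowers y)
  tB : t ∈ No B
  eq : D = B ⊔ zpowers t
  D2 : IsPGroup 2 D
  VD : V ≤ D
  idx : V.relIndex D = 2
  yV : l * y * l⁻¹ ∈ No V
  DV : D ≤ No V
  sD : s ∈ D
  sV : s ∉ V
  sy : s * (l * y * l⁻¹) * s⁻¹ = (l * y * l⁻¹)⁻¹
  nab : ⁅D, D⁆ ≠ ⊥
  fin : ∀ Y : Subgroup Λ, Y ≤ cj l B → l * y * l⁻¹ ∈ No Y → IsPGroup 2 ↥(Y ⊔ D) → Y = ⊥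

def PM : Prop := ∀ (B : Subgroup P7) (y : P7), Nat.card B = 4 → orderOf y = 3 → y ∈ No B →
  ∃ D V l t s, Pm B D V y l t s

def JPM : Prop := JF7 → PM

def S6a : Prop := ∀ (G : Type u) [Group G] [Finite G] (M Q L X P : Subgroup G) (y z r : G),
  Ae M Q P y z r → L7 M Q L X P y r → (∀ l ∈ L, ∃ l' ∈ L, l' ∈ Ce P ∧ l⁻¹ * l' ∈ Q) ∧
    ∀ t ∈ L, t * y * t⁻¹ ∈ Q ⊔ zpowers y → ∃ t' ∈ L, t' ∈ No (zpowers y) ∧ t⁻¹ * t' ∈ Q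

def JS6 : Prop := PM → S6a.{u} → ∀ (G : Type u) [Group G] [Finite G] (M Q L X P : Subgroup G) (y z r : G),
  Ae M Q P y z r → L7 M Q L X P y r → ∃ D V l t s, Pu M Q X P D V y r l t s

def JS8 : Prop := G1.{u} → CP.{u} → QX.{u} → PU.{u} → ∀ (G : Type u) [Group G] [Finite G]
  (M Q X P D V : Subgroup G) (y z r l t s : G), Ae M Q P y z r → C1 y ≤ No X → Q ≤ X →
  Pu M Q X P D V y r l t s → False

def N1 : Prop := ∀ (G : Type u) [Group G] [Finite G] (M Q P : Subgroup G) (y z r : G),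
  Ae M Q P y z r → O2 (C1 y) = ⊥

/-! ### The case `O₂(C(y)) = 1` -/

structure Z0 (M Q P : Subgroup G) (y z r : G) : Prop extends Ae M Q P y z r where
  d : Q ⊓ C1 y = ⊥
  c0 : C1 z ≤ M
  c1 : C1 (y * z) ≤ M
  c2 : C1 (y * z⁻¹) ≤ M
  n1 : Q ⊓ C1 (y * z) ≠ ⊥
  n2 : Q ⊓ C1 (y * z⁻¹) ≠ ⊥

/-- Generation. -/
def T6a : Prop := ∀ (G : Type u) [Group G] [Finite G] (X N : Subgroup G) (y z : G), IsPGroup 2 X →
  orderOf y = 3 → orderOf z = 3 → Commute y z → y ∉ zpowers z → y ∈ No X → z ∈ No X →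
  X ⊓ C1 z ≤ N → X ⊓ C1 (y * z) ≤ N → X ⊓ C1 (y * z⁻¹) ≤ N →
  ⁅X, zpowers y⁆ ≤ N ∧ ⁅⁅X, zpowers y⁆, zpowers y⁆ = ⁅X, zpowers y⁆

def JT1 : Prop := T6a.{u} → G1.{u} → CP.{u} → PK.{u} → N1.{u} → ∀ (G : Type u) [Group G] [Finite G]
  (M Q P : Subgroup G) (y z r : G), Ae M Q P y z r → Z0 M Q P y z r

def T2 : Prop := ∀ (G : Type u) [Group G] [Finite G] (M Q P : Subgroup G) (y z r : G),
  Z0 M Q P y z r → ∃ S : Subgroup G, IsSyl 3 S M ∧ y ∈ S ∧ z ∈ S ∧ S ≤ C1 y ∧ S ≤ C1 z ∧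
    ⁅S, S⁆ ≤ zpowers z

/-- The situation in `M / Q`. -/
structure Sd (S W : Subgroup G) (y z r : G) : Prop where
  str : H26.DA.Str G
  syl : IsSyl 3 S ⊤
  yS : y ∈ S
  zS : z ∈ S
  cy : S ≤ C1 y
  cz : S ≤ C1 z
  der : ⁅S, S⁆ ≤ zpowers z
  y3 : orderOf y = 3
  z3 : orderOf z = 3
  r2 : IsPGroup 2 (zpowers r)
  ry : Commute r y
  rz : r * z * r⁻¹ = z⁻¹
  fr : ∀ w : G, w ^ 3 = 1 → Commute w y → Commute w r → w ∈ zpowers y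
  W2 : IsPGroup 2 W
  nt : W ≠ ⊥
  yW : y ∈ No W
  zW : z ∈ No W
  com : ⁅W, zpowers y⁆ = W

def JT3a : Prop := ∀ (G : Type u) [Group G] [Finite G] (S W : Subgroup G) (y z r : G),
  Sd S W y z r → ∃ L : Subgroup G, IsComponentOf L ⊤ ∧ ¬ W ≤ Ce L ∧ y ∈ No L ∧ z ∈ No L

def JT3b : Prop := ∀ (G : Type u) [Group G] [Finite G] (S W L : Subgroup G) (y z r : G),
  Sd S W y z r → IsComponentOf L ⊤ → ¬ W ≤ Ce L → y ∈ No L → z ∈ No L → y ∈ L ∧ z ∈ Ce L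

def JT3c : Prop := NAb.{u} → ∀ (G : Type u) [Group G] [Finite G] (S W L : Subgroup G) (y z r : G),
  Sd S W y z r → IsComponentOf L ⊤ → z ∈ Ce L → IsL27 L

/-- In `L₃(2)` an element of order 3 normalises an element of order 7. -/
def T4a : Prop := ∀ (X : Type u) [Group X] [Finite X] (L : Subgroup X) (y : X), IsL27 L → y ∈ L →
  orderOf y = 3 → ∃ s ∈ L, s ^ 7 = 1 ∧ (y * s * y⁻¹ = s ^ 2 ∨ y * s * y⁻¹ = s ^ 4) ∧
    ∀ N : Subgroup X, s ∈ N → L ≤ No N → y ∈ N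

def JT4a : Prop := JF7 → T4a.{u}

/-- The trace argument. -/
def T4b : Prop := ∀ (G : Type u) [Group G] [Finite G] (Z : Subgroup G) (y s : G), IsPGroup 2 Z →
  Z ≤ Ce Z → y ∈ No Z → s ∈ No Z → y ^ 3 = 1 → Z ⊓ C1 y = ⊥ → s ^ 7 ∈ Ce Z →
  ((s ^ 2)⁻¹ * (y * s * y⁻¹) ∈ Ce Z ∨ (s ^ 4)⁻¹ * (y * s * y⁻¹) ∈ Ce Z) → s ∈ Ce Z

def JT5a : Prop := LR.{u} → STR.{u} → T2.{u} → ∀ (G Γ : Type u) [Group G] [Finite G] [Group Γ] [Finite Γ]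
  (M Q P W : Subgroup G) (π : M →* Γ) (y z r : M), Z0 M Q P y z r → Pj M π → IsPGroup 2 W →
  W ≤ M → (y : G) ∈ No W → (z : G) ∈ No W → ⁅W, zpowers (y : G)⁆ = W → ¬ W ≤ Q →
  ∃ S, Sd S (bar π W) (π y) (π z) (π r)

def JT5b : Prop := T4a.{u} → T4b.{u} → ∀ (G Γ : Type u) [Group G] [Finite G] [Group Γ] [Finite Γ]
  (M Q : Subgroup G) (π : M →* Γ) (y : M) (L : Subgroup Γ), Ua M Q → Pj M π →
  orderOf (y : G) = 3 → Q ⊓ C1 (y : G) = ⊥ → IsL27 L → π y ∈ L → False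

def T5 : Prop := ∀ (G : Type u) [Group G] [Finite G] (M Q P W : Subgroup G) (y z r : G),
  Z0 M Q P y z r → IsPGroup 2 W → W ≤ M → y ∈ No W → z ∈ No W → ⁅W, zpowers y⁆ = W → W ≤ Q

def JT6 : Prop := U1.{u} → G1.{u} → T5.{u} → T6a.{u} → ∀ (G : Type u) [Group G] [Finite G]
  (M Q P : Subgroup G) (y z r : G), Z0 M Q P y z r → False

/-! ### Glue -/

theorem mem_C1_self (y : G) : y ∈ C1 y := mem_centralizer_singleton_iff.2 rfl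

theorem pj_mk (M : Subgroup G) [(O2 M).subgroupOf M |>.Normal] :
    Pj M (QuotientGroup.mk' ((O2 M).subgroupOf M)) :=
  ⟨QuotientGroup.mk'_surjective _, QuotientGroup.ker_mk' _⟩

theorem no_o2 {M Q : Subgroup G} (h : Ua M Q) : ((O2 M).subgroupOf M).Normal := by
  rw [h.o2]
  exact normal_subgroupOf_of_le_normalizer h.no.ge

theorem n1_of (lr : LR.{u}) (s6a : S6a.{u}) (g1 : G1.{u}) (qx : QX.{u}) (str : STR.{u}) (s1 : JS1.{u}) (s2 : S2.{u})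
    (s3 : JS3.{u}) (s4 : JS4.{u}) (s5 : JS5.{u}) (pm : PM) (s6 : JS6.{u}) (cp : CP.{u})
    (pu : PU.{u}) (s8 : JS8.{u}) : N1.{u} := fun G _ _ M Q P y z r h => by
  by_contra hn
  have : Fact (Nat.Prime 2) := ⟨Nat.prime_two⟩
  obtain ⟨⟨B, hB, hBP, -, -⟩, -⟩ := g1 G M Q P y z r h.toUa h.lt h.PM h.yM
  obtain ⟨X, hX, hc, hQ, hM, -⟩ := qx G M Q B (C1 y) (O2 (C1 y)) h.toUa hB
    (hBP.trans (sup_le h.PM (zpowers_le.2 h.yM)))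
    (hBP.trans (sup_le h.lt.Py (zpowers_le.2 (mem_C1_self y)))) (isPGroup_pCoreOf _) hn
    (self_le_normalizer_pCoreOf _)
  have := no_o2 h.toUa
  have hp := pj_mk M
  have sc := s1 lr str G _ M Q P X _ ⟨y, h.yM⟩ ⟨r, h.rM⟩ z h hp hX hc hQ hM
  obtain ⟨L, hL, hXL, hy⟩ := s2 _ _ _ _ _ sc
  obtain ⟨h1, h2⟩ := s3 _ _ _ L _ _ sc hL hXL hy
  obtain ⟨a, b, c, d⟩ := s4 _ _ _ L _ _ sc hL h1 h2
  obtain ⟨L', h7⟩ := s5 G _ M Q P X _ ⟨y, h.yM⟩ ⟨r, h.rM⟩ L h.o2 hp hQ hM h.PM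
    (hc (mem_C1_self y)) sc.y3 h1 h2 a b c d
  obtain ⟨D, V, l, t, s, hu⟩ := s6 pm s6a G M Q L' X P y z r h h7
  exact s8 g1 cp qx pu G M Q X P D V y z r l t s h hc hQ hu

theorem t5_of (lr : LR.{u}) (str : STR.{u}) (t2 : T2.{u}) (a : JT5a.{u}) (b : JT5b.{u}) (c : JT3a.{u})
    (d : JT3b.{u}) (e : JT3c.{u}) (nab : NAb.{u}) (f : T4a.{u}) (g : T4b.{u}) : T5.{u} :=
  fun G _ _ M Q P W y z r h hW hM hy hz hc => by
  by_contra hn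
  have := no_o2 h.toUa
  have hp := pj_mk M
  have zM : z ∈ M := h.c0 (mem_C1_self z)
  obtain ⟨S, sd⟩ := a lr str t2 G _ M Q P W _ ⟨y, h.yM⟩ ⟨z, zM⟩ ⟨r, h.rM⟩ h hp hW hM hy hz hc hn
  obtain ⟨L, hL, h1, h2, h3⟩ := c _ S _ _ _ _ sd
  obtain ⟨h4, h5⟩ := d _ S _ L _ _ _ sd hL h1 h2 h3
  exact b f g G _ M Q _ ⟨y, h.yM⟩ L h.toUa hp h.lt.y3 h.d (e nab _ S _ L _ _ _ sd hL h5) h4

theorem na_of (ae : AE.{u}) (pk : PK.{u}) (g1 : G1.{u}) (cp : CP.{u}) (n1 : N1.{u}) (t1 : JT1.{u})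
    (u1 : U1.{u}) (t5 : T5.{u}) (t6a : T6a.{u}) (t6 : JT6.{u}) : NA.{u} :=
  fun G _ _ M Q H B h hH hB hl ha => by
  obtain ⟨y, hy⟩ := ae G M Q H B h hH hB hl ha
  obtain ⟨P, z, r, he⟩ := pk G M Q y hy
  exact t6 u1 g1 t5 t6a G M Q P y z r (t1 t6a g1 cp pk n1 G M Q P y z r he)

end H48.DP2
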