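import Cfsg.Agent.H48.BgZ2

/-! BGS-EZ1: an element of `Z` is not fused into `Q - Z`. -/

set_option autoImplicit false
set_option linter.unusedSectionVars false
set_option maxHeartbeats 400000

namespace H48.BgZ

open Cfsg Subgroup H98 H1.Gold H85.TW H15.BG H25.BG H20.BgET

universe u

variable {G : Type u} [Group G] [Finite G] {k K : Type} [Field k] [Field K] [Algebra k K]
  [Finite k] [Finite K] [CharP k 2] [CharP K 2] {d : Dat G k K} {E W Q T X Y : Subgroup G}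
  {p : G → (k × k) × K} {m : k} {x y g e e' v z : G}

theorem three_sub {S P : k → Prop} (add : ∀ a b, S a → S b → S (a + b)) {c₁ c₂ : k} (h1 : c₁ ≠ 0)
    (h2 : c₂ ≠ 0) (h3 : c₁ + c₂ ≠ 0) (hP : ∀ a, P a → S (a * c₁) ∧ S (a * c₂))
    (tri : ∀ a b, P a ∨ P b ∨ P (a + b)) (b : k) : S b := by
  by_contra n
  have key : ∀ c, c ≠ 0 → (∀ a, P a → S (a * c)) → ∀ a, ¬ P a → ¬ S (a * c) := by
    intro c c0 h a na s
    refine n ?_
    rw [← div_mul_cancel₀ b c0]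
    rcases tri a (b / c) with t | t | t
    · exact absurd t na
    · exact h _ t
    · simpa [add_mul, ← add_assoc, CharTwo.add_self_eq_zero] using add _ _ s (h _ t)
  have n1 : ¬ P (b / c₁) := fun t => n (by simpa [h1] using (hP _ t).1)
  have n2 := key c₂ h2 (fun a t => (hP a t).2) _ n1
  have n3 := key _ h3 (fun a t => by simpa [mul_add] using add _ _ (hP a t).1 (hP a t).2) _ n1
  have e : b / c₁ * c₂ / c₁ * c₁ = b / c₁ * c₂ := div_mul_cancel₀ _ h1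
  rcases tri (b / c₁) (b / c₁ * c₂ / c₁) with t | t | t
  · exact n1 t
  · exact n2 (e ▸ (hP _ t).1)
  · exact n3 (by simpa only [add_mul, mul_add, e] using (hP _ t).1)

/-- Orthogonal singular vectors are proportional. -/
theorem prop_of_sing (q : QE k K) {a b : (k × k) × K} (h0 : a.1.2 ≠ 0)
    (h1 : a.1.1 * a.1.2 + q.N a.2 = 0) (h2 : b.1.1 * b.1.2 + q.N b.2 = 0) (h3 : q.β b a = 0) :
    (b.1.2 / a.1.2) • a = b := by
  obtain ⟨⟨a1, a2⟩, a3⟩ := a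
  obtain ⟨⟨b1, b2⟩, b3⟩ := b
  simp only [QE.β] at h0 h1 h2 h3 ⊢
  obtain ⟨s, rfl⟩ : ∃ s, b2 = s * a2 := ⟨b2 / a2, (div_mul_cancel₀ _ h0).symm⟩
  rw [mul_div_cancel_right₀ _ h0]
  have two := CharTwo.two_eq_zero (R := k)
  have e : q.N (b3 + s • a3) = 0 := by
    rw [q.N_add, q.N_smul, q.B_smul_right]
    linear_combination h2 + s ^ 2 * h1 + s * h3 - (b1 * s * a2 + s ^ 2 * a1 * a2) * two
  obtain rfl : b3 = s • a3 := CharTwo.add_eq_zero.1 (q.N_eq_zero.1 e)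
  rw [q.B_smul_left, q.B_self, mul_zero, add_zero] at h3
  have : b1 = s * a1 := mul_right_cancel₀ h0 (by linear_combination h3 - s * a2 * a1 * two)
  simp [this]

section PE

variable (L : LocE d E) (h : PE d E W Q p m)
include L h

theorem notF (hz : z ∈ d.Z) (hv : v ∈ d.Z ⊔ E) (c : IsConj z v) : v ∈ d.Z := by
  have D := L.toUD
  have vQ := FQ h D hv
  obtain ⟨e, he, ce⟩ := PE.exists_c h vQ
  obtain ⟨b, rfl⟩ := ex_ι h D (PE.EQ h he) vQ (Prod.ext (Prod.ext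
    (((h.memF v vQ).1 hv).1.trans (PE.pE h he).1.symm) ce.symm)
    (((h.memF v vQ).1 hv).2.trans (PE.pE h he).2.symm))
  by_cases e1 : e = 1
  · rw [e1, one_mul]; exact D.ι_mem b
  obtain ⟨w, hw, w1⟩ := h.surjW (b / (p e).1.2)
  refine absurd ((isConj_iff.2 ⟨w, ?_⟩ : IsConj e (e * d.ι b)).trans c.symm) (L.notD z hz e he e1)
  rw [h.comQ _ (PE.WQ h hw) _ (PE.EQ h he), mul_assoc,
    PE.Z_cen h D (D.ι_mem _) (inv_mem (PE.WQ h hw)), ← mul_assoc, mul_inv_cancel_right]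
  simp [QE.β, PE.pW h hw, PE.pE h he, w1, PE.cE_ne h L.toHE he e1]

theorem sx_bound (lt : cj g d.Z ⊓ d.Z < cj g d.Z) (hZ : cj g d.Z ≤ Q) (s : SX Y d.Z) {r : ℕ}
    (hr : (cj g Y ⊓ Q).relIndex (cj g Y) ≤ r) : Nat.card Y ≤ r ^ 2 * Nat.card k := by
  have D := L.toUD
  have s' := s.cj g
  have h1 := L.sxiso _ _ (cj g Y ⊓ Q) _ s' (le_inf s'.le hZ) inf_le_left lt
    fun x hx y hy => ⟨s'.com x hx.1 y hy.1, PE.comm_eq h D hx.2 hy.2 ▸ D.ι_mem _⟩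
  have h2 := card_rel' Q (cj g Y)
  rw [card_cj, card_cj, L.cardZ] at h1
  rw [card_cj] at h2
  have h3 : Nat.card Y ≤ Nat.card ↥(cj g Y ⊓ Q) * r := h2 ▸ Nat.mul_le_mul_left _ hr
  have h4 : Nat.card Y * Nat.card Y ≤ Nat.card Y * (r ^ 2 * Nat.card k) :=
    calc Nat.card Y * Nat.card Y
        ≤ (Nat.card ↥(cj g Y ⊓ Q) * r) * (Nat.card ↥(cj g Y ⊓ Q) * r) := Nat.mul_le_mul h3 h3
      _ = Nat.card ↥(cj g Y ⊓ Q) ^ 2 * r ^ 2 := by ring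
      _ ≤ Nat.card Y * Nat.card k * r ^ 2 := Nat.mul_le_mul_right _ h1
      _ = _ := by ring
  exact Nat.le_of_mul_le_mul_left h4 Nat.card_pos

theorem mem_C (hv : v ∈ Q) : x ∈ Q ⊓ cen1 v ↔ x ∈ Q ∧ d.β (p x) (p v) = 0 :=
  and_congr_right fun hx => H3.Bg.mc.trans (PE.comm_iff h L.toUD hx hv)

/-- The subgroup `B` of order `q³`. -/
theorem exists_B (hv : v ∈ Q) (hc : (p v).1.2 ≠ 0 ∨ ((p v).1.2 = 0 ∧ (p v).2 = 0)) :
    ∃ B ≤ Q ⊓ cen1 v, SX B d.Z ∧ Nat.card k ^ 3 ≤ Nat.card B := by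
  have D := L.toUD
  let N : AddSubgroup ((k × k) × K) :=
    { carrier := {a | a.1.2 = 0 ∧ a.1.1 = d.B a.2 (p v).2 / (p v).1.2}
      zero_mem' := by simp
      add_mem' := fun {a b} ha hb => ⟨by simp [ha.1, hb.1], by
        simp [ha.2, hb.2, d.B_add_left, add_div]⟩
      neg_mem' := fun {a} ha => by
        rwa [show -a = a by ext <;> simp [CharTwo.neg_eq]] }
  have mem : ∀ x, x ∈ (PE.ad h).pre N ↔ x ∈ Q ∧ (p x).1.2 = 0 ∧
    (p x).1.1 = d.B (p x).2 (p v).2 / (p v).1.2 := fun x => Iff.rfl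
  have ex : ∀ η, ∃ y ∈ (PE.ad h).pre N, (p y).2 = η := fun η => by
    obtain ⟨y, hy, e⟩ := PE.exists_p h D (d.B η (p v).2 / (p v).1.2) η
    exact ⟨y, (mem y).2 ⟨hy, by rw [e], by rw [e]⟩, by rw [e]⟩
  have ZB : d.Z ≤ (PE.ad h).pre N := fun z hz => (mem z).2 ⟨ZQ h D hz, by simp [pZ h D hz]⟩
  refine ⟨(PE.ad h).pre N, fun x hx => (mem_C L h hv).2 ⟨hx.1, ?_⟩,
    ⟨ZB, fun x hx => mem_centralizer_iff.2 fun z hz => PE.Z_cen h D hz hx.1,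
      fun v hv => D.Z_sq hv, fun x hx => h.sqQ x hx.1 ▸ D.ι_mem _,
      fun x hx y hy => PE.comm_eq h D hx.1 hy.1 ▸ D.ι_mem _, fun x hx nx z hz => ?_⟩, ?_⟩
  · obtain ⟨-, a1, a2⟩ := (mem x).1 hx
    rcases hc with c | c
    · simp [QE.β, a1, a2, c, CharTwo.add_self_eq_zero]
    · simp [QE.β, a1, c]
  · obtain ⟨xQ, a1, a2⟩ := (mem x).1 hx
    obtain ⟨b, rfl⟩ := (D.memZ z).1 hz
    obtain ⟨η, e⟩ := d.B_surj (x := (p x).2) (fun c => nx ((h.p_ker x xQ).1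
      (Prod.ext (Prod.ext (by simp [a2, c]) a1) c))) b
    obtain ⟨y, hy, rfl⟩ := ex η
    exact ⟨y, hy, by rw [PE.comm_eq h D xQ hy.1]; simp [QE.β, a1, ((mem y).1 hy).2.1, e]⟩
  · have := cnt (φ := fun x => (p x).2) (fun a ha b hb => by simp [h.p_mul a ha.1 b hb.1]) ex ZB
      fun z hz => by simp [pZ h D hz]
    rwa [L.cardZ, L.card, ← pow_succ'] at this

/-- Elements of `C_Q(v)` with a prescribed coordinate `c`, for `ξ ≠ 0`. -/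
theorem exists_cc (hv : v ∈ Q) (c0 : (p v).1.2 = 0) (n : (p v).2 ≠ 0) (he : e ∈ E) :
    ∃ x ∈ Q ⊓ cen1 v, (p x).1.2 = (p e).1.2 := by
  have D := L.toUD
  obtain ⟨η, a⟩ := d.B_surj n ((p e).1.2 * (p v).1.1)
  obtain ⟨u, hu, rfl⟩ := D.π_surj η
  have b := h.p_mul _ (PE.EQ h he) _ (PE.UQ h hu)
  refine ⟨e * u, (mem_C L h hv).2 ⟨mul_mem (PE.EQ h he) (PE.UQ h hu), ?_⟩, by
    simp [b, PE.pU1 h hu]⟩
  simp [QE.β, b, PE.pU1 h hu, h.pU u hu, PE.pE h he, c0, d.B_comm (d.π u), a,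
    CharTwo.add_self_eq_zero]

theorem W_le_C (hv : v ∈ Q) (c0 : (p v).1.2 = 0) : W ≤ Q ⊓ cen1 v := fun w hw =>
  (mem_C L h hv).2 ⟨PE.WQ h hw, by simp [QE.β, PE.pW h hw, c0]⟩

theorem fill_C (hv : v ∈ Q) (b : k) :
    ∃ x ∈ (Q ⊓ cen1 v) ⊓ Q, ∃ y ∈ (Q ⊓ cen1 v) ⊓ Q, d.β (p x) (p y) = b := by
  have D := L.toUD
  by_cases hc : (p v).1.2 ≠ 0 ∨ ((p v).1.2 = 0 ∧ (p v).2 = 0)
  · obtain ⟨B, h1, s, h2⟩ := exists_B L h hv hc
    obtain ⟨x, hx, n⟩ := SetLike.not_le_iff_exists.1 fun c : B ≤ d.Z => by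
      have a := h2.trans (card_le_of_le c)
      rw [L.cardZ] at a
      have := d.four
      have : Nat.card k * (4 * 4) ≤ Nat.card k ^ 3 := by
        rw [pow_succ', sq]; exact Nat.mul_le_mul_left _ (Nat.mul_le_mul this this)
      omega
    obtain ⟨y, hy, e⟩ := s.onto x hx n _ (D.ι_mem b)
    rw [PE.comm_eq h D (h1 hx).1 (h1 hy).1] at e
    exact ⟨x, ⟨h1 hx, (h1 hx).1⟩, y, ⟨h1 hy, (h1 hy).1⟩, D.ι_inj e⟩
  · push Not at hc
    obtain ⟨e, he, -, -, e1, -, -⟩ := two_ne L.toHE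
    obtain ⟨x, hx, a⟩ := exists_cc L h hv hc.1 (hc.2 hc.1) he
    obtain ⟨w, hw, w1⟩ := h.surjW (b / (p e).1.2)
    exact ⟨w, ⟨W_le_C L h hv hc.1 hw, PE.WQ h hw⟩, x, ⟨hx, hx.1⟩, by
      simp [QE.β, PE.pW h hw, a, w1, PE.cE_ne h L.toHE he e1]⟩

theorem surj_p (hf : Full E p) (a : (k × k) × K) : ∃ x ∈ Q, p x = a := by
  obtain ⟨x, hx, e1⟩ := PE.exists_p h L.toUD a.1.1 a.2
  obtain ⟨e, he, e2⟩ := hf a.1.2
  refine ⟨x * e, mul_mem hx (PE.EQ h he), ?_⟩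
  rw [h.p_mul _ hx _ (PE.EQ h he), e1]
  ext <;> simp [PE.pE h he, e2]

theorem card_pre_line (hf : Full E p) {a : (k × k) × K} (n : a ≠ 0) :
    Nat.card ((PE.ad h).pre (H15.BG.line k a)) = Nat.card k ^ 2 := by
  rw [(PE.ad h).card_pre (ZQ h L.toUD) h.p_ker fun b _ => surj_p L h hf b, L.cardZ, card_line n, sq]

end PE

variable (L : LocE d E)
include L

/-- The case `c = 0 ≠ ξ`. -/
theorem caseIb (t : TQ d E W Q p m T) (hv : v ∈ Q) (c0 : (p v).1.2 = 0) (n : (p v).2 ≠ 0)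
    (hX : cj g (Q ⊓ cen1 v) ≤ T) (hF : cj g (Q ⊓ cen1 v) ≤ nor (d.Z ⊔ E)) (hZ : cj g d.Z ≤ Q) :
    cj g d.Z ≤ d.Z := by
  have D := L.toUD
  have h := t.toPE
  have sq : ∀ x ∈ Q, g * x * g⁻¹ * (g * x * g⁻¹) ∈ Q := fun x hx => by
    rw [conj_mul, h.sqQ x hx]; exact hZ (conj_mem_cj (D.ι_mem _))
  have tri : ∀ x ∈ Q ⊓ cen1 v, ∀ y ∈ Q ⊓ cen1 v,
      g * x * g⁻¹ ∈ Q ∨ g * y * g⁻¹ ∈ Q ∨ g * (x * y) * g⁻¹ ∈ Q := fun x hx y hy => by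
    by_contra! c
    obtain ⟨a, ra⟩ := refl_of L h (tp t) (hX (conj_mem_cj hx)) (hF (conj_mem_cj hx)) (sq x hx.1) c.1
    obtain ⟨b, rb⟩ := refl_of L h (tp t) (hX (conj_mem_cj hy)) (hF (conj_mem_cj hy)) (sq y hy.1)
      c.2.1
    have xy := hX (conj_mem_cj (mul_mem hx hy))
    refine c.2.2 (t.trT _ xy (hF (conj_mem_cj (mul_mem hx hy))) ?_)
    rw [← conj_mul] at xy ⊢
    exact (L.rr _ _ _ _ ra rb (e2_of_mem t.sylT.isPGroup xy)).1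
  have com : ∀ w ∈ W, ∀ x ∈ Q, g * w * g⁻¹ ∈ Q → g * x * g⁻¹ ∈ Q →
      g * d.ι ((p w).1.1 * (p x).1.2) * g⁻¹ ∈ d.Z := fun w hw x hx a b => by
    have := cj_comm (g := g) h D (PE.WQ h hw) hx
    rw [PE.comm_eq h D a b] at this
    have c := D.ι_mem (d.β (p (g * w * g⁻¹)) (p (g * x * g⁻¹)))
    rw [← this] at c
    simpa [QE.β, PE.pW h hw] using c
  obtain ⟨e₁, h1, e₂, h2, n1, n2, n3⟩ := two_ne L.toHE
  obtain ⟨x₁, a1, b1⟩ := exists_cc L h hv c0 n h1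
  obtain ⟨x₂, a2, b2⟩ := exists_cc L h hv c0 n h2
  have c1 := PE.cE_ne h L.toHE h1 n1
  have c2 := PE.cE_ne h L.toHE h2 n2
  have c3 := PE.cE_ne h L.toHE (mul_mem h1 h2) n3
  rw [h.p_mul _ (PE.EQ h h1) _ (PE.EQ h h2), Prod.fst_add, Prod.snd_add] at c3
  rintro _ ⟨z, hz, rfl⟩
  obtain ⟨b, rfl⟩ := (D.memZ z).1 hz
  show g * d.ι b * g⁻¹ ∈ d.Z
  by_cases hW : ∀ w ∈ W, g * w * g⁻¹ ∈ Q
  · obtain ⟨x, hx, c, s⟩ : ∃ x ∈ Q, (p x).1.2 ≠ 0 ∧ g * x * g⁻¹ ∈ Q := by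
      rcases tri x₁ a1 x₂ a2 with s | s | s
      · exact ⟨x₁, a1.1, b1 ▸ c1, s⟩
      · exact ⟨x₂, a2.1, b2 ▸ c2, s⟩
      · exact ⟨_, mul_mem a1.1 a2.1, by simpa [h.p_mul _ a1.1 _ a2.1, b1, b2] using c3, s⟩
    obtain ⟨w, hw, w1⟩ := h.surjW (b / (p x).1.2)
    simpa [w1, c] using com w hw x hx (hW w hw) s
  push Not at hW
  obtain ⟨w₀, hw₀, nw⟩ := hW
  have fix : ∀ x ∈ Q ⊓ cen1 v, ∃ x' ∈ Q, (p x').1.2 = (p x).1.2 ∧ g * x' * g⁻¹ ∈ Q := fun x hx => by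
    rcases tri x hx w₀ (W_le_C L h hv c0 hw₀) with s | s | s
    · exact ⟨x, hx.1, rfl, s⟩
    · exact absurd s nw
    · exact ⟨_, mul_mem hx.1 (PE.WQ h hw₀), by
        simp [h.p_mul _ hx.1 _ (PE.WQ h hw₀), PE.pW h hw₀], s⟩
  obtain ⟨y₁, d1, f1, s1⟩ := fix x₁ a1
  obtain ⟨y₂, d2, f2, s2⟩ := fix x₂ a2
  refine three_sub (S := fun b => g * d.ι b * g⁻¹ ∈ d.Z)
    (P := fun a => ∃ w ∈ W, (p w).1.1 = a ∧ g * w * g⁻¹ ∈ Q)
    (fun a b ha hb => by rw [D.ι_add, ← conj_mul]; exact mul_mem ha hb) c1 c2 c3 ?_ (fun a a' => ?_) b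
  · rintro _ ⟨w, hw, rfl, s⟩
    exact ⟨by rw [← b1, ← f1]; exact com w hw _ d1 s s1, by rw [← b2, ← f2]; exact com w hw _ d2 s s2⟩
  · obtain ⟨w, hw, rfl⟩ := h.surjW a
    obtain ⟨w', hw', rfl⟩ := h.surjW a'
    exact (tri w (W_le_C L h hv c0 hw) w' (W_le_C L h hv c0 hw')).imp (fun s => ⟨w, hw, rfl, s⟩)
      (Or.imp (fun s => ⟨w', hw', rfl, s⟩) fun s => ⟨_, mul_mem hw hw', by
        simp [h.p_mul _ (PE.WQ h hw) _ (PE.WQ h hw')], s⟩)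

/-- A reflection in `N(F)` does not centralise the preimage of a line `k x`, `ξ x ≠ 0`. -/
theorem not_cen (t : TQ d E W Q p m T) (hf : Full E p) (he : e ∈ T) (hF : e ∈ nor (d.Z ⊔ E))
    (n : e ∉ Q) (hx : x ∈ Q) (x0 : (p x).2 ≠ 0) (sq : e * e ∈ (PE.ad t.toPE).pre (H15.BG.line k (p x)))
    (c : ∀ y ∈ (PE.ad t.toPE).pre (H15.BG.line k (p x)), e * y * e⁻¹ = y) : False := by
  have D := L.toUD
  have h := t.toPE
  obtain ⟨y, r⟩ := refl_of L h (tp t) he hF sq.1 n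
  have N0 : d.N y ≠ 0 := fun c => r.ne (d.N_eq_zero.1 c)
  obtain ⟨s, hs⟩ : ∃ s : k, (p x).2 = s • y := by
    have := xi_refl L h hF r hx
    rw [c x ⟨hx, 1, one_smul _ _⟩, left_eq_add, smul_eq_zero, div_eq_zero_iff, d.B_comm] at this
    exact d.B_eq_zero r.ne ((this.resolve_right r.ne).resolve_right N0)
  obtain ⟨b, hb⟩ := sq.2
  obtain ⟨η, hη⟩ := d.B_surj r.ne (b * s * d.N y)
  obtain ⟨u₀, hu, rfl⟩ := D.π_surj η
  have uQ := PE.UQ h hu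
  have uQ' := PE.UQ h (conj_mem_nor r.nor hu)
  have r' : d.Refl (e * u₀) y := ⟨mul_mem r.nor (le_normalizer hu), r.ne,
    mul_mem r.cenZ fun z hz => D.Z_comm hz hu, fun u a => by
      rw [← Ad.conj D.π_mul hu a, ← r.act _ (mul_mem (mul_mem hu a) (inv_mem hu))]
      congr 1; group⟩
  have ff : e * u₀ * (e * u₀) = e * u₀ * e⁻¹ * (e * e) * u₀ := by group
  have inv := L.inv _ y r' fun u a => U_comm h D a
    (ff ▸ mul_mem (mul_mem uQ' sq.1) uQ) (by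
      rw [ff, h.p_mul _ (mul_mem uQ' sq.1) _ uQ, h.p_mul _ uQ' _ sq.1, Prod.snd_add, Prod.snd_add,
        h.pU _ (conj_mem_nor r.nor hu), h.pU _ hu, r.act _ hu, ← hb, Prod.smul_snd, hs, d.B_comm,
        hη, mul_div_cancel_right₀ _ N0, smul_smul, add_assoc (d.π u₀), CharTwo.add_self_eq_zero,
        add_zero, CharTwo.add_self_eq_zero])
  obtain ⟨κ, a₀, a1, a2⟩ := act_F L t he hF r.cenZ
  refine not_quad d.four (n := d.N (p x).2) (fun c => x0 (d.N_eq_zero.1 c))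
    (b := κ * (p x).1.1 + a₀ * (p x).1.2 + d.B (d.π u₀) (p x).2) fun a => ?_
  obtain ⟨w, hw, w1⟩ := h.surjW (a * (p x).1.1)
  obtain ⟨f, hf', f1⟩ := hf (a * (p x).1.2)
  obtain ⟨u, hu', u1⟩ := D.π_surj (a • (p x).2)
  have a3 : e * u * e⁻¹ = u * d.ι (d.N (d.π u) + d.B (d.π u₀) (d.π u)) := by
    have b1 := inv u (D.mem_A.2 ⟨hu', a * s, by rw [u1, hs, smul_smul]⟩)
    have b2 : u₀ * u * u₀⁻¹ = u * d.ι (d.B (d.π u₀) (d.π u)) := by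
      rw [D.comm u₀ hu u hu', mul_assoc, D.Z_comm (D.ι_mem _) (inv_mem hu), ← mul_assoc,
        mul_inv_cancel_right]
    rw [show e * u₀ * u * (e * u₀)⁻¹ = e * (u₀ * u * u₀⁻¹) * e⁻¹ by group, b2, ← conj_mul,
      ← r.cenZ _ (D.ι_mem _), mul_inv_cancel_right, inv_eq h D (PE.UQ h hu'), PE.pU1 h hu',
      h.pU u hu'] at b1
    rw [D.ι_add, ← mul_assoc, eq_comm, ← eq_mul_inv_iff_mul_eq,
      inv_eq_of_mul_eq_one_right (ι_sq D _), b1]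
    simp
  have b3 := c (w * f * u) ⟨mul_mem (mul_mem (PE.WQ h hw) (PE.EQ h hf')) (PE.UQ h hu'), a, by
    rw [h.p_mul _ (mul_mem (PE.WQ h hw) (PE.EQ h hf')) _ (PE.UQ h hu'),
      h.p_mul _ (PE.WQ h hw) _ (PE.EQ h hf')]
    ext <;> simp [PE.pW h hw, PE.pE h hf', PE.pU1 h hu', h.pU u hu', w1, f1, u1]⟩
  rw [← conj_mul, ← conj_mul, a1 w hw, a2 f hf', a3, mul_ι h D (PE.EQ h hf'),
    mul_ι h D (PE.UQ h hu'), mul_eq_left, D.ι_eq_one, w1, f1, u1, d.N_smul, d.B_smul_right] at b3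
  linear_combination b3 - (a * (κ * (p x).1.1 + a₀ * (p x).1.2 + d.B (d.π u₀) (p x).2)) *
    CharTwo.two_eq_zero (R := k)

/-- The case of a swap. -/
theorem caseII (t : TQ d E W Q p 0 T) (hf : Full E p) (hv : v ∈ Q) (vv : v * v = 1)
    (c0 : (p v).1.2 ≠ 0) (hX : cj g (Q ⊓ cen1 v) ≤ T) (hZ : cj g d.Z ≤ Q)
    (lt : cj g d.Z ⊓ d.Z < cj g d.Z) (he' : e' ∈ cj g (Q ⊓ cen1 v)) (s : Swp d E W e') : False := by
  have D := L.toUD
  have h := t.toPE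
  have q4 := d.four
  have v0 : p v ≠ 0 := fun c => c0 (by rw [c]; rfl)
  have sv := sing h D hv vv
  obtain ⟨E₁, hE⟩ : ∃ E₁, (PE.ad h).pre (H15.BG.line k (p v)) = E₁ := ⟨_, rfl⟩
  have mE : ∀ x, x ∈ E₁ ↔ x ∈ Q ∧ ∃ a : k, a • p v = p x := fun x => hE ▸ Iff.rfl
  have cE : Nat.card E₁ = Nat.card k ^ 2 := hE ▸ card_pre_line L h hf v0
  have ZE : d.Z ≤ E₁ := fun z hz => (mE z).2 ⟨ZQ h D hz, 0, by rw [pZ h D hz, zero_smul]⟩
  have cen : ∀ x ∈ cj g E₁, ∀ y ∈ cj g (Q ⊓ cen1 v), x * y = y * x := by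
    rintro _ ⟨x, hx, rfl⟩ _ ⟨y, hy, rfl⟩
    obtain ⟨xQ, a, ha⟩ := (mE x).1 hx
    show g * x * g⁻¹ * (g * y * g⁻¹) = g * y * g⁻¹ * (g * x * g⁻¹)
    have b := ((mem_C L h hv).1 hy).2
    rw [conj_mul, conj_mul, ← (PE.comm_iff h D hy.1 xQ).2]
    rw [← ha]
    simp only [QE.β, Prod.smul_fst, Prod.smul_snd, smul_eq_mul, d.B_smul_right] at b ⊢
    linear_combination a * b
  have el : ∀ x ∈ cj g E₁, x * x = 1 := by
    rintro _ ⟨x, hx, rfl⟩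
    obtain ⟨xQ, a, ha⟩ := (mE x).1 hx
    show g * x * g⁻¹ * (g * x * g⁻¹) = 1
    rw [conj_mul, conj_eq_one_iff, h.sqQ x xQ, D.ι_eq_one, ← ha]
    simp only [Prod.smul_fst, Prod.smul_snd, smul_eq_mul, d.N_smul]
    linear_combination a ^ 2 * sv
  have EC : E₁ ≤ Q ⊓ cen1 v := fun x hx => by
    obtain ⟨xQ, a, ha⟩ := (mE x).1 hx
    refine (mem_C L h hv).2 ⟨xQ, ?_⟩
    rw [← ha]
    simp only [QE.β, Prod.smul_fst, Prod.smul_snd, smul_eq_mul, d.B_smul_left, d.B_self]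
    linear_combination (a * (p v).1.1 * (p v).1.2) * CharTwo.two_eq_zero (R := k)
  have big : Nat.card k ^ 4 ≤ Nat.card ↥(Q ⊓ cen1 v) := by
    have := cnt (Q := Q ⊓ cen1 v) (φ := fun x => ((p x).1.2, (p x).2))
      (fun a ha b hb => by simp [h.p_mul a ha.1 b hb.1]) (fun a => ?_) (ZE.trans EC)
      fun z hz => by simp [pZ h D hz]
    · rw [L.cardZ, Nat.card_prod, L.card] at this
      exact le_of_eq_of_le (by ring) this
    obtain ⟨x, hx, e⟩ := surj_p L h hf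
      (((a.1 * (p v).1.1 + d.B a.2 (p v).2) / (p v).1.2, a.1), a.2)
    exact ⟨x, (mem_C L h hv).2 ⟨hx, by
      simp only [QE.β, e, div_mul_cancel₀ _ c0]
      rw [add_assoc, CharTwo.add_self_eq_zero]⟩, by rw [e]⟩
  have sqX : ∀ x ∈ cj g (Q ⊓ cen1 v), x * x ∈ cj g d.Z := by
    rintro _ ⟨x, hx, rfl⟩
    show g * x * g⁻¹ * (g * x * g⁻¹) ∈ _
    rw [conj_mul, h.sqQ x hx.1]; exact conj_mem_cj (D.ι_mem _)
  obtain ⟨i4, -, i2⟩ := t.idx4 _ hX fun x hx => hZ (sqX x hx)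
  have s' := (sxQ L h hf).cj g
  have XQ : cj g (Q ⊓ cen1 v) ≤ cj g Q := cj_mono g inf_le_left
  have MX : cj g (Q ⊓ cen1 v) ⊓ Q ⊔ cj g E₁ ≤ cj g (Q ⊓ cen1 v) :=
    sup_le inf_le_left (cj_mono g EC)
  have h1 := L.sxiso _ _ (cj g (Q ⊓ cen1 v) ⊓ Q ⊔ cj g E₁) _ s'
    ((cj_mono g ZE).trans le_sup_right) (MX.trans XQ) lt (comm_sup (fun a ha x hx => cen a ha x (MX hx))
      fun x hx y hy => ⟨s'.com x (XQ hx.1) y (XQ hy.1), PE.comm_eq h D hx.2 hy.2 ▸ D.ι_mem _⟩)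
  have cE' : Nat.card E ≤ Nat.card k := by
    have := Ad.card_le (X := E) (V := ⊥) (p := fun x => (p x).1.2)
      (fun a ha b hb => by simp [h.p_mul a (PE.EQ h ha) b (PE.EQ h hb)])
      (fun x hx c => mem_bot.2 (by_contra fun n => PE.cE_ne h L.toHE hx n c)) (N := ⊤)
      fun _ _ => trivial
    simpa using this
  rw [card_cj, card_cj, L.cardZ, h.cardQ] at h1
  have h2 : Nat.card ↥(cj g (Q ⊓ cen1 v) ⊓ Q ⊔ cj g E₁) ≤ Nat.card k ^ 3 := by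
    refine (Nat.pow_le_pow_iff_left two_ne_zero).1 (h1.trans ?_)
    calc _ ≤ Nat.card k ^ 4 * Nat.card k * Nat.card k := by gcongr
      _ = _ := by ring
  have h3 := card_rel' Q (cj g (Q ⊓ cen1 v))
  rw [card_cj] at h3
  have h4 := card_le_of_le (le_sup_left : _ ≤ cj g (Q ⊓ cen1 v) ⊓ Q ⊔ cj g E₁)
  have h5 : Nat.card k ^ 3 * 4 ≤ Nat.card k ^ 4 := by rw [pow_succ _ 3]; gcongr
  have h6 : 0 < Nat.card k ^ 3 := by positivity
  have EQ : cj g E₁ ≤ Q := by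
    have : cj g (Q ⊓ cen1 v) ⊓ Q = cj g (Q ⊓ cen1 v) ⊓ Q ⊔ cj g E₁ :=
      eq_of_le_of_card_ge le_sup_left (by nlinarith)
    exact (le_sup_right.trans this.ge).trans inf_le_right
  obtain ⟨e, he, n⟩ := SetLike.not_le_iff_exists.1
    fun c : cj g (Q ⊓ cen1 v) ⊓ nor (d.Z ⊔ E) ≤ Q => by
      rw [← show cj g (Q ⊓ cen1 v) ⊓ Q = cj g (Q ⊓ cen1 v) ⊓ nor (d.Z ⊔ E) from
        le_antisymm (inf_le_inf_left _ (PE.Q_norF h D)) (le_inf inf_le_left c)] at i2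
      nlinarith
  obtain ⟨x, hx, nx⟩ := SetLike.not_le_iff_exists.1 fun c : cj g E₁ ≤ d.Z => by
    have := card_le_of_le c
    rw [card_cj, cE, L.cardZ] at this
    nlinarith
  have xQ := EQ hx
  have sg : ∀ y ∈ cj g E₁, (p y).1.1 * (p y).1.2 + d.N (p y).2 = 0 := fun y hy => by
    simpa using sing h D (EQ hy) (el y hy)
  have fx : e' * x * e'⁻¹ = x := by rw [← cen x hx e' he', mul_inv_cancel_right]
  have WF : x ∈ W ↔ x ∈ d.Z ⊔ E :=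
    ⟨fun a => fx ▸ s.2 ▸ conj_mem_cj a, fun a => fx ▸ s.1 ▸ conj_mem_cj a⟩
  have nW : x ∉ W := fun a => nx ((h.p_ker x xQ).1 (Prod.ext
    (Prod.ext ((h.memF x xQ).1 (WF.1 a)).1 (PE.pW h a).1) (PE.pW h a).2))
  have x2 : (p x).2 ≠ 0 := fun c => by
    have := sg x hx
    rw [c, d.N_zero, add_zero, mul_eq_zero] at this
    exact nW (this.elim (fun a => WF.2 ((h.memF x xQ).2 ⟨a, c⟩)) fun a => (h.memW x xQ).2 ⟨a, c⟩)
  have x1 : (p x).1.2 ≠ 0 := fun c => x2 (d.N_eq_zero.1 (by simpa [c] using sg x hx))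
  have eq : cj g E₁ = (PE.ad h).pre (H15.BG.line k (p x)) := eq_of_le_of_card_ge
    (fun y hy => ⟨EQ hy, _, prop_of_sing d.toQE x1 (sg x hx) (sg y hy)
      ((PE.comm_iff h D (EQ hy) xQ).1 (cen y hy x (cj_mono g EC hx)))⟩)
    (by rw [card_pre_line L h hf fun c => x2 (by rw [c]; rfl), card_cj, cE])
  exact not_cen L t hf (hX he.1) he.2 n xQ x2 (eq ▸ cj_mono g ZE (sqX e he.1)) fun y hy => by
    rw [← cen y (eq ▸ hy) e he.1, mul_inv_cancel_right]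

omit L in
theorem jobEZ1 : JobEZ1.{u} := by
  intro G _ _ k K _ _ _ _ _ _ _ d E W Q p m T L t z hz v hv c
  have D := L.toUD
  have h := t.toPE
  by_contra n
  obtain ⟨z₀, z1, z2, z3⟩ := ex_z0 L t
  have c0 : IsConj v z₀ := c.symm.trans (conjZ L hz z1 (by
    rintro rfl
    exact n (isConj_one_right.1 c ▸ one_mem _)) z2)
  have vv : v * v = 1 := IsConj.sq_one c (D.Z_sq hz)
  obtain ⟨g, hg, hX⟩ := ex_central t.sylT z3 c0 (inf_le_right : Q ⊓ cen1 v ≤ _)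
    (h.twoQ.to_le inf_le_left)
  have hZ := Z_star L t hX (fill_C L h hv)
  have ne : ¬ cj g d.Z ≤ d.Z := fun a =>
    n (conj_mem_cj_iff.1 ((eq_of_le_of_card_ge a (card_cj g _).ge).ge (hg ▸ z1)))
  have lt : cj g d.Z ⊓ d.Z < cj g d.Z := lt_of_le_of_ne inf_le_left fun a => ne (inf_eq_left.1 a)
  by_cases hF : cj g (Q ⊓ cen1 v) ≤ nor (d.Z ⊔ E)
  · by_cases hc : (p v).1.2 ≠ 0 ∨ ((p v).1.2 = 0 ∧ (p v).2 = 0)
    · obtain ⟨B, h1, s, h2⟩ := exists_B L h hv hc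
      have h3 := (t.idx4 _ ((cj_mono g h1).trans hX) fun x hx => hZ ((s.cj g).sq x hx)).2.1
      rw [inf_eq_left.2 ((cj_mono g h1).trans hF)] at h3
      have h4 := h2.trans (sx_bound L h lt hZ s h3)
      have q4 := d.four
      have : Nat.card k * (4 * 4) ≤ Nat.card k ^ 3 := by
        rw [pow_succ', sq]; exact Nat.mul_le_mul_left _ (Nat.mul_le_mul q4 q4)
      omega
    · push Not at hc
      exact ne (caseIb L t hv hc.1 (hc.2 hc.1) hX hF hZ)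
  obtain ⟨e', he', n'⟩ := SetLike.not_le_iff_exists.1 hF
  obtain ⟨rfl, hf, s⟩ := (t.swp e' (hX he')).resolve_left n'
  refine caseII L t hf hv vv (fun c1 => ?_) hX hZ lt he' s
  have h1 : v ∈ cj e' (d.Z ⊔ E) := s.1 ▸ (h.memW v hv).2 ⟨c1, d.N_eq_zero.1 (by
    simpa [c1] using sing h D hv vv)⟩
  obtain ⟨f, hf', rfl⟩ := h1
  exact n (conj_mem_nor (D.mem_nor_Z (t.norT (hX he')).2)
    (notF L h hz hf' (c.trans (isConj_conj e' f).symm)))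

end H48.BgZ
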