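import Cfsg.Agent.H20.BgET
import Cfsg.Agent.H15.BGE3a

/-! BGS-EZ2: `Z` is strongly closed (and a small kit shared with BGS-EZ1). -/

set_option autoImplicit false
set_option linter.unusedSectionVars false
set_option maxHeartbeats 400000

namespace H48.BgZ

open Cfsg Subgroup H98 H1.Gold H85.TW H15.BG H25.BG H20.BgET

universe u

variable {G : Type u} [Group G] [Finite G] {k K : Type} [Field k] [Field K] [Algebra k K]
  [Finite k] [Finite K] [CharP k 2] [CharP K 2] {d : Dat G k K} {E W Q T X : Subgroup G}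
  {p : G → (k × k) × K} {m : k} {x y g e i v z : G}

theorem sq_surj (x : k) : ∃ y : k, y ^ 2 = x :=
  (Finite.injective_iff_surjective.1 (frobenius k 2).injective) x

theorem tp (t : TQ d E W Q p m T) : TP d E W Q p m T :=
  ⟨t.sylT.isPGroup, t.QT, t.norT.trans inf_le_left, t.norT.trans inf_le_right, t.swp⟩

theorem ι_sq (D : UD d) (a : k) : d.ι a * d.ι a = 1 := D.Z_sq (D.ι_mem a)

theorem conjZ (L : LocE d E) {z z' : G} (hz : z ∈ d.Z) (hz' : z' ∈ d.Z) (n : z ≠ 1) (n' : z' ≠ 1) :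
    IsConj z z' := by
  have D := L.toUD
  obtain ⟨a, rfl⟩ := (D.memZ z).1 hz
  obtain ⟨b, rfl⟩ := (D.memZ z').1 hz'
  have a0 : a ≠ 0 := fun c => n (D.ι_eq_one.2 c)
  obtain ⟨g, -, hg⟩ := L.co.scal (b / a) (div_ne_zero (fun c => n' (D.ι_eq_one.2 c)) a0)
  exact isConj_iff.2 ⟨g, by rw [hg, div_mul_cancel₀ _ a0]⟩

section PE

variable (h : PE d E W Q p m) (D : UD d)
include h D

theorem ZQ : d.Z ≤ Q := D.ZU.trans (PE.UQ h)

theorem pZ (hz : z ∈ d.Z) : p z = 0 := (h.p_ker z (ZQ h D hz)).2 hz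

theorem mul_ι (hy : y ∈ Q) (a b : k) : x * d.ι a * (y * d.ι b) = x * y * d.ι (a + b) := by
  rw [D.ι_add, mul_assoc, ← mul_assoc (d.ι a), PE.Z_cen h D (D.ι_mem a) hy]
  group

theorem inv_eq (hx : x ∈ Q) : x⁻¹ = x * d.ι ((p x).1.1 * (m + (p x).1.2) + d.N (p x).2) := by
  rw [eq_comm, ← mul_eq_one_iff_eq_inv', ← mul_assoc, h.sqQ x hx, ι_sq D]

theorem sing (hx : x ∈ Q) (e : x * x = 1) : (p x).1.1 * (m + (p x).1.2) + d.N (p x).2 = 0 := by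
  rwa [h.sqQ x hx, D.ι_eq_one] at e

theorem ex_ι (hx : x ∈ Q) (hy : y ∈ Q) (e : p y = p x) : ∃ b, y = x * d.ι b := by
  obtain ⟨b, hb⟩ := (D.memZ _).1 ((h.p_ker _ (mul_mem (inv_mem hx) hy)).1 (by
    rw [h.p_mul _ (inv_mem hx) _ hy, (PE.ad h).inv hx, e, neg_add_cancel]))
  exact ⟨b, by rw [hb, mul_inv_cancel_left]⟩

theorem adj {r : G} (hr : r ∈ Q) {b : k} (e1 : i * x * i⁻¹ = x * d.ι b)
    (e2 : i * r * i⁻¹ = r * d.ι b) : x * r ∈ cen1 i := by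
  rw [H3.Bg.mc, eq_comm, ← mul_inv_eq_iff_eq_mul, ← conj_mul, e1, e2, mul_ι h D hr,
    CharTwo.add_self_eq_zero, D.ι_zero, mul_one]

/-- commutators of the conjugates -/
theorem cj_comm (hx : x ∈ Q) (hy : y ∈ Q) : g * d.ι (d.β (p x) (p y)) * g⁻¹ =
    g * x * g⁻¹ * (g * y * g⁻¹) * (g * x * g⁻¹)⁻¹ * (g * y * g⁻¹)⁻¹ := by
  rw [← PE.comm_eq h D hx hy]; group

theorem β_conj (hg : g ∈ nor Q) (hZ : g ∈ cen d.Z) (hx : x ∈ Q) (hy : y ∈ Q) :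
    d.β (p (g * x * g⁻¹)) (p (g * y * g⁻¹)) = d.β (p x) (p y) := by
  refine D.ι_inj ?_
  rw [← PE.comm_eq h D (conj_mem_nor hg hx) (conj_mem_nor hg hy), ← cj_comm h D hx hy,
    ← hZ _ (D.ι_mem _), mul_inv_cancel_right]

end PE

variable (L : LocE d E) (t : TQ d E W Q p m T)
include L t

theorem ex_z0 : ∃ z ∈ d.Z, z ≠ 1 ∧ T ≤ cen1 z := by
  have D := L.toUD
  obtain ⟨z, h1, h2, -, h3⟩ := ex_cen_inv t.sylT.isPGroup ((ZQ t.toPE D).trans t.QT)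
    (fun g hg => D.mem_nor_Z (t.norT hg).2) fun c =>
      one_ne_zero (D.ι_eq_one.1 (mem_bot.1 (c ▸ D.ι_mem 1)))
  exact ⟨z, h1, h2, h3⟩

theorem Z_star (hX : cj g X ≤ T)
    (fill : ∀ b, ∃ x ∈ X ⊓ Q, ∃ y ∈ X ⊓ Q, d.β (p x) (p y) = b) : cj g d.Z ≤ Q := by
  rintro _ ⟨z, hz, rfl⟩
  obtain ⟨b, rfl⟩ := (L.toUD.memZ z).1 hz
  obtain ⟨x, hx, y, hy, rfl⟩ := fill b
  show g * _ * g⁻¹ ∈ Q
  rw [cj_comm t.toPE L.toUD hx.2 hy.2]
  exact t.abT _ (hX (conj_mem_cj hx.1)) _ (hX (conj_mem_cj hy.1))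

/-- The action of an element of `T ⊓ N(F) ⊓ C(Z)` on `W` and `E`. -/
theorem act_F (he : e ∈ T) (hF : e ∈ nor (d.Z ⊔ E)) (hZ : e ∈ cen d.Z) : ∃ κ a : k,
    (∀ w ∈ W, e * w * e⁻¹ = w * d.ι (κ * (p w).1.1)) ∧
      ∀ f ∈ E, e * f * e⁻¹ = f * d.ι (a * (p f).1.2) := by
  have D := L.toUD
  have h := t.toPE
  obtain ⟨-, -, -, w₀, hw, hn⟩ := h.nF e hF
  have wQ := PE.WQ h hw
  have nT : w₀⁻¹ * e ∈ T := mul_mem (inv_mem (t.QT wQ)) he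
  have nC := L.odd2 _ hn (e2_of_mem t.sylT.isPGroup nT)
  obtain ⟨κ, hκ⟩ := h.linW _ nC (t.norT nT).2
    (mul_mem (inv_mem fun z hz => PE.Z_cen h D hz wQ) hZ)
  have key : ∀ x, e * x * e⁻¹ = w₀ * (w₀⁻¹ * e * x * (w₀⁻¹ * e)⁻¹) * w₀⁻¹ := fun x => by group
  refine ⟨κ, (p w₀).1.1, fun w a => ?_, fun f a => ?_⟩
  · have b : w * d.ι (κ * (p w).1.1) ∈ Q := mul_mem (PE.WQ h a) (ZQ h D (D.ι_mem _))
    rw [key, hκ w a, (PE.comm_iff h D wQ b).2, mul_inv_cancel_right]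
    simp [QE.β, h.p_mul _ (PE.WQ h a) _ (ZQ h D (D.ι_mem _)), pZ h D (D.ι_mem _), PE.pW h hw,
      PE.pW h a]
  · rw [key, C_comm L.toHE nC a, mul_inv_cancel_right, h.comQ _ wQ _ (PE.EQ h a), mul_assoc,
      PE.Z_cen h D (D.ι_mem _) (inv_mem wQ), ← mul_assoc, mul_inv_cancel_right]
    simp [QE.β, PE.pW h hw, PE.pE h a]

omit t in
/-- An involutory reflection inverts `A y`. -/
theorem refl_onto {y : K} (r : d.Refl i y) (ii : i * i = 1) (b : k) :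
    ∃ v ∈ d.U, (∃ a : k, d.π v = a • y) ∧ i * v * i⁻¹ = v * d.ι b := by
  have D := L.toUD
  obtain ⟨a, ha⟩ := sq_surj (b / d.N y)
  obtain ⟨v, hv, e⟩ := D.π_surj (a • y)
  refine ⟨v, hv, ⟨a, e⟩, ?_⟩
  rw [L.inv i y r (ii ▸ one_mem _) v (D.mem_A.2 ⟨hv, a, e⟩), eq_comm, ← mul_eq_one_iff_eq_inv',
    ← mul_assoc, D.sq v hv, e, d.N_smul, ha, div_mul_cancel₀ _ (fun c => r.ne (d.N_eq_zero.1 c)),
    ι_sq D]

/-- An involutory swap centralising `Z`. -/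
theorem swap_lin (hi : i ∈ T) (ii : i * i = 1) (hZ : i ∈ cen d.Z) (hf : Full E p)
    (s : Swp d E W i) : ∃ f₁ : k, f₁ ≠ 0 ∧ ∀ e ∈ E, p (i * e * i⁻¹) = ((f₁ * (p e).1.2, 0), 0) := by
  have D := L.toUD
  have h := t.toPE
  have hW : ∀ e ∈ E, i * e * i⁻¹ ∈ W := fun e he => s.1 ▸ conj_mem_cj (mem_sup_right he)
  obtain ⟨e₁, h1, c1⟩ := hf 1
  have i2 : ∀ x, i * (i * x * i⁻¹) * i⁻¹ = x := fun x => by
    rw [show i * (i * x * i⁻¹) * i⁻¹ = i * i * x * (i * i)⁻¹ by group, ii]; group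
  refine ⟨(p (i * e₁ * i⁻¹)).1.1, fun c => ?_, fun e he => ?_⟩
  · have := (h.p_ker _ (PE.WQ h (hW _ h1))).1
      (Prod.ext (Prod.ext c (PE.pW h (hW _ h1)).1) (PE.pW h (hW _ h1)).2)
    have a := conj_mem_nor (D.mem_nor_Z (t.norT hi).2) this
    rw [i2] at a
    rw [pZ h D a] at c1
    exact zero_ne_one c1
  · have := β_conj h D (t.norT hi).1 hZ (PE.EQ h h1) (PE.WQ h (hW e he))
    rw [i2] at this
    simp only [QE.β, (PE.pW h (hW _ h1)).1, (PE.pW h (hW _ h1)).2, (PE.pW h (hW _ he)).1,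
      (PE.pW h (hW _ he)).2, (PE.pE h h1).1, c1, QE.B_zero_left, QE.B_zero_right, zero_mul, mul_zero,
      add_zero, zero_add, one_mul] at this
    exact Prod.ext (Prod.ext this.symm (PE.pW h (hW _ he)).1) (PE.pW h (hW _ he)).2

theorem not_out (hyp : ∀ z ∈ d.Z, ∀ v ∈ Q, IsConj z v → v ∈ d.Z) (hz : z ∈ d.Z) (c : IsConj z i)
    (hi : i ∈ T) : i ∈ Q := by
  by_contra n
  have D := L.toUD
  have h := t.toPE
  have q4 := d.four
  obtain ⟨z₀, z1, z2, z3⟩ := ex_z0 L t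
  have c0 : IsConj i z₀ := c.symm.trans (conjZ L hz z1 (by
    rintro rfl
    exact n (isConj_one_right.1 c ▸ one_mem _)) z2)
  have ii : i * i = 1 := IsConj.sq_one c (D.Z_sq hz)
  obtain ⟨g, hg, hX⟩ := ex_central t.sylT z3 c0 (inf_le_right : T ⊓ cen1 i ≤ _)
    (t.sylT.isPGroup.to_le inf_le_left)
  have key : ¬ ∀ b, ∃ x ∈ Q ⊓ cen1 i, ∃ y ∈ Q ⊓ cen1 i, d.β (p x) (p y) = b := fun fill => by
    have h1 := Z_star L t hX fun b => by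
      obtain ⟨x, hx, y, hy, e⟩ := fill b
      exact ⟨x, ⟨⟨t.QT hx.1, hx.2⟩, hx.1⟩, y, ⟨⟨t.QT hy.1, hy.2⟩, hy.1⟩, e⟩
    have h2 : cj g d.Z = d.Z := eq_of_le_of_card_ge (by
      rintro _ ⟨z, hz, rfl⟩
      exact hyp z hz _ (h1 (conj_mem_cj hz)) (isConj_conj g z)) (card_cj g _).ge
    exact n (ZQ h D (conj_mem_cj_iff.1 (h2.ge (hg ▸ z1))))
  have hI := L.inv0 i (t.norT hi).2 (e2_of_mem t.sylT.isPGroup hi) (by
    rw [ii]; exact fun u _ => by rw [one_mul, inv_one, mul_one])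
  have cZ : i ∈ cen d.Z := hI.elim (L.trZ i (t.norT hi).2) fun ⟨_, r⟩ => r.cenZ
  rcases t.swp i hi with hF | ⟨rfl, hf, s⟩
  · obtain ⟨y, r⟩ := hI.resolve_left fun c => n (t.trT i hi hF c)
    obtain ⟨κ, a, a1, a2⟩ := act_F L t hi hF cZ
    refine key fun b => ?_
    obtain ⟨e, he, -, -, e1, -, -⟩ := two_ne L.toHE
    obtain ⟨w, hw, w1⟩ := h.surjW (b / (p e).1.2)
    obtain ⟨v, hv, ⟨s, hs⟩, b1⟩ := refl_onto L r ii (κ * (p w).1.1)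
    obtain ⟨v', hv', ⟨s', hs'⟩, b2⟩ := refl_onto L r ii (a * (p e).1.2)
    refine ⟨w * v, ⟨mul_mem (PE.WQ h hw) (PE.UQ h hv), adj h D (PE.UQ h hv) (a1 w hw) b1⟩,
      e * v', ⟨mul_mem (PE.EQ h he) (PE.UQ h hv'), adj h D (PE.UQ h hv') (a2 e he) b2⟩, ?_⟩
    simp [QE.β, h.p_mul _ (PE.WQ h hw) _ (PE.UQ h hv), h.p_mul _ (PE.EQ h he) _ (PE.UQ h hv'),
      PE.pU1 h hv, PE.pU1 h hv', h.pU _ hv, h.pU _ hv', PE.pW h hw, PE.pE h he, hs, hs', w1,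
      d.B_smul_left, d.B_smul_right, d.B_self, PE.cE_ne h L.toHE he e1]
  obtain ⟨f₁, f0, hf₁⟩ := swap_lin L t hi ii cZ hf s
  have iQ : ∀ x ∈ Q, i * x * i⁻¹ ∈ Q := fun x hx => conj_mem_nor (t.norT hi).1 hx
  have xQ : ∀ e ∈ E, e * (i * e * i⁻¹) ∈ Q := fun e he => mul_mem (PE.EQ h he) (iQ e (PE.EQ h he))
  have xp : ∀ e ∈ E, p (e * (i * e * i⁻¹)) = ((f₁ * (p e).1.2, (p e).1.2), 0) := fun e he => by
    rw [h.p_mul _ (PE.EQ h he) _ (iQ e (PE.EQ h he)), hf₁ e he]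
    ext <;> simp [PE.pE h he]
  have xi : ∀ e ∈ E, i * (e * (i * e * i⁻¹)) * i⁻¹ = (e * (i * e * i⁻¹))⁻¹ := fun e he => by
    rw [mul_inv_rev, conj_inv, inv_eq_of_mul_eq_one_right (L.elE e he),
      show i * (e * (i * e * i⁻¹)) * i⁻¹ = i * e * (i * e) * (i * i)⁻¹ by group, ii,
      inv_eq_of_mul_eq_one_right ii]
    group
  rcases hI with tr | ⟨y, r⟩
  · have ex : ∀ η, ∃ x ∈ Q ⊓ cen1 i, ∃ c, p x = ((f₁ * c, c), η) := fun η => by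
      obtain ⟨u, hu, rfl⟩ := D.π_surj η
      have hu' := conj_mem_nor (t.norT hi).2 hu
      obtain ⟨b, hb⟩ := ex_ι h D (PE.UQ h hu) (PE.UQ h hu') (Prod.ext
        ((PE.pU1 h hu').trans (PE.pU1 h hu).symm) (by rw [h.pU _ hu, h.pU _ hu', tr u hu]))
      obtain ⟨c, hc⟩ := sq_surj (b / f₁)
      obtain ⟨e, he, rfl⟩ := hf c
      refine ⟨_, ⟨mul_mem (PE.UQ h hu) (xQ e he), adj h D (xQ e he) hb ?_⟩, (p e).1.2, ?_⟩
      · rw [xi e he, inv_eq h D (xQ e he), xp e he]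
        simp only [zero_add, QE.N_zero, add_zero]
        rw [mul_assoc f₁, ← sq, hc, mul_div_cancel₀ _ f0]
      · rw [h.p_mul _ (PE.UQ h hu) _ (xQ e he), xp e he]
        ext <;> simp [PE.pU1 h hu, h.pU u hu]
    refine key fun b => ?_
    obtain ⟨η, hη⟩ := d.B_surj (one_ne_zero (α := K)) b
    obtain ⟨x, hx, c, e1⟩ := ex 1
    obtain ⟨x', hx', c', e2⟩ := ex η
    refine ⟨x, hx, x', hx', ?_⟩
    simp only [QE.β, e1, e2, hη]
    linear_combination (f₁ * c * c') * (CharTwo.two_eq_zero (R := k))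
  have cl : ∀ x ∈ Q ⊓ cen1 i, IsConj i (i * x) := fun x hx => by
    obtain ⟨e, he, ce⟩ := PE.exists_c h hx.1
    have vQ := mul_mem (inv_mem (xQ e he)) hx.1
    have xc : i * x * i⁻¹ = x := by rw [← H3.Bg.mc.1 hx.2, mul_inv_cancel_right]
    have pv : p (i * ((e * (i * e * i⁻¹))⁻¹ * x) * i⁻¹) = p ((e * (i * e * i⁻¹))⁻¹ * x) := by
      rw [← conj_mul, ← conj_inv, xi e he, xc, inv_inv, h.p_mul _ (xQ e he) _ hx.1,
        h.p_mul _ (inv_mem (xQ e he)) _ hx.1, PE.p_inv h (xQ e he)]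
    have c2 : (p ((e * (i * e * i⁻¹))⁻¹ * x)).1.2 = 0 := by
      rw [h.p_mul _ (inv_mem (xQ e he)) _ hx.1, PE.p_inv h (xQ e he), xp e he]
      simp [ce, CharTwo.add_self_eq_zero]
    obtain ⟨v, hv⟩ : ∃ v, (e * (i * e * i⁻¹))⁻¹ * x = v := ⟨_, rfl⟩
    rw [hv] at vQ pv c2
    have vU : v ∈ d.U := by
      obtain ⟨w, hw, w1⟩ := h.surjW (p v).1.1
      have uU : w⁻¹ * v ∈ d.U := (h.memU _ (mul_mem (inv_mem (PE.WQ h hw)) vQ)).2 (by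
        rw [h.p_mul _ (inv_mem (PE.WQ h hw)) _ vQ, PE.p_inv h (PE.WQ h hw)]
        ext <;> simp [w1, c2, PE.pW h hw, CharTwo.add_self_eq_zero])
      have wF : i * w * i⁻¹ ∈ d.Z ⊔ E := s.2 ▸ conj_mem_cj hw
      have uU' := conj_mem_nor (t.norT hi).2 uU
      have := h.p_mul _ (FQ h D wF) _ (PE.UQ h uU')
      rw [conj_mul, mul_inv_cancel_left, pv] at this
      refine (h.memU v vQ).2 (Prod.ext ?_ c2)
      rw [this]
      simp [((h.memF _ (FQ h D wF)).1 wF).1, PE.pU1 h uU']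
    have vA : v ∈ d.A y := H3.Bg.line D r vU (by
      rw [← h.pU _ vU, ← h.pU _ (conj_mem_nor (t.norT hi).2 vU), pv])
    obtain ⟨u, -, hu⟩ := L.cls i y r ii _ (inv_mem vA)
    have a1 := L.inv i y r (ii ▸ one_mem _) _ (inv_mem vA)
    have a2 := U_comm h D (inv_mem vU) (PE.EQ h he) (PE.pE h he).2
    refine isConj_iff.2 ⟨e * u, ?_⟩
    rw [inv_inv] at a1
    calc _ = e * (u * i * u⁻¹) * e⁻¹ := by group
      _ = e * i * (v⁻¹ * e) := by rw [hu, inv_eq_of_mul_eq_one_right (L.elE e he)]; group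
      _ = e * (i * e * i⁻¹) * (i * v⁻¹ * i⁻¹) * i := by rw [a2]; group
      _ = _ := by rw [a1, ← hv, mul_inv_cancel_left, H3.Bg.mc.1 hx.2]
  have big : Nat.card d.Z * Nat.card k ≤ Nat.card ↥(Q ⊓ cen1 i) := by
    refine cnt (φ := fun x => (p x).1.2) (fun a ha b hb => by simp [h.p_mul a ha.1 b hb.1])
      (fun c => ?_) (fun z hz => ⟨ZQ h D hz, H3.Bg.mc.2 (cZ z hz)⟩) fun z hz => by simp [pZ h D hz]
    obtain ⟨e, he, rfl⟩ := hf c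
    obtain ⟨v, hv, -, b1⟩ := refl_onto L r ii _
    refine ⟨_, ⟨mul_mem (xQ e he) (PE.UQ h hv),
      adj h D (PE.UQ h hv) ((xi e he).trans (inv_eq h D (xQ e he))) b1⟩, ?_⟩
    simp [h.p_mul _ (xQ e he) _ (PE.UQ h hv), xp e he, PE.pU1 h hv]
  have nL : i ∈ nor (Q ⊓ cen1 i) := centralizer_le_normalizer _ fun x hx => H3.Bg.mc.1 hx.2
  have out : ∀ x ∈ (Q ⊓ cen1 i) ⊔ zpowers i, x ∈ Q ⊓ cen1 i ∨ IsConj i x := fun x hx =>
    ((mem_sup_inv ii nL).1 hx).imp_right fun a => by simpa [← mul_assoc, ii] using cl _ a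
  have ET : cj g ((Q ⊓ cen1 i) ⊔ zpowers i) ≤ T := (cj_mono g (sup_le (inf_le_inf_right _ t.QT)
    (zpowers_le.2 ⟨hi, H3.Bg.mc.2 rfl⟩))).trans hX
  have i4 := (t.idx4 _ ET (by
    rintro _ ⟨x, hx, rfl⟩
    have : x * x = 1 := (out x hx).elim (fun a => by
      have := IsConj.sq_one (cl x a) ii
      rwa [mul_assoc, ← mul_assoc x, H3.Bg.mc.1 a.2, mul_assoc, ← mul_assoc, ii, one_mul] at this)
      fun a => IsConj.sq_one a ii
    show g * x * g⁻¹ * (g * x * g⁻¹) ∈ Q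
    rw [conj_mul, this, mul_one, mul_inv_cancel]
    exact one_mem _)).1
  have le : cj g ((Q ⊓ cen1 i) ⊔ zpowers i) ⊓ Q ≤ d.Z := by
    rintro _ ⟨⟨x, hx, rfl⟩, xq⟩
    change g * x * g⁻¹ ∈ Q at xq
    show g * x * g⁻¹ ∈ d.Z
    rcases out x hx with a | a
    · refine (mul_mem_cancel_left z1).1 (hyp z₀ z1 _ (mul_mem (ZQ h D z1) xq) ?_)
      rw [← hg, conj_mul]
      exact (isConj_conj g i).symm.trans ((cl x a).trans (isConj_conj g _))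
    · exact hyp z₀ z1 _ xq (c0.symm.trans (a.trans (isConj_conj g x)))
  have c1 := card_rel' Q (cj g ((Q ⊓ cen1 i) ⊔ zpowers i))
  rw [card_cj, card_sup_inv ii nL fun a => n a.1] at c1
  have c2 := Nat.mul_le_mul (card_le_of_le le) i4
  rw [L.cardZ] at big c2
  nlinarith

omit L t in
theorem jobEZ2 : JobEZ2.{u} := by
  intro G _ _ k K _ _ _ _ _ _ _ d E W Q p m T L t hyp
  have D := L.toUD
  have h := t.toPE
  obtain ⟨z₀, z1, z2, -⟩ := ex_z0 L t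
  obtain ⟨w, hw, w1⟩ := h.surjW 1
  obtain ⟨η, hη⟩ := L.N_surj m
  obtain ⟨u, hu, rfl⟩ := D.π_surj η
  have jQ := mul_mem (PE.WQ h hw) (PE.UQ h hu)
  have pj : p (w * u) = ((1, 0), d.π u) := by
    rw [h.p_mul _ (PE.WQ h hw) _ (PE.UQ h hu)]
    ext <;> simp [w1, PE.pW h hw, PE.pU1 h hu, h.pU u hu]
  have jZ : w * u ∉ d.Z := fun c => by simpa [pj] using pZ h D c
  have : Fact (Nat.Prime 2) := ⟨Nat.prime_two⟩
  refine ⟨T, d.Z, t.sylT, fun c => z2 (mem_bot.1 (c ▸ z1)),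
    ⟨⟨⟨fun a b => Subtype.ext (D.Z_comm a.2 (D.ZU b.2))⟩⟩, fun a ha => (pow_two a).trans (D.Z_sq ha)⟩,
    ⟨(ZQ h D).trans t.QT, fun z hz g hg => hyp z hz _
      (not_out L t hyp hz (isConj_conj g z) hg) (isConj_conj g z)⟩, D.ZU.trans L.UX,
    z₀, L.UX (D.ZU z1), w * u, mul_mem (h.WX hw) (L.UX hu),
    orderOf_eq_prime ((pow_two _).trans (D.Z_sq z1)) z2,
    orderOf_eq_prime ?_ fun c => jZ (c ▸ one_mem _), fun c => jZ (hyp z₀ z1 _ jQ c)⟩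
  rw [pow_two, h.sqQ _ jQ, pj, D.ι_eq_one]
  simp [hη, CharTwo.add_self_eq_zero]

end H48.BgZ
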