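import Cfsg.Agent.H48.DP0Spec

/-! # S3275, chapter C4: the `L₃(2)` configuration; proofs in `blueprints/U0C4.md`. -/

set_option autoImplicit false

namespace H48.DP2

open Subgroup Cfsg H98 H48.DP H57.DPC
open scoped commutatorElement

universe u

/-- `Ω₁(Z(X))`. -/
def Om {G : Type*} [Group G] (X : Subgroup G) : Subgroup G where
  carrier := {g | g ∈ X ∧ g ∈ Ce X ∧ g * g = 1}
  one_mem' := ⟨one_mem _, one_mem _, mul_one 1⟩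
  inv_mem' := fun {g} h => ⟨inv_mem h.1, inv_mem h.2.1, by rw [← mul_inv_rev, h.2.2, inv_one]⟩
  mul_mem' := fun {g h} a b => ⟨mul_mem a.1 b.1, mul_mem a.2.1 b.2.1, by
    have e : g * h = h * g := mem_centralizer_iff.1 b.2.1 g a.1
    calc g * h * (g * h) = g * (h * g) * h := by group
      _ = g * g * (h * h) := by rw [← e]; group
      _ = 1 := by rw [a.2.2, b.2.2, mul_one]⟩

/-- Facts on `L₃(2)`: `B` is a four-group normalised by `z` of order 3. -/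
structure F7 {Λ : Type*} [Group Λ] (B : Subgroup Λ) (z : Λ) : Prop where
  simple : IsSimpleGroup Λ
  el : ∀ t ∈ B, t * t = 1
  cz : C1 z = zpowers z
  idx : (No B).index = 7
  max : ∀ H : Subgroup Λ, B ⊔ zpowers z ≤ H → H ≤ No B ∨ H = ⊤
  nb : No B ≤ B ⊔ (No B ⊓ No (zpowers z))
  inv : ∀ t t' : Λ, orderOf t = 2 → orderOf t' = 2 → ∃ l, l * t * l⁻¹ = t'
  c3 : ∀ w : Λ, orderOf w = 3 → ∃ l, l * z * l⁻¹ = w
  g1 : ∀ t ∈ B, t ≠ 1 → ∃ l, cj l (B ⊔ zpowers z) ⊔ zpowers t = ⊤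
  g2 : ∀ t : Λ, orderOf t = 2 → ∃ l, orderOf (t * (l * t * l⁻¹)) = 3
  g3 : ∀ t : Λ, orderOf t = 2 → ∃ l l', closure {t, l * t * l⁻¹, l' * t * l'⁻¹} = ⊤
  g4 : ∀ l, l ∉ No B → B ⊔ cj l (B ⊔ zpowers z) = ⊤ ∧ (∃ t ∈ B, t ≠ 1 ∧ t ∈ No (cj l B)) ∧
    (∃ t ∈ B, t ∉ No (cj l B)) ∧ ∃ w ∈ B ⊔ cj l B, orderOf w = 3
  line : ∀ l l', l ∉ No B → l' ∉ No B → ∃ t ∈ B, ∃ i : ℕ, cj l' B = cj (t * z ^ i * l) B
  oth : ∃ A : Subgroup Λ, Nat.card A = 4 ∧ z ∈ No A ∧ A ⊔ B = ⊤ ∧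
    (∀ S : Subgroup Λ, IsPGroup 2 S → z ∈ No S → S ≤ A ∨ S ≤ B) ∧
    ∃ l s : Λ, l ∉ No B ∧ s * s = 1 ∧ s * (l * z * l⁻¹) * s⁻¹ = (l * z * l⁻¹)⁻¹ ∧ s ∈ No (cj l A) ∧
      Nat.card ↥(cj l A ⊔ zpowers s) = 8 ∧ B ≤ cj l A ⊔ zpowers s ∧ cj l A ⊔ zpowers s ≤ No B ∧
      cj l A ⊔ zpowers s ⊔ zpowers (l * z * l⁻¹) ⊔ zpowers z = ⊤ ∧
      ∀ S : Subgroup Λ, IsPGroup 2 S → Nat.card S ≤ 8

abbrev P7 : Type := Matrix.ProjectiveSpecialLinearGroup (Fin 2) (ZMod 7)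

def JF7 : Prop := ∀ (B : Subgroup P7) (z : P7), Nat.card B = 4 → orderOf z = 3 → z ∈ No B → F7 B z

variable {G : Type u} [Group G]

structure Cx (M Q J L : Subgroup G) (y z u : G) : Prop where
  bd : Bd M Q y z u
  lt : LT M Q J L y z

/-- Basic facts. -/
structure Ba (M Q J L : Subgroup G) (y z u : G) : Prop extends Cx M Q J L y z u where
  md : ∃ (f : L →* P7) (z' : L), Function.Surjective f ∧ f.ker = J.subgroupOf L ∧ (z' : G) = z ∧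
    F7 (((Q ⊓ L).subgroupOf L).map f) (f z') ∧ Nat.card ↥(((Q ⊓ L).subgroupOf L).map f) = 4 ∧
    orderOf (f z') = 3
  j2 : IsPGroup 2 J
  q1 : Q ⊓ No J ≤ L
  p2 : L ⊓ M = L ⊓ No (Q ⊓ L)
  l0 : L ≤ J ⊔ (L ⊓ C1 y)
  cJ : Ce J ≤ J
  nM : ∀ C : Subgroup G, IsPGroup 2 C → C ≠ ⊥ → M ≤ No C → No C ≤ M
  sim : ∀ N : Subgroup G, N ≤ L → L ≤ No N → N ≤ J ∨ L ≤ J ⊔ N
  yL' : y ∈ No L
  zc : ¬ ∀ l ∈ L, ⁅z, l⁆ ∈ J

def JBa : Prop := JF7 → ∀ (G : Type u) [Group G] [Finite G] (M Q J L : Subgroup G) (y z u : G),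
  Cx M Q J L y z u → Ba M Q J L y z u

def ZI : Prop := ∀ (G : Type u) [Group G] [Finite G] (M Q : Subgroup G) (y z u : G), Bd M Q y z u →
  ∃ A : Subgroup G, A ≠ ⊥ ∧ A ≤ Q ∧ A ≤ C1 (y * z) ∧ ⁅A, zpowers z⁆ = A ∧ A ≤ Ce (Q ⊓ C1 z)

/-- An offender on `Ω₁(Z(J))`. -/
def Off (Q J L : Subgroup G) : Prop := ∃ A : Subgroup G, A ≤ Q ⊓ L ∧ ¬ A ≤ J ∧
  (Ce A).relIndex (Om J) ≤ J.relIndex A

def JOF : Prop := ∀ (G : Type u) [Group G] [Finite G] (M Q J L : Subgroup G) (y z u : G),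
  Ba M Q J L y z u → Off Q J L

def JVZ : Prop := ∀ (G : Type u) [Group G] [Finite G] (M Q J L : Subgroup G) (y z u : G),
  Ba M Q J L y z u → Off Q J L → Om Q ≤ C1 z

def JF2 : Prop := ∀ (G : Type u) [Group G] [Finite G] (M Q J L : Subgroup G) (y z u : G),
  Ba M Q J L y z u → Off Q J L → (Ce L).relIndex (Om J ⊓ Ce (Q ⊓ L) ⊓ C1 z) ≤ 2

/-- `Ω₁(Z(Q)) = ⟨n⟩`. -/
structure Vn (M Q J L : Subgroup G) (z n : G) : Prop where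
  off : Off Q J L
  f2 : (Ce L).relIndex (Om J ⊓ Ce (Q ⊓ L) ⊓ C1 z) ≤ 2
  n2 : orderOf n = 2
  om : Om Q = zpowers n
  cn : C1 n = M
  nJ : n ∈ Om J

def JVN : Prop := ∀ (G : Type u) [Group G] [Finite G] (M Q J L : Subgroup G) (y z u : G),
  Ba M Q J L y z u → Off Q J L → Om Q ≤ C1 z →
  (Ce L).relIndex (Om J ⊓ Ce (Q ⊓ L) ⊓ C1 z) ≤ 2 → ∃ n, Vn M Q J L z n

/-- The involutions of `L/J` are transvections. -/
def Tv (J L : Subgroup G) : Prop := ∀ t ∈ L, t ∉ J → t * t ∈ J → (C1 t).relIndex (Om J) = 2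

def JM1 : Prop := ∀ (G : Type u) [Group G] [Finite G] (M Q J L : Subgroup G) (y z u n : G),
  Ba M Q J L y z u → Vn M Q J L z n → Tv J L

/-- The natural module `W`. -/
structure Wm (M Q J L W : Subgroup G) (y n n' : G) : Prop where
  le : W ≤ Om J
  card : Nat.card W = 8
  nor : L ≤ No W
  mem : n' ∈ W
  ne : n' ≠ 1
  tr : ∀ w ∈ W, w ≠ 1 → ∃ l ∈ L, l * n' * l⁻¹ = w
  com : ⁅Om J, Q ⊓ L⁆ = zpowers n'
  st : L ⊓ C1 n' = L ⊓ M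
  sup : Om J ≤ W ⊔ (Om J ⊓ Ce L)
  nn : n * n' ∈ Ce L
  yW : W ≤ C1 y
  cW : L ⊓ Ce W = J

def JM2 : Prop := ∀ (G : Type u) [Group G] [Finite G] (M Q J L : Subgroup G) (y z u n : G),
  Ba M Q J L y z u → Vn M Q J L z n → Tv J L → ∃ W n', Wm M Q J L W y n n'

def BK : Prop := ∀ (G : Type u) [Group G] [Finite G] (M Q J L W : Subgroup G) (y z u n n' t : G),
  Ba M Q J L y z u → Wm M Q J L W y n n' → t ∈ L → ⁅J, zpowers t⁆ ≤ W → t ∈ J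

def JBK : Prop := ZI.{u} → BK.{u}

def JQE : Prop := BK.{u} → ∀ (G : Type u) [Group G] [Finite G] (M Q J L W : Subgroup G)
  (y z u n n' : G), Ba M Q J L y z u → Vn M Q J L z n → Wm M Q J L W y n n' → ¬ Q ≤ L

/-- `X` is normalised by `y`, `x`, `s` and generates a 2-group with `s`. -/
def XX (X : Subgroup G) (y x s : G) : Prop :=
  y ∈ No X ∧ x ∈ No X ∧ s ∈ No X ∧ IsPGroup 2 ↥(X ⊔ zpowers s)

/-- Part II. -/
def GS : Prop := ∀ (G : Type u) [Group G] [Finite G] (M Q X : Subgroup G) (y x u s : G),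
  Bd M Q y x u → XX X y x s → s * x * s⁻¹ = x⁻¹ → Commute s y → ¬ ⁅X, zpowers x⁆ ≤ M →
  (∀ X' : Subgroup G, XX X' y x s → X ≤ X' → X' = X) →
  ∀ T : Subgroup G, IsPGroup 2 T → y ∈ No T → X ⊔ zpowers s ≤ T →
    T = X ⊔ zpowers s ∨ Nat.card ↥(X ⊔ zpowers s) ≤ 128

/-- The second parabolic: `X₁ = O₂(P₁)`, `S = X₁⟨s⟩`, `x = l z l⁻¹`. -/
structure Su (M Q J L X : Subgroup G) (y z u l s : G) : Prop where
  lL : l ∈ L
  bd : Bd (cj l M) (cj l Q) y (l * z * l⁻¹) (l * u * l⁻¹)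
  xx : XX X y (l * z * l⁻¹) s
  JX : J ≤ X
  sx : s * (l * z * l⁻¹) * s⁻¹ = (l * z * l⁻¹)⁻¹
  sy : Commute s y
  out : ¬ ⁅X, zpowers (l * z * l⁻¹)⁆ ≤ cj l M
  SL : X ⊔ zpowers s ≤ L ⊓ M
  QS : Q ⊓ L ≤ X ⊔ zpowers s
  idx : J.relIndex (X ⊔ zpowers s) = 8
  ix : J.relIndex X = 4
  xM : l * z * l⁻¹ ∉ M
  gen : L ≤ X ⊔ zpowers s ⊔ zpowers (l * z * l⁻¹) ⊔ zpowers z
  syl : ∀ S : Subgroup G, IsPGroup 2 S → S ≤ L → X ⊔ zpowers s ≤ S → S = X ⊔ zpowers s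
  mx : ∀ S : Subgroup G, IsPGroup 2 S → S ≤ L → X ≤ S → l * z * l⁻¹ ∈ No S → S = X

def JSU : Prop := ∀ (G : Type u) [Group G] [Finite G] (M Q J L : Subgroup G) (y z u : G),
  Ba M Q J L y z u → ∃ X l s, Su M Q J L X y z u l s

/-- A larger invariant 2-group centralises `n`. -/
def MA : Prop := ∀ (G : Type u) [Group G] [Finite G] (M Q J L W X X' : Subgroup G)
  (y z u n n' l s : G), Ba M Q J L y z u → Vn M Q J L z n → Wm M Q J L W y n n' →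
  Su M Q J L X y z u l s → XX X' y (l * z * l⁻¹) s → X < X' →
  n = n' ∧ X' ≤ Ce (W ⊓ Ce X) ∧ Nat.card ↥(W ⊓ Ce X) = 4

def JMB : Prop := BK.{u} → GS.{u} → MA.{u} → ∀ (G : Type u) [Group G] [Finite G]
  (M Q J L W X : Subgroup G) (y z u n n' l s : G), Ba M Q J L y z u → Vn M Q J L z n →
  Wm M Q J L W y n n' → Su M Q J L X y z u l s → Q ≤ L

theorem c4_of (f7 : JF7) (ba : JBa.{u}) (zi : ZI.{u}) (of : JOF.{u}) (vz : JVZ.{u}) (f2 : JF2.{u})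
    (vn : JVN.{u}) (m1 : JM1.{u}) (m2 : JM2.{u}) (bk : JBK.{u}) (qe : JQE.{u}) (gs : GS.{u})
    (su : JSU.{u}) (ma : MA.{u}) (mb : JMB.{u}) : C4.{u} := fun G _ _ M Q J L y z u hb hl => by
  have h := ba f7 G M Q J L y z u ⟨hb, hl⟩
  have ho := of G M Q J L y z u h
  obtain ⟨n, hn⟩ := vn G M Q J L y z u h ho (vz G M Q J L y z u h ho) (f2 G M Q J L y z u h ho)
  obtain ⟨W, n', hw⟩ := m2 G M Q J L y z u n h hn (m1 G M Q J L y z u n h hn)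
  obtain ⟨X, l, s, hs⟩ := su G M Q J L y z u h
  exact qe (bk zi) G M Q J L W y z u n n' h hn hw
    (mb (bk zi) gs ma G M Q J L W X y z u n n' l s h hn hw hs)

end H48.DP2
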