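import Cfsg.Agent.H48.TeC3b
import Cfsg.Agent.S1243

/-! TE2, job C3: the case `F₄ × F₄` is impossible. -/

set_option autoImplicit false
set_option linter.unusedSectionVars false
set_option linter.constructorNameAsVariable false
set_option synthInstance.maxSize 2000

namespace H48.TeC3

open Subgroup Cfsg H98 H1.Gold H86.L34 H88.AS H88.TE
open H6 (F4)

universe u

variable {G : Type u} [Group G] [Finite G] {p q : F4 → F4 → F4 → G} {P Z Z' E X S K : Subgroup G}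
  {a b c a' b' c' l k : F4} {σ τ : Bool} {g s x y z : G}

namespace PQ

variable (h : PQ p q P Z Z')
include h

theorem swap : PQ (fun a b c => p b a (c + a * b)) q P Z Z' :=
  ⟨h.hp.swap, h.hq, fun _ _ _ _ _ _ => h.com .., fun _ _ _ _ _ _ => h.dis _ _ _ _ _ _,
    fun x => (h.memP x).trans ⟨fun ⟨a, b, c, a', b', c', e⟩ => ⟨b, a, c + b * a, a', b', c', by
      simp [e, add_assoc]⟩, fun ⟨_, _, _, _, _, _, e⟩ => ⟨_, _, _, _, _, _, e⟩⟩,
    fun x => by simpa using h.memZ x, h.memZ'⟩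

theorem exE : ∃ E ≤ P, El E ∧ 256 ≤ Nat.card E ∧ ∀ a c a' c', p a 0 c * q a' 0 c' ∈ E := by
  let E : Subgroup G :=
    { carrier := {x | ∃ a c a' c', x = p a 0 c * q a' 0 c'}
      one_mem' := ⟨0, 0, 0, 0, by rw [h.hp.one, h.hq.one, mul_one]⟩
      mul_mem' := by
        rintro _ _ ⟨_, _, _, _, rfl⟩ ⟨_, _, _, _, rfl⟩
        exact ⟨_, _, _, _, by rw [h.mul, add_zero (0 : F4)]⟩
      inv_mem' := by
        rintro _ ⟨_, _, _, _, rfl⟩
        exact ⟨_, _, _, _, h.inv ..⟩ }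
  refine ⟨E, ?_, ?_, ?_, fun _ _ _ _ => ⟨_, _, _, _, rfl⟩⟩
  · rintro _ ⟨_, _, _, _, rfl⟩
    exact h.mem ..
  · rintro _ ⟨_, _, _, _, rfl⟩
    simp [h.sq, h.hp.one, h.hq.one]
  · have := Nat.card_le_card_of_injective (fun v : (F4 × F4) × F4 × F4 =>
      (⟨_, v.1.1, v.1.2, v.2.1, v.2.2, rfl⟩ : E)) fun v w e => by
        have e1 := congrArg Subtype.val e
        have e2 := h.symm.ext ((h.com ..).symm.eq.trans (e1.trans (h.com ..).eq))
        exact Prod.ext (Prod.ext (h.ext e1).1 (h.ext e1).2.2) (Prod.ext e2.1 e2.2.2)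
    simpa only [Nat.card_prod, card4] using this

theorem wc (hS : S ≤ nor P) (fa : ∀ s ∈ S, (∀ x ∈ P, s * x * s⁻¹ * x⁻¹ ∈ Z ⊔ Z') → s ∈ P)
    (hg : cj g P ≤ S) : cj g P = P := by
  have k : ∀ E ≤ P, El E → 256 ≤ Nat.card E → cj g E ≤ P := fun E h1 h2 h3 => by
    have m := (cj_mono g h1).trans hg
    refine h.big ?_ (m.trans hS) (fun s hs y1 y2 => fa s (m hs) fun x hx => ?_) ((card_cj g E).symm ▸ h3)
    · rintro _ ⟨x, hx, rfl⟩
      rw [← map_mul, h2 x hx, map_one]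
    · have r1 := (h.memY y1.1).1 y1 x hx
      obtain ⟨c, c', e⟩ := h.memB r1.1 r1.2 ((h.symm.memY y1.1).1 y2 x hx).2
      exact e ▸ mul_mem_sup ((h.memZ _).2 ⟨c, rfl⟩) ((h.memZ' _).2 ⟨c', rfl⟩)
  obtain ⟨E, a1, a2, a3, a4⟩ := h.exE
  obtain ⟨F, b1, b2, b3, b4⟩ := h.swap.symm.swap.exE
  refine eq_of_le_of_card_ge ((cj_mono g (K := E ⊔ F) fun x hx => ?_).trans
    (cj_sup g E F ▸ sup_le (k E a1 a2 a3) (k F b1 b2 b3))) (card_cj g P).ge
  obtain ⟨a, b, c, a', b', c', rfl⟩ := (h.memP x).1 hx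
  have := mul_mem_sup (a4 a (c + a * b) a' (c' + a' * b')) (b4 b' 0 b 0)
  rw [← (h.com ..).eq, h.mul] at this
  simpa [add_assoc] using this

theorem sigma (t : Ty p q P s l k true τ) (hs : s ∈ nor P) (h1 : s ∈ nor Z) (ss : s * s = 1) :
    ∃ x ∈ cen1 s, ∃ c, c ≠ 0 ∧ x * x = p 0 0 c := by
  have si := inv_eq_of_mul_eq_one_right ss
  have k1 : ∀ y, s * (s * y * s⁻¹) * s⁻¹ = y := fun y => by
    rw [show s * (s * y * s⁻¹) * s⁻¹ = s * s * y * (s * s)⁻¹ by group, ss]; simp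
  have k2 : ∀ y, s * y * s⁻¹ = y → y ∈ cen1 s := fun y e => mem_cen1.2 (mul_inv_eq_iff_eq_mul.1 e).symm
  cases τ
  · obtain ⟨a, ha⟩ := (by decide : ∀ l : F4, ∃ a, a + l * fr true a ≠ 0) l
    obtain ⟨b, hb⟩ := (by decide : ∀ l : F4, ∃ a, a + l * fr true a ≠ 0) k
    obtain ⟨e, e', q1⟩ := t.conj h hs h1 a 0 0
    obtain ⟨f, f', q2⟩ := t.conj h hs h1 0 b 0
    refine ⟨_, mul_mem (k2 (p a 0 0 * (s * p a 0 0 * s⁻¹)) ?_) (k2 (p 0 b 0 * (s * p 0 b 0 * s⁻¹)) ?_), _,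
      mul_ne_zero ha hb, ?_⟩
    · rw [← conj_mul, k1, q1, h.p_eq a, h.mul, h.mul]; simp [Φ, fr, add_comm]
    · rw [← conj_mul, k1, q2, h.p_eq 0 b, h.mul, h.mul]; simp [Φ, fr, add_comm]
    · rw [q1, q2, h.p_eq a, h.p_eq 0 b, h.mul, h.mul, h.mul, h.sq]; simp [Φ, fr, h.hq.one]
  · obtain ⟨e, e', q1⟩ := t.conj h hs h1 1 0 0
    obtain ⟨d, hd⟩ := (by decide +kernel : ∀ l k : F4, (∀ v, Φ l k true true (Φ l k true true v) = v) →
      ∃ d, l * k * fr true d = k + d) l k (t.inv h hs ss)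
    refine ⟨_, k2 (p 1 0 0 * (s * p 1 0 0 * s⁻¹) * p 0 0 d) ?_, k, t.k0, ?_⟩
    · rw [← conj_mul, ← conj_mul, k1, t.actZ, hd, q1, h.p_eq 1, h.p_eq 0 0 d, h.p_eq 0 0 (k + d), h.mul, h.mul,
        h.mul, h.mul]
      simp [Φ, fr, add_assoc]
    · rw [q1, h.p_eq 1, h.p_eq 0 0 d, h.mul, h.mul, h.sq]; simp [Φ, fr, h.hq.one]

theorem cenS (t : Ty p q P s l k false τ) (hs : s ∈ nor P) (ss : s * s = 1) : Z ≤ cen1 s := fun x hx => by
  obtain ⟨c, rfl⟩ := (h.memZ x).1 hx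
  refine mem_cen1.2 (mul_inv_eq_iff_eq_mul.1 ?_).symm
  rw [t.actZ, (by decide +kernel : ∀ l k τ c, (∀ v, Φ l k false τ (Φ l k false τ v) = v) →
    l * k * fr false c = c) l k τ c (t.inv h hs ss)]

theorem ord (hc : c ≠ 0) : orderOf (p 0 0 c) = 2 :=
  haveI : Fact (Nat.Prime 2) := ⟨Nat.prime_two⟩
  orderOf_eq_prime (by rw [h.hp.sq, mul_zero, h.hp.one]) (h.p_ne hc)

theorem noKI (c0 : C0 K z) (nP : ∀ x ∈ P, ¬ KI K x) (n1 : ∀ x ∈ Z, ¬ IsConj z x) (n2 : ∀ x ∈ Z', ¬ IsConj z x)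
    (two : IsPGroup 2 P) (ki : KI K s) (hs : s ∈ nor P) (h1 : s ∈ nor Z) : False := by
  have ss : s * s = 1 := by rw [← pow_two, ← ki.1, pow_orderOf_eq_one]
  have h2 := h.norZ' hs h1
  obtain ⟨l, k, σ, τ, t⟩ := h.exTy hs h1
  obtain ⟨l', k', σ', τ', t'⟩ := h.symm.exTy hs h2
  cases σ
  · cases σ'
    · have := c0.two s ki Z (h.cenS t hs ss) (fun x hx => by
        obtain ⟨c, rfl⟩ := (h.memZ x).1 hx
        rw [← pow_two, h.hp.sq, mul_zero, h.hp.one]) h.cardZ (fun x hx => ⟨nP x (h.ZP hx), n1 x hx⟩) (Z ⊔ Z')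
        (le_inf (sup_le (h.cenS t hs ss) (h.symm.cenS t' hs ss)) ((sup_le h.ZP h.symm.ZP).trans h.cenZ))
        (two.to_le (sup_le h.ZP h.symm.ZP)) fun x hx => nP x (sup_le h.ZP h.symm.ZP hx)
      have h3 := Nat.card_le_card_of_injective (fun v : F4 × F4 => (⟨_, mul_mem_sup ((h.memZ _).2 ⟨v.1, rfl⟩)
        ((h.memZ' _).2 ⟨v.2, rfl⟩)⟩ : ↥(Z ⊔ Z'))) fun v w e => by
          have e1 := congrArg Subtype.val e
          exact Prod.ext (h.ext e1).2.2 (h.symm.ext ((h.com ..).symm.eq.trans (e1.trans (h.com ..).eq))).2.2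
      simp only [Nat.card_prod, card4] at h3
      omega
    · obtain ⟨x, hx, c, hc, e⟩ := h.symm.sigma t' hs h2 ss
      exact (c0.sq s ki x hx (e ▸ h.symm.ord hc)).elim (nP _ (e ▸ h.symm.memp ..))
        (n2 _ (e ▸ (h.memZ' _).2 ⟨c, rfl⟩))
  · obtain ⟨x, hx, c, hc, e⟩ := h.sigma t hs h1 ss
    exact (c0.sq s ki x hx (e ▸ h.ord hc)).elim (nP _ (e ▸ h.memp ..)) (n1 _ (e ▸ (h.memZ _).2 ⟨c, rfl⟩))

end PQ

theorem jobC3 : H88.TE.JobC3.{u} := fun G _ _ _ K t z na c0 ⟨p, q, hp, hq, com, dis, ht, hz, cp⟩ => by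
  have : Fact (Nat.Prime 2) := ⟨Nat.prime_two⟩
  have h : PQ p q (hp.S ⊔ hq.S) (hp.A ⊓ hp.B) (hq.A ⊓ hq.B) := ⟨hp, hq, com,
    fun a b c a' b' c' e => mem_bot.1 (dis.le ⟨hp.mem_S .., e ▸ hq.mem_S ..⟩), fun x => by
      rw [← SetLike.mem_coe, coe_mul_of_right_le_normalizer_left _ _ (le_trans (by
        rintro _ ⟨_, _, _, rfl⟩ _ ⟨_, _, _, rfl⟩
        exact com ..) (centralizer_le_normalizer _))]
      exact ⟨by rintro ⟨_, ⟨_, _, _, rfl⟩, _, ⟨_, _, _, rfl⟩, rfl⟩; exact ⟨_, _, _, _, _, _, rfl⟩,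
        fun ⟨_, _, _, _, _, _, e⟩ => ⟨_, hp.mem_S .., _, hq.mem_S .., e.symm⟩⟩,
    fun _ => hp.mem_Z, fun _ => hq.mem_Z⟩
  generalize hp.S ⊔ hq.S = P, hp.A ⊓ hp.B = Z, hq.A ⊓ hq.B = Z' at h cp
  have tt : t * t = 1 := by rw [← pow_two, ← cp.ki.1, pow_orderOf_eq_one]
  have tP : t ∈ nor P := mem_normalizer_fintype fun x hx => by
    obtain ⟨a, b, c, a', b', c', rfl⟩ := (h.memP x).1 hx
    rw [← conj_mul, ht, ← ht a', show t * (t * p a' b' c' * t⁻¹) * t⁻¹ = t * t * p a' b' c' * (t * t)⁻¹ by group,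
      tt, one_mul, inv_one, mul_one]
    exact h.symm.mem ..
  have two : IsPGroup 2 P := isPGroup_iff_forall.2 fun x hx => ⟨2, by
    obtain ⟨a, b, c, a', b', c', rfl⟩ := (h.memP x).1 hx
    rw [show (2 : ℕ) ^ 2 = 2 * 2 from rfl, pow_mul, pow_two, pow_two, h.sq, h.sq]
    simp [hp.one, hq.one]⟩
  obtain ⟨S, hS, le⟩ := exists_isSyl_le (H := nor P) (IsPGroup.to_sup_of_normal_left' two
    (isPGroup_zpowers (k := 1) (by rw [pow_one, pow_two, tt])) (zpowers_le.2 tP))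
    (sup_le le_normalizer (zpowers_le.2 tP))
  have PS := le_sup_left.trans le
  have wc := fun g => h.wc (g := g) hS.le (cp.faith S hS.isPGroup PS (le (mem_sup_right (mem_zpowers t))) hS.le)
  have syl : IsSyl 2 S ⊤ := isSyl_of_isSyl_normalizer (hS.of_le (le_inf le_top le_normalizer)
    fun g hg => cj_eq_self_iff.1 (wc g (cj_le_of_le PS hg.2)))
  have nz : ∀ x, x ∈ Z ∨ x ∈ Z' → ¬ IsConj z x := fun x hx e => by
    obtain ⟨g, rfl⟩ := isConj_iff.1 e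
    have m : Z ⊔ Z' ≤ cen P := sup_le (le_centralizer_iff.1 h.cenZ) (le_centralizer_iff.1 h.symm.cenZ)
    obtain ⟨n, hn, e⟩ := Cfsg.Agent.S1243.result syl.toSylowTop P ⟨PS, wc⟩ z g
      (m (hz ▸ mul_mem_sup ((h.memZ _).2 ⟨1, rfl⟩) ((h.memZ' _).2 ⟨1, rfl⟩)))
      (m (hx.elim (mem_sup_left ·) (mem_sup_right ·)))
    have : z ∈ Z ∨ z ∈ Z' := by
      rcases h.perm' hn with a | a
      · rwa [← e, ← a.1, ← a.2, conj_mem_cj_iff, conj_mem_cj_iff] at hx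
      · rw [← e] at hx
        exact hx.symm.imp (fun b => conj_mem_cj_iff.1 (a.1 ▸ b)) fun b => conj_mem_cj_iff.1 (a.2 ▸ b)
    rcases this with a | a
    · obtain ⟨c, e⟩ := (h.memZ z).1 a
      exact one_ne_zero (h.symm.ext ((com ..).symm.eq.trans (hz.symm.trans (e.symm.trans
        ((h.p_eq ..).trans (com ..).eq))))).2.2
    · obtain ⟨c, e⟩ := (h.memZ' z).1 a
      exact one_ne_zero (h.ext (hz.symm.trans (e.symm.trans ((h.symm.p_eq ..).trans (com ..).symm.eq)))).2.2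
  refine transfer (X := ⊤) (P₁ := nor Z) (topEquiv.isSimpleGroup_congr.2 inferInstance)
    (fun a => na ⟨⟨fun x y => congrArg Subtype.val (a.1.1 ⟨x, mem_top x⟩ ⟨y, mem_top y⟩)⟩⟩) syl
    (fun a ha b hb => ?_) (mem_top t) (by rw [show 4 = 2 * 2 from rfl, pow_mul, pow_two t, tt, one_pow])
    (fun g _ m1 m2 => ?_) fun g _ _ => by simp [tt]
  · simp only [← cj_eq_self_iff, ← cj_cj]
    rcases h.perm' (hS.le ha) with e | e <;> rcases h.perm' (hS.le hb) with e' | e' <;>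
      simp [e.1, e.2, e'.1, h.ne.symm]
  · obtain ⟨o, y, hy⟩ := cp.ki
    exact h.noKI c0 cp.noP (fun x hx => nz x (.inl hx)) (fun x hx => nz x (.inr hx)) two
      ⟨by rw [← MulAut.conj_apply, MulEquiv.orderOf_eq, o], g * y, cj_cj g y K ▸ conj_mem_cj hy⟩ (hS.le m1) m2

end H48.TeC3
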