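import Cfsg.Agent.H21.TEC
import Cfsg.Agent.H88.TEBase

/-! TE2 (blueprints/TE2.md, section S1): `γ₁ γ₂ = 1`. -/

set_option autoImplicit false
set_option linter.unusedSectionVars false
set_option maxRecDepth 100000
set_option synthInstance.maxSize 4096

namespace H48.TeS1

open Subgroup Cfsg H98 H1.Gold H86.L34 H88.AS H88.TE
open H6 (F4)

universe u
variable {G : Type u} [Group G] {s : SD G} {γ₁ γ₂ : F4}

/-- The hypotheses with general constants. -/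
structure Sg (s : SD G) (γ₁ γ₂ : F4) : Prop where
  fr : Fr s.toDt
  pr : Pr s.toDt true s.R s.r
  loc : Loc s.toDt true s.R s.r s.O s.β γ₁ γ₂

/-- The exact action of the generators `β y`, `w₁ y`, `w₂ y` on coordinates. -/
def gact (γ₁ γ₂ : F4) (g : ℕ × F4) (t : V4 × F4) : V4 × F4 :=
  match g, t with
  | (0, y), ((c, d, a, b), e) => ((c, d, a, b), e + y * c)
  | (1, y), ((c, d, a, b), e) => ((c + γ₁ * y ^ 2 * b, d + y * b,
      a + c * y + γ₁ * y ^ 2 * d + γ₁ * y ^ 3 * b, b), e + γ₁ * y * d ^ 2 + c * y * b)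
  | (_ + 2, y), ((c, d, a, b), e) => ((c + γ₂ * y ^ 2 * a, d + y * a, a,
      b + c * y + γ₂ * y ^ 2 * d + γ₂ * y ^ 3 * a),
      e + γ₂ * y * d ^ 2 + γ₂ * y ^ 2 * a * d + γ₂ * y ^ 3 * a ^ 2)

/-- The generators. -/
def gel (s : SD G) : ℕ × F4 → G
  | (0, y) => s.β y
  | (1, y) => s.w₁ y
  | (_ + 2, y) => s.w₂ y

/-- The words. -/
def wd : F4 → F4 → List (ℕ × F4)
  | .o, .o => [(0, .i), (1, .i), (2, .i), (1, .i), (2, .i)]
  | .o, .i => [(0, .o), (1, .i), (2, .i), (1, .i), (2, .i), (1, .i)]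
  | .o, .w => [(0, .o), (1, .i), (2, .w), (1, .i), (2, .w), (1, .i)]
  | .o, .v => [(0, .o), (1, .i), (2, .v), (1, .i), (2, .v), (1, .i)]
  | .i, .o => [(0, .o), (2, .i), (1, .i), (2, .i), (1, .i), (2, .i)]
  | .i, .w => [(0, .v), (1, .i), (2, .i), (1, .w), (2, .v)]
  | .i, .v => [(0, .w), (1, .i), (2, .i), (1, .v), (2, .w)]
  | .w, .o => [(0, .o), (2, .i), (1, .w), (2, .i), (1, .w), (2, .i)]
  | .w, .i => [(0, .w), (1, .i), (2, .v), (1, .w), (2, .w)]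
  | .w, .w => [(0, .i), (1, .i), (2, .v), (1, .v), (2, .i)]
  | .v, .o => [(0, .o), (2, .i), (1, .v), (2, .i), (1, .v), (2, .i)]
  | .v, .i => [(0, .v), (1, .i), (2, .w), (1, .v), (2, .v)]
  | .v, .v => [(0, .i), (1, .i), (2, .w), (1, .w), (2, .i)]
  | _, _ => []

theorem wd_spec : ∀ γ₁ γ₂ : F4, γ₁ * γ₂ = 1 ∨
    ((wd γ₁ γ₂).foldr (gact γ₁ γ₂) ((1, 0, 0, 0), 0) = ((1, 0, 0, 0), 0) ∧
      ((wd γ₁ γ₂).foldr (gact γ₁ γ₂) ((.w, 0, 0, 0), 0) = ((.w, 0, 0, 0), 1) ∨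
      ∃ t ∈ [(wd γ₁ γ₂).foldr (gact γ₁ γ₂) ((0, 0, 1, 0), 0),
        (wd γ₁ γ₂).foldr (gact γ₁ γ₂) ((0, 0, 0, 1), 0)], t.1.1 ≠ 0 ∧ t.1.2.1 = 0)) := by
  decide +kernel

variable (h : Sg s γ₁ γ₂)
include h

theorem hm : HM s.u := h.fr.hm

theorem r_add (c c' : F4) : s.r (c + c') = s.r c * s.r c' := h.pr.add c c' (.inl rfl) (.inl rfl)

theorem r_zero : s.r 0 = 1 := by simpa using r_add h 0 0

theorem r_K (c : F4) : s.r c ∈ s.K := h.pr.rK (.inl rfl)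

theorem r_A (c : F4) {a : G} (ha : a ∈ s.A) : a * s.r c = s.r c * a := r_K h c a ha

theorem β_zero : s.β 0 = 1 := by simpa using h.loc.add 0 0

theorem β_sq (d : F4) : s.β d * s.β d = 1 := by rw [← h.loc.add, F4.add_self, β_zero h]

theorem β_r (d c : F4) : s.β d * s.r c = s.r c * s.z (c * d) * s.β d :=
  mul_inv_eq_iff_eq_mul.1 (h.loc.βr d c (.inl rfl))

theorem p_u (a b e : F4) : s.p (0, 0, a, b) e = s.u a b e := by simp [SD.p, r_zero h, β_zero h]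

theorem p_r (c : F4) : s.p (c, 0, 0, 0) 0 = s.r c := by simp [SD.p, β_zero h, (hm h).one]

theorem p_β (d : F4) : s.p (0, d, 0, 0) 0 = s.β d := by simp [SD.p, r_zero h, (hm h).one]

theorem p_mul (x y : V4) (e e' : F4) :
    s.p x e * s.p y e' = s.p (x + y) (e + e' + x.2.1 * y.1 + x.2.2.1 * y.2.2.2) := by
  obtain ⟨c, d, a, b⟩ := x
  obtain ⟨c', d', a', b'⟩ := y
  have h1 := r_A h c' (h.fr.uA a b e)
  have h2 := (h.loc.βu d' a b e).eq
  have h3 := (h.loc.βu (d + d') 0 0 (c' * d)).eq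
  simp only [SD.p, Prod.mk_add_mk]
  calc _ = s.r c * s.β d * (s.u a b e * s.r c') * s.β d' * s.u a' b' e' := by group
    _ = s.r c * (s.β d * s.r c') * (s.u a b e * s.β d') * s.u a' b' e' := by rw [h1]; group
    _ = s.r c * s.r c' * (s.z (c' * d) * (s.β d * s.β d')) * (s.u a b e * s.u a' b' e') := by
      rw [β_r h, ← h2]; group
    _ = _ := by
      rw [← r_add h, ← h.loc.add, ← h3, (hm h).mul, ← mul_assoc, mul_assoc _ (s.z _), (hm h).mul]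
      congr 1
      exact cg s.u (zero_add _) (zero_add _) (by ring)

omit h in
theorem p_cg {x y : V4} {e e' : F4} (h1 : x = y) (h2 : e = e') : s.p x e = s.p y e' := by
  rw [h1, h2]

theorem β_p (y c d a b e : F4) :
    s.β y * s.p (c, d, a, b) e * (s.β y)⁻¹ = s.p (c, d, a, b) (e + y * c) := by
  rw [inv_eq_of_mul_eq_one_right (β_sq h y), ← p_β h, p_mul h, p_mul h]
  refine p_cg ?_ (by simp)
  simp only [Prod.mk_add_mk, zero_add, add_zero]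
  rw [add_right_comm, F4.add_self, zero_add]

theorem w₁_sq (y : F4) : s.w₁ y * s.w₁ y = 1 := by rw [SD.w₁, conj_mul, β_sq h]; simp

theorem w₂_sq (y : F4) : s.w₂ y * s.w₂ y = 1 := by rw [SD.w₂, conj_mul, β_sq h]; simp

theorem w₁_u (y a e : F4) : s.w₁ y * s.u a 0 e * (s.w₁ y)⁻¹ = s.u a 0 e := by
  rw [← h.fr.nu, SD.w₁, conj_inv, conj_mul, conj_mul, (h.loc.βu ..).eq, mul_inv_cancel_right]

theorem w₂_u (y b e : F4) : s.w₂ y * s.u 0 b e * (s.w₂ y)⁻¹ = s.u 0 b e := by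
  rw [← h.fr.mu, SD.w₂, conj_inv, conj_mul, conj_mul, (h.loc.βu ..).eq, mul_inv_cancel_right]

theorem w₁_r (y c : F4) : s.w₁ y * s.r c * (s.w₁ y)⁻¹ = s.p (c, 0, c * y, 0) 0 := by
  have k := mul_inv_eq_iff_eq_mul.2 (r_A h c h.fr.nA)
  nth_rewrite 1 [← k]
  rw [SD.w₁, conj_inv, conj_mul, conj_mul, h.loc.βr y c (.inl rfl), ← conj_mul, k, h.fr.nu]
  simp [SD.p, β_zero h]

theorem w₂_r (y c : F4) : s.w₂ y * s.r c * (s.w₂ y)⁻¹ = s.p (c, 0, 0, c * y) 0 := by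
  have k := mul_inv_eq_iff_eq_mul.2 (r_A h c h.fr.mA)
  nth_rewrite 1 [← k]
  rw [SD.w₂, conj_inv, conj_mul, conj_mul, h.loc.βr y c (.inl rfl), ← conj_mul, k, h.fr.mu]
  simp [SD.p, β_zero h]

theorem w₁_β (y d : F4) :
    s.w₁ y * s.β d * (s.w₁ y)⁻¹ = s.p (0, d, γ₁ * y ^ 2 * d, 0) (γ₁ * y * d ^ 2) := by
  simpa [SD.p, SD.w₁, r_zero h] using h.loc.s₁.wβ y d

theorem w₂_β (y d : F4) :
    s.w₂ y * s.β d * (s.w₂ y)⁻¹ = s.p (0, d, 0, γ₂ * y ^ 2 * d) (γ₂ * y * d ^ 2) := by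
  simpa [SD.p, SD.w₂, r_zero h, Dt.swap] using h.loc.s₂.wβ y d

theorem w₁_v (y b : F4) : s.w₁ y * s.u 0 b 0 * (s.w₁ y)⁻¹ =
    s.p (γ₁ * y ^ 2 * b, y * b, γ₁ * y ^ 3 * b, b) 0 := by
  have : s.u 0 b 0 * s.w₁ y * (s.u 0 b 0)⁻¹ =
      s.w₁ y * (s.β (y * b) * s.r (γ₁ * y ^ 2 * b) * s.u (γ₁ * y ^ 3 * b) 0 0) := by
    simpa [SD.w₁, mul_assoc] using h.loc.s₁.vw y b
  rw [H21.TE.flip_inv (w₁_sq h y) this, ← p_β h, ← p_r h, ← p_u h, ← p_u h, p_mul h, p_mul h,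
    p_mul h]
  exact p_cg (by simp)
    (by simp only [Prod.mk_add_mk]; linear_combination (γ₁ * y ^ 3 * b ^ 2) * F4.two_eq)

theorem w₂_v (y a : F4) : s.w₂ y * s.u a 0 0 * (s.w₂ y)⁻¹ =
    s.p (γ₂ * y ^ 2 * a, y * a, a, γ₂ * y ^ 3 * a) (γ₂ * y ^ 3 * a ^ 2) := by
  have : s.u a 0 0 * s.w₂ y * (s.u a 0 0)⁻¹ =
      s.w₂ y * (s.β (y * a) * s.r (γ₂ * y ^ 2 * a) * s.u 0 (γ₂ * y ^ 3 * a) 0) := by
    simpa [SD.w₂, mul_assoc, Dt.swap] using h.loc.s₂.vw y a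
  rw [H21.TE.flip_inv (w₂_sq h y) this, ← p_β h, ← p_r h, ← p_u h, ← p_u h, p_mul h, p_mul h,
    p_mul h]
  exact p_cg (by simp) (by simp only [Prod.mk_add_mk]; ring)

theorem gel_p (g : ℕ × F4) (t : V4 × F4) : gel s g * s.p t.1 t.2 * (gel s g)⁻¹ =
    s.p (gact γ₁ γ₂ g t).1 (gact γ₁ γ₂ g t).2 := by
  obtain ⟨⟨c, d, a, b⟩, e⟩ := t
  match g with
  | (0, y) => exact β_p h y c d a b e
  | (1, y) =>
    simp only [gel, gact]
    rw [SD.p, (hm h).dec, ← conj_mul, ← conj_mul, ← conj_mul, w₁_r h, w₁_β h, w₁_u h, w₁_v h,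
      ← p_u h, p_mul h, p_mul h, p_mul h]
    refine p_cg (by simp only [Prod.mk_add_mk]; ext <;> simp only <;> ring) ?_
    simp only [Prod.mk_add_mk]
    linear_combination (a * b + γ₁ * d * y ^ 2 * b) * F4.two_eq
  | (_ + 2, y) =>
    have : s.u a b e = s.u 0 b e * s.u a 0 0 := by rw [(hm h).mul]; simp
    simp only [gel, gact]
    rw [SD.p, this, ← conj_mul, ← conj_mul, ← conj_mul, w₂_r h, w₂_β h, w₂_u h, w₂_v h, ← p_u h,
      p_mul h, p_mul h, p_mul h]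
    refine p_cg (by simp only [Prod.mk_add_mk]; ext <;> simp only <;> ring) ?_
    simp only [Prod.mk_add_mk]
    ring

theorem word_p (l : List (ℕ × F4)) (t : V4 × F4) :
    (l.map (gel s)).prod * s.p t.1 t.2 * ((l.map (gel s)).prod)⁻¹ =
      s.p (l.foldr (gact γ₁ γ₂) t).1 (l.foldr (gact γ₁ γ₂) t).2 := by
  induction l with
  | nil => simp
  | cons g l ih =>
    rw [List.foldr_cons, ← gel_p h, ← ih, List.map_cons, List.prod_cons]
    group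

theorem main [Finite G] : γ₁ * γ₂ = 1 := by
  refine (wd_spec γ₁ γ₂).resolve_right fun ⟨h1, h2⟩ => ?_
  have hw := word_p h (wd γ₁ γ₂)
  generalize ((wd γ₁ γ₂).map (gel s)).prod = g at hw
  have hg : g ∈ s.N := by
    refine h.fr.cen_le (r_K h 1) (h.pr.ord (.inl rfl) one_ne_zero) (H21.TE.mem_cen1.2 ?_)
    have := hw ((1, 0, 0, 0), 0)
    rw [h1, p_r h] at this
    exact mul_inv_eq_iff_eq_mul.1 this
  rcases h2 with h2 | ⟨t, ht, h2, h3⟩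
  · have := h.fr.toFr0.u_of_K (a := 0) (b := 0) (c := 1)
      ((mul_mem_cancel_left (r_K h .w)).1 (by
        have e := hw ((.w, 0, 0, 0), 0)
        rw [h2, p_r h] at e
        have k := Fr0.cjK hg (r_K h .w)
        rw [e] at k
        simpa [SD.p, β_zero h] using k))
    exact one_ne_zero this.2.2
  · have k : s.p t.1 t.2 ∈ s.A := by
      simp only [List.mem_cons, List.not_mem_nil, or_false] at ht
      rcases ht with rfl | rfl <;> rw [← hw, p_u h] <;>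
        exact conj_mem_of_mem_normalizer hg (h.fr.uA ..)
    rw [SD.p, h3, β_zero h, mul_one, mul_mem_cancel_right (h.fr.uA ..)] at k
    exact h2 (h.pr.inj _ (.inl rfl) (h.fr.toFr0.eq_one (n := 1) k (r_K h _)
      ((pow_two _).trans (h.pr.rr (.inl rfl)))))

omit h in
theorem jobS1 : JobS1.{u} := fun _ _ _ d R r O β _ _ h1 h2 h3 =>
  main (s := ⟨d, R, O, r, β⟩) ⟨h1, h2, h3⟩

end H48.TeS1
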