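import Cfsg.Agent.H48.SgFa1
import Cfsg.Agent.H48.SgTy
import Cfsg.Agent.H64.SGKit

/-! STD-G facts, slot FA: centralisers of the `U_J` in the automorphism group. -/

set_option autoImplicit false
set_option linter.unusedSectionVars false

namespace H48.SgFa

open Cfsg Cfsg.Lie H63 H65 H64 H64.SG

variable {D : ChevalleyDatum} [RS D]

section Grp

variable {F : Type*} [Field F] {G : Type*} [Group G] {x : ℕ → F → G}

/-- The leading root of a unipotent element is moved into a closed set. -/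
theorem act_of_conj (h : StB D x) {S : Set (Rt D)} (hS : CommUp (XR D x) S Fin.val)
    (hp : ∀ r ∈ S, Pos r) {r : Rt D} (hr : Pos r) {t : F} (ht : t ≠ 0) {v m : G}
    (hv : v ∈ Uge D x (r + 1)) {w : (H64.wdata D).W} (hw : h.rgd.Act m w)
    (hm : m * (x r t * v) * m⁻¹ ∈ gen (XR D x) S) : w.1 r ∈ S := by
  classical
  have hM : ∀ a, a ∈ (Set.toFinite {a : Rt D | Pos a ∧ (r : ℕ) + 1 ≤ a}).toFinset.toList ↔
    Pos a ∧ (r : ℕ) + 1 ≤ a := by simp
  obtain ⟨y, hy, rfl⟩ := (commUp_ge h.toSt (r + 1)).exists_prod _ (Finset.nodup_toList _) hM hv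
  have hrM := fun h => Nat.not_succ_le_self _ ((hM r).1 h).2
  refine act_mem_of_conj h.rgd hS hp
    (List.nodup_cons.2 ⟨hrM, Finset.nodup_toList _⟩)
    (fun a ha => (List.mem_cons.1 ha).elim (fun e => e ▸ hr) fun h => ((hM a).1 h).1)
    (y := Function.update y r (x r t)) (fun a => ?_) hw ?_ List.mem_cons_self
    (by rw [Function.update_self]; exact fun e => ht (h.eq_zero_of_x_eq_one r e))
  · by_cases e : a = r
    · rw [e, Function.update_self]; exact x_mem_XR D x r t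
    · rw [Function.update_of_ne e]; exact hy a
  · rwa [List.map_cons, List.prod_cons, Function.update_self, List.map_congr_left (g := y)
      fun a ha => Function.update_of_ne (by rintro rfl; exact hrM ha) _ _]

/-- `s` and the roots of larger height. -/
abbrev SH (s : Rt D) : Set (Rt D) := {r | Pos r ∧ (r = s ∨ ht s < ht r)}

theorem commUp_SH (h : St D x) (s : Rt D) : CommUp (XR D x) (SH s) Fin.val :=
  commUp_of_comb h (fun _ h => h.1) fun a ha b hb c i j hi hj e => by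
    refine ⟨pos_of_comb ha.1 hb.1 hi hj e, Or.inr ?_⟩
    have h1 := ht_of_eq e
    have h2 := pos_iff_ht.1 ha.1
    have h3 := pos_iff_ht.1 hb.1
    have h4 : ht s ≤ ht a := ha.2.elim (fun e => (congrArg ht e).ge) le_of_lt
    nlinarith

theorem U_conj_SH (h : St D x) {s : Rt D} (hs : Pos s) {u y : G} (hu : u ∈ UU D x)
    (hy : y ∈ gen (XR D x) (SH s)) : u * y * u⁻¹ ∈ gen (XR D x) (SH s) := by
  classical
  have h0 := pos_iff_ht.1 hs
  have h1 : CommUp (XR D x) {r | Pos r} fun r => (2 * ht r + if r = s then 1 else 0).toNat :=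
    fun a ha b hb hab _ hy _ hz => h.commutator_mem hab
      (by rintro rfl; exact pos_negR.1 ha hb) (fun c i j hi hj e => by
        have h1 := ht_of_eq e
        have h2 := pos_iff_ht.1 ha
        have h3 := pos_iff_ht.1 hb
        have h4 : ht a + 1 ≤ ht c := by nlinarith
        have h5 : ht b + 1 ≤ ht c := by nlinarith
        refine ⟨pos_of_comb hb ha hi hj e, ?_, ?_⟩ <;> dsimp only <;> split_ifs <;> omega) hy hz
  have h2 : SH s = {c | c ∈ {r | Pos r} ∧ (2 * ht s + 1).toNat ≤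
      (2 * ht c + if c = s then 1 else 0).toNat} := by
    ext c
    refine and_congr_right fun hc => ?_
    have h3 := pos_iff_ht.1 hc
    by_cases e : c = s
    · simp [e]
    · simp only [e, false_or, if_false]
      omega
  rw [h2] at hy ⊢
  exact h1.conj_mem_filt _ hu hy

/-- An element moving the root elements of `U_J` along a height preserving symmetry lies in `B`. -/
theorem mem_B_of_conj (hD : ET D) (h : Ad D x) {J : Set (Fin D.rank)} (hJ : J ≠ Set.univ)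
    {ρ : Rt D → Rt D} (r1 : ∀ r, ht (ρ r) = ht r)
    (r2 : ∀ r s, D.pairing (ρ r) (ρ s) = D.pairing r s) {g : G}
    (hx : ∀ r ∈ AJ D J, ∃ e, g * x r 1 * g⁻¹ = x (ρ r) e) :
    g ∈ h.toStB.rgd.B ∧ ∀ r, ρ r = r := by
  classical
  obtain ⟨w, hw⟩ := h.toStB.rgd.exists_cell (g := g) (by rw [h.Gp_eq]; trivial)
  have hp : ∀ r, Pos r → Pos (ρ r) := fun r hr => by rwa [pos_iff_ht, r1, ← pos_iff_ht]
  have h1 : ∀ r ∈ AJ D J, w.1 r ∈ SH (ρ r) := fun r hr => by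
    obtain ⟨m, hm, hmw⟩ := h.toStB.rgd.exists_mem_N_act w
    obtain ⟨b, hb, u, hu, rfl⟩ := hw.normal_form hm hmw
    obtain ⟨v, hv, e⟩ := U_conj_x h.toSt hr.1 1 (h.toStB.rgd.gen_Inv_le_U w hu)
    refine act_of_conj h.toStB (commUp_SH h.toSt _) (fun _ h => h.1) hr.1 one_ne_zero hv hmw ?_
    obtain ⟨c, hc, u', hu', e'⟩ := h.toStB.rgd.mem_B'.1 (inv_mem hb)
    obtain ⟨a, ha⟩ := hx r hr
    rw [← e, show m * (u * x r 1 * u⁻¹) * m⁻¹ = b⁻¹ * (b * m * u * x r 1 * (b * m * u)⁻¹) * b⁻¹⁻¹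
      by group, ha, e', show c * u' * x (ρ r) a * (c * u')⁻¹ = c * (u' * x (ρ r) a * u'⁻¹) * c⁻¹
      by group]
    exact h.toStB.rgd.h_conj_gen hc (U_conj_SH h.toSt (hp r hr.1) hu'
      (x_mem_gen (S := SH (ρ r)) ⟨hp r hr.1, Or.inl rfl⟩ a))
  have hwJ : w ∈ (H64.wdata D).WJ J := WData.mem_WJ_of_Inv_subset _ w fun r hr => by
    by_contra hc
    exact hr.2 (h1 r ⟨hr.1, hc⟩).1
  have h2 : ∀ r ∈ AJ D J, w.1 r = ρ r := by
    have e : ∑ r with Pos r ∧ r ∉ (H64.wdata D).PhiJ J, ht r =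
        ∑ r with Pos r ∧ r ∉ (H64.wdata D).PhiJ J, ht (w.1 r) :=
      (Finset.sum_equiv w.1 (fun r => by
        simp only [Finset.mem_filter, Finset.mem_univ, true_and, WData.apply_mem_PhiJ_iff _ hwJ]
        exact and_congr_left fun h => (WData.pos_apply_iff_of_not_mem_PhiJ _ hwJ h).symm)
        fun _ _ => rfl).symm
    intro r hr
    have h3 := (Finset.sum_eq_sum_iff_of_le fun r hr => by
      rcases (h1 r (Finset.mem_filter.1 hr).2).2 with e | e
      · rw [e, r1]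
      · rw [← r1]; exact e.le).1 e r (Finset.mem_filter.2 ⟨Finset.mem_univ _, hr⟩)
    exact (h1 r hr).2.resolve_right (by rw [r1, h3]; exact lt_irrefl _)
  have h3 : ∀ p, w.1 p = ρ p := fun p => by
    rw [← WData.apply_inv_apply _ w (ρ p)]
    refine congrArg _ (eq_of_pairing_AJ hD hJ fun r hr => ?_)
    rw [← W_pairing w ((w⁻¹).1 (ρ p)), WData.apply_inv_apply, h2 r hr, r2]
  have h4 : w = 1 := WData.eq_one_of_pos _ fun i => by
    rw [h3]; exact hp _ (pos_simpleR i)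
  rw [h4] at hw h3
  exact ⟨RGD.cell_one_iff.1 hw, fun r => (h3 r).symm⟩

theorem eq_one_of_chr (hD : ET D) {J : Set (Fin D.rank)} (hJ : J ≠ Set.univ) {d : Fin D.rank → Fˣ}
    (h : ∀ r ∈ AJ D J, chr D d r = 1) : d = 1 := by
  funext j
  by_cases hj : j ∈ J
  · obtain ⟨r, hr, h0⟩ := exists_cartan_ne_zero hJ j
    have e : rt (sref j r) = (1 : ℤ) • rt r + (-D.cartan j r) • rt (simpleR j : Rt D) := by
      rw [rt_sref, rt_simpleR, one_smul, neg_smul, sub_eq_add_neg]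
    have h1 := h _ (sref_not_mem_PhiJ hj hr)
    rw [chr_comb d e, h r hr, simpleR_val, chr_simple] at h1
    rcases hD.pairing_cases (simpleR j) r with rfl | rfl | h2 | h2 | h2
    · exact absurd (WData.p_mem_PhiJ _ hj) hr.2
    · exact absurd (pos_simpleR j) (pos_negR.1 hr.1)
    all_goals
      rw [simpleR_val, pairing_simple] at h2
      rw [h2] at h1 h0
      simp at h0 h1 ⊢
    all_goals exact h1
  · exact (chr_simple d j).symm.trans (h _ (simple_mem_AJ hj))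

end Grp

variable [Tab D] {F : Type} [Field F] [Finite F] [CharP F 2]

theorem ca (hD : ET D) (h : Ad D (xG D F)) (T : Ty D F) {J : Set (Fin D.rank)} (hJ : J ≠ Set.univ)
    {S : Set F} (hS : (1 : F) ∈ S) {α : MulAut ↥(D.group F)}
    (hα : ∀ r ∈ AJ D J, ∀ c ∈ S, α (xG D F r c) = xG D F r c) :
    ∃ ζ ∈ gen (XR D (xG D F)) (TJ D J), ∃ τ : RingAut F, (∀ c ∈ S, τ c = c) ∧
      α = MulAut.conj ζ * fieldAut D τ := by
  obtain ⟨g, π, c, σ, h1⟩ := T.ex α
  have h2 := T.std _ _ _ _ h1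
  obtain ⟨h3, h4⟩ := mem_B_of_conj hD h hJ
    (ρ := fun r => if T.gr (MulAut.conj g * α) = 1 then r else T.gp r)
    (fun r => by split_ifs; exacts [rfl, T.gp_ht r])
    (fun r s => by split_ifs; exacts [rfl, T.gp_pairing r s]) (g := g) fun r hr => by
      obtain ⟨e, -, he⟩ := h2 r
      exact ⟨_, by rw [← he 1, MulAut.mul_apply, hα r hr 1 hS]; rfl⟩
  have h5 : ⇑π = id := funext fun i => by
    obtain ⟨e, -, he⟩ := h2 (simpleR i)
    have a1 := ((SgTy.dat_iff hD).1 h1 i 1).1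
    have a2 := he 1
    rw [h4, simpleR_val, a1] at a2
    refine simpleR_injective (eq_of_mem_X h.toStB.rgd (x_mem_XR D _ (simpleR (π i)) (c i * σ 1))
      (a2 ▸ x_mem_XR D _ (simpleR i) _) fun e => ?_)
    simpa using h.eq_zero_of_x_eq_one _ e
  rw [h5] at h1
  have h6 := h.eq_of_dat h1 (dat_diag_field c σ)
  obtain ⟨u, hu, k, hk, e⟩ := h.toStB.rgd.mem_B.1 (inv_mem h3)
  obtain ⟨d, hd⟩ := SgTy.dat_conj hD h.toStN hk
  have h7 : α = MulAut.conj u * (diagAut D (d * c) * fieldAut D σ) := by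
    rw [map_mul, mul_assoc, ← h6, ← h.eq_of_dat hd (dat_diagAut d), ← mul_assoc, ← mul_assoc,
      ← map_mul, ← e, ← map_mul, inv_mul_cancel, map_one, one_mul]
  have h8 : ∀ r ∈ AJ D J, ∀ a ∈ S, chr D (d * c) r * σ a = a := fun r hr a ha => by
    obtain ⟨v, hv, e⟩ := U_conj_x h.toSt hr.1 (chr D (d * c) r * σ a) hu
    refine (eq_of_split h.toStB hr.1 hv (one_mem _) ?_).1
    rw [← e, mul_one, ← hα r hr a ha, h7, MulAut.mul_apply, MulAut.mul_apply, fieldAut_xG,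
      diagAut_xG]
    rfl
  have h9 : d * c = 1 := eq_one_of_chr hD hJ fun r hr => Units.ext (by simpa using h8 r hr 1 hS)
  rw [h9, map_one, one_mul] at h7
  refine ⟨u, top hD h.toStB (fun _ h => h.1) hu fun r hr => ?_, σ, fun a ha => ?_, h7⟩
  · have := hα r hr 1 hS
    rw [h7, MulAut.mul_apply, fieldAut_xG, map_one] at this
    exact (mul_inv_eq_iff_eq_mul.1 this).symm
  · obtain ⟨i, hi⟩ := (Set.ne_univ_iff_exists_notMem J).1 hJ
    simpa [h9] using h8 _ (simple_mem_AJ hi) a ha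

theorem cp (hD : ET D) (h : Ad D (xG D F)) (T : Ty D F) {r s : Rt D}
    (hk : D.pairing r s = 0 ∨ D.pairing r s = 1) {α : MulAut ↥(D.group F)}
    (hα : ∀ g ∈ P2 D (xG D F) r s, α g = g) :
    ∃ ζ ∈ XR D (xG D F) r ⊔ XR D (xG D F) s, α = MulAut.conj ζ := by
  obtain ⟨r₀, s₀, b, v, J, B, h1, hJ, -, -, h4, h5, h6, h7, h8, h9⟩ := exists_pair hD hk
  obtain ⟨w, rfl, rfl⟩ := hD.exists_W2 h1
  obtain ⟨n, -, hn⟩ := exists_mv h.toStN w
  have hβ : ∀ g ∈ P2 D (xG D F) r₀ s₀, ((MulAut.conj n)⁻¹ * α * MulAut.conj n) g = g := by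
    intro g hg
    rw [MulAut.mul_apply, MulAut.mul_apply, hα _ (cj_P2 hn r₀ s₀ ▸ ⟨g, hg, rfl⟩)]
    simp [mul_assoc]
  obtain ⟨ζ, hζ, τ, hτ, e⟩ := ca hD h T hJ (Set.mem_univ 1) fun p hp c _ =>
    hβ _ (x_mem_gen (h4 p hp) c)
  rw [show τ = 1 from RingEquiv.ext fun c => hτ c trivial, map_one, mul_one] at e
  have hc : ∀ p : Rt D, 0 ≤ D.pairing r₀ p ∧ 0 ≤ D.pairing s₀ p →
      xG D F p 1 * ζ = ζ * xG D F p 1 := fun p hp => by
    have := hβ _ (x_mem_gen hp 1)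
    rw [e] at this
    exact (mul_inv_eq_iff_eq_mul.1 this).symm
  have a1 := top hD h.toStB (fun g hg => (h5 g hg).1) (gen_mono _ (fun _ h => h.1) hζ)
    fun g hg => hc g (h5 g hg).2
  have a0 : ∀ p : Rt D, 0 ≤ D.pairing r₀ p → 0 ≤ D.pairing s₀ p → ∀ a,
      ∀ z ∈ XR D (xG D F) r₀ ⊔ XR D (xG D F) s₀, xG D F p a * z = z * xG D F p a := by
    intro p p1 p2 a z hz
    refine mem_Cz.1 ((show _ ≤ Cz (xG D F p a) from sup_le (fun y hy => ?_) fun y hy => ?_) hz) <;>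
      obtain ⟨t, rfl⟩ := h.toSt.mem_XR.1 hy
    exacts [mem_Cz.2 (hD.comm_of_nonneg h.toSt p1 _ _).symm,
      mem_Cz.2 (hD.comm_of_nonneg h.toSt p2 _ _).symm]
  have a2 : ∃ z ∈ XR D (xG D F) r₀ ⊔ XR D (xG D F) s₀, ∃ a, ζ = z * xG D F b a := by
    refine gen_induction_right
      (p := fun ζ => ∃ z ∈ XR D (xG D F) r₀ ⊔ XR D (xG D F) s₀, ∃ a, ζ = z * xG D F b a)
      ⟨1, one_mem _, 0, by rw [h.toSt.x_zero, one_mul]⟩ ?_ a1
    rintro _ - p hp y hy ⟨z, hz, a, rfl⟩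
    rcases h6 p hp.1 hp.2 with rfl | rfl | rfl
    · exact ⟨z * y, mul_mem hz (Subgroup.mem_sup_left hy), a, by
        rw [mul_assoc, a0 b h7 h8 a y (Subgroup.mem_sup_left hy), mul_assoc]⟩
    · exact ⟨z * y, mul_mem hz (Subgroup.mem_sup_right hy), a, by
        rw [mul_assoc, a0 b h7 h8 a y (Subgroup.mem_sup_right hy), mul_assoc]⟩
    · obtain ⟨t, rfl⟩ := h.toSt.mem_XR.1 hy
      exact ⟨z, hz, a + t, by rw [mul_assoc, h.add p p.2]⟩
  have a3 : ζ ∈ XR D (xG D F) r₀ ⊔ XR D (xG D F) s₀ := by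
    obtain ⟨z, hz, a, rfl⟩ := a2
    rcases h9 with rfl | ⟨b1, b2, b3⟩
    · exact mul_mem hz (Subgroup.mem_sup_left (x_mem_XR D _ _ a))
    · obtain ⟨u, hu⟩ := exists_add b3
      have c1 := hc v ⟨b1, b2⟩
      rw [← mul_assoc, a0 v b1 b2 1 z hz, mul_assoc, mul_assoc, mul_right_inj] at c1
      have c2 := hD.commutator_add h.toSt hu 1 a
      rw [c1, mul_inv_cancel_right, mul_inv_cancel, one_mul] at c2
      rw [h.eq_zero_of_x_eq_one u c2.symm, h.toSt.x_zero, mul_one]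
      exact hz
  refine ⟨n * ζ * n⁻¹, ?_, ?_⟩
  · rw [← cj_XR (hn r₀), ← cj_XR (hn s₀), ← Subgroup.map_sup]
    exact ⟨ζ, a3, rfl⟩
  · rw [map_mul, map_mul, map_inv, ← e]; group

theorem z2a (hD : ET D) (h : Ad D (xG D F)) {r s : Rt D} (hk : r = s ∨ D.pairing r s = 0)
    (a b : F) : ∃ g : ↥(D.group F), ∃ J : Set (Fin D.rank), J ≠ Set.univ ∧
      g * (xG D F r a * xG D F s b) * g⁻¹ ∈ UJ D (xG D F) J ⊓ Cs (UJ D (xG D F) J) := by
  obtain ⟨r₀, s₀, -, -, J, -, h1, hJ, h2, h3, h4, -⟩ := exists_pair hD (Or.inl rfl)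
  obtain ⟨w, w1, w2⟩ : ∃ w : (H64.wdata D).W, w.1 r ∈ TJ D J ∧ w.1 s ∈ TJ D J := by
    rcases hk with rfl | hk
    · obtain ⟨w, e⟩ := hD.exists_W r r₀
      exact ⟨w, e ▸ ⟨h2.1, fun g hg => (h4 g hg).1⟩, e ▸ ⟨h2.1, fun g hg => (h4 g hg).1⟩⟩
    · obtain ⟨w, e1, e2⟩ := hD.exists_W2 (hk.trans h1.symm)
      exact ⟨w, e1 ▸ ⟨h2.1, fun g hg => (h4 g hg).1⟩, e2 ▸ ⟨h3.1, fun g hg => (h4 g hg).2⟩⟩
  obtain ⟨n, -, hn⟩ := exists_mv h.toStN w
  refine ⟨n, J, hJ, (le_inf (gen_mono _ (TJ_subset hD hJ)) (gen_TJ_le hD h.toSt J)) ?_⟩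
  rw [show n * (xG D F r a * xG D F s b) * n⁻¹ = n * xG D F r a * n⁻¹ * (n * xG D F s b * n⁻¹) by
    group, hn, hn]
  exact mul_mem (x_mem_gen w1 a) (x_mem_gen w2 b)

theorem jobFA : JobFA := by
  intro D _ _ _ hD F _ _ _
  obtain ⟨T⟩ := SgTy.jobTy D hD F
  have h := ad D F
  refine ⟨(hD.simple F).1, fun g hg => h.conj_injective (hg.trans (map_one _).symm),
    syl_iff.2 (syl_UU D F), fun J hJ S hS α hα => ?_, fun J ζ h1 h2 => ze hD h.toStB J h1 h2,
    zu hD h.toStB, fun s hs ⟨i, e⟩ g hg => z2 hD h.toStB hs e hg, fun r s hk α hα => cp hD h T hk hα,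
    fun r s hk a b => z2a hD h hk a b⟩
  obtain ⟨ζ, h1, h2⟩ := ca hD h T hJ hS fun r hr => hα r hr.1 hr.2
  exact ⟨ζ, gen_mono _ (TJ_subset hD hJ) h1, gen_TJ_le hD h.toSt J h1, h2⟩

end H48.SgFa
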