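import Cfsg.Agent.H64.SGBasic
import Cfsg.Agent.H63.CUJ

/-! STD-G facts, slot FA, part 1: leading terms in `U` for type `E` in characteristic `2`. -/

set_option autoImplicit false
set_option linter.unusedSectionVars false

namespace H48.SgFa

open Cfsg Cfsg.Lie H63 H65 H64 H64.SG

variable {D : ChevalleyDatum} [RS D]

variable (D) in
/-- The roots of `U_J`. -/
abbrev AJ (J : Set (Fin D.rank)) : Set (Rt D) := {r | Pos r ∧ r ∉ (H64.wdata D).PhiJ J}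

theorem lt_of_add_add {r r' g s s' : Rt D} (h : r < r') (e : rt s = rt r + rt g)
    (e' : rt s' = rt r' + rt g) : s < s' := by
  rw [RS.lt_iff_lex] at h ⊢
  rw [e, e']
  exact add_lt_add_of_lt_of_le h (le_refl (toLex (rt g)))

theorem mem_AJ_iff {J : Set (Fin D.rank)} {r : Rt D} : r ∈ AJ D J ↔ ∃ i, i ∉ J ∧ 0 < rt r i := by
  constructor
  · rintro ⟨h1, h2⟩
    rw [H64.mem_PhiJ_iff] at h2
    push Not at h2
    obtain ⟨i, hi, h3⟩ := h2
    exact ⟨i, hi, (h1 i).lt_of_ne' h3⟩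
  · rintro ⟨i, hi, h⟩
    exact ⟨pos_of_coord_pos h, fun h' => h.ne' (H64.mem_PhiJ_iff.1 h' i hi)⟩

theorem simple_mem_AJ {J : Set (Fin D.rank)} {i : Fin D.rank} (hi : i ∉ J) :
    (simpleR i : Rt D) ∈ AJ D J := mem_AJ_iff.2 ⟨i, hi, by simp⟩

theorem eq_of_pairing_simple (hD : ET D) {p q : Rt D}
    (h : ∀ j : Fin D.rank, D.pairing p (D.simple j) = D.pairing q (D.simple j)) : p = q := by
  refine (hD.eq_of_pairing (r := p) (s := q) ?_).symm
  rw [pairing_eq_sum]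
  simp only [h]
  rw [← pairing_eq_sum, pairing_self]

/-- The roots of `U_J` span. -/
theorem eq_of_pairing_AJ (hD : ET D) {J : Set (Fin D.rank)} (hJ : J ≠ Set.univ) {p q : Rt D}
    (h : ∀ r ∈ AJ D J, D.pairing p r = D.pairing q r) : p = q := by
  refine eq_of_pairing_simple hD fun j => ?_
  by_cases hj : j ∈ J
  · obtain ⟨r, hr, h0⟩ := exists_cartan_ne_zero hJ j
    have e : rt (sref j r) = (1 : ℤ) • rt r + (-D.cartan j r) • rt (simpleR j : Rt D) := by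
      rw [rt_sref, rt_simpleR, one_smul, neg_smul, sub_eq_add_neg]
    have h1 := h _ (sref_not_mem_PhiJ hj hr)
    rw [pairing_of_comb p e, pairing_of_comb q e, h r hr, add_right_inj] at h1
    exact mul_left_cancel₀ (neg_ne_zero.2 h0) h1
  · exact h _ (simple_mem_AJ hj)

/-- A root that pairs non-negatively with the roots of `U_J` is not a root of the Levi factor. -/
theorem not_mem_PhiJ (hD : ET D) {J : Set (Fin D.rank)} (hJ : J ≠ Set.univ) {r : Rt D}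
    (h : ∀ g ∈ AJ D J, 0 ≤ D.pairing r g) : r ∉ (H64.wdata D).PhiJ J := by
  intro hr
  refine negR_ne r (eq_of_pairing_AJ hD hJ fun g hg => ?_)
  rw [negR_val, pairing_negR_left]
  have h1 := h g hg
  rcases h1.eq_or_lt with h2 | h2
  · omega
  exfalso
  have hne : g ≠ r := by rintro rfl; exact hg.2 hr
  obtain ⟨u, hu⟩ := exists_sub_of_pairing_pos h2 hne
  obtain ⟨i, hi, h3⟩ := mem_AJ_iff.1 hg
  have h4 := h u (mem_AJ_iff.2 ⟨i, hi, by
    rw [hu, Pi.sub_apply, H64.mem_PhiJ_iff.1 hr i hi]; omega⟩)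
  have h5 := hD.pairing_of_add (r := r) (s := u) (u := g) (by rw [hu]; abel)
  omega

theorem eq_hi_of_dom (hD : ET D) {r : Rt D}
    (h : ∀ j : Fin D.rank, 0 ≤ D.pairing r (D.simple j)) : r = hi D := by
  refine (hD.eq_of_pairing (r := r) (s := hi D) ?_).symm
  rw [← pairing_self r, pairing_eq_sum, pairing_eq_sum]
  exact Finset.sum_le_sum fun j _ => mul_le_mul_of_nonneg_left (hD.hi_max r j) (h j)

theorem pairing_eq_neg_one (hD : ET D) {r g : Rt D} (hr : Pos r) (hg : Pos g)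
    (h : ¬ 0 ≤ D.pairing r g) : D.pairing r g = -1 := by
  rcases hD.pairing_cases r g with rfl | rfl | h1 | h1 | h1
  · rw [pairing_self] at h; omega
  · exact absurd hr (pos_negR.1 hg)
  all_goals omega

/-- The certificate for a pair of roots with pairing `k`. -/
def Cert (D : ChevalleyDatum) (k : ℤ) (r s b v : ℕ) (dr L : List ℕ) : Prop :=
  r < D.nroots ∧ s < D.nroots ∧ b < D.nroots ∧ v < D.nroots ∧ D.pairing r s = k ∧
  (∀ i ∈ dr, i < D.rank) ∧ (∃ i ∈ dr, 0 < co D r i) ∧ (∃ i ∈ dr, 0 < co D s i) ∧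
  (∀ g < D.nroots, (∃ i ∈ dr, 0 < co D g i) → 0 ≤ D.pairing r g ∧ 0 ≤ D.pairing s g) ∧
  (∀ g ∈ L, g < D.nroots ∧ (∀ i < D.rank, 0 ≤ co D g i) ∧ 0 ≤ D.pairing r g ∧ 0 ≤ D.pairing s g) ∧
  (∀ g < D.nroots, (∀ i < D.rank, 0 ≤ co D g i) → (∀ u ∈ L, 0 ≤ D.pairing g u) →
    g = r ∨ g = s ∨ g = b) ∧ 0 ≤ D.pairing r b ∧ 0 ≤ D.pairing s b ∧
  (b = r ∨ 0 ≤ D.pairing r v ∧ 0 ≤ D.pairing s v ∧ D.pairing v b = -1)

instance (D : ChevalleyDatum) (k : ℤ) (r s b v : ℕ) (dr L : List ℕ) :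
    Decidable (Cert D k r s b v dr L) := by unfold Cert; infer_instance

theorem cert60 : Cert chevE6 0 68 66 71 18 [0, 5] [36, 44, 46, 39, 56] := by decide +kernel
theorem cert61 : Cert chevE6 1 71 70 71 0 [3] [36, 37, 39, 42, 47, 56] := by decide +kernel
theorem cert70 : Cert chevE7 0 125 92 124 38 [5] [63, 64, 66, 69, 73, 78] := by decide +kernel
theorem cert71 : Cert chevE7 1 125 124 125 0 [2] [63, 64, 66, 69, 73, 78, 94] := by decide +kernel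
theorem cert80 : Cert chevE8 0 239 226 238 80 [0] [121, 123, 126, 130, 135, 141, 162] := by
  decide +kernel
theorem cert81 : Cert chevE8 1 239 238 239 0 [6] [121, 123, 126, 130, 135, 141, 162, 122] := by
  decide +kernel

omit [RS D] in
theorem exists_cert (hD : ET D) {k : ℤ} (hk : k = 0 ∨ k = 1) :
    ∃ r s b v dr L, Cert D k r s b v dr L := by
  rcases hD with rfl | rfl | rfl <;> rcases hk with rfl | rfl
  exacts [⟨_, _, _, _, _, _, cert60⟩, ⟨_, _, _, _, _, _, cert61⟩, ⟨_, _, _, _, _, _, cert70⟩,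
    ⟨_, _, _, _, _, _, cert71⟩, ⟨_, _, _, _, _, _, cert80⟩, ⟨_, _, _, _, _, _, cert81⟩]

/-- A standard pair of roots with pairing `k`. -/
theorem exists_pair (hD : ET D) {k : ℤ} (hk : k = 0 ∨ k = 1) :
    ∃ (r s b v : Rt D) (J : Set (Fin D.rank)) (B : Set (Rt D)), D.pairing r s = k ∧ J ≠ Set.univ ∧
      r ∈ AJ D J ∧ s ∈ AJ D J ∧ (∀ g ∈ AJ D J, 0 ≤ D.pairing r g ∧ 0 ≤ D.pairing s g) ∧
      (∀ g ∈ B, Pos g ∧ 0 ≤ D.pairing r g ∧ 0 ≤ D.pairing s g) ∧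
      (∀ g : Rt D, Pos g → (∀ u ∈ B, 0 ≤ D.pairing g u) → g = r ∨ g = s ∨ g = b) ∧
      0 ≤ D.pairing r b ∧ 0 ≤ D.pairing s b ∧
      (b = r ∨ 0 ≤ D.pairing r v ∧ 0 ≤ D.pairing s v ∧ D.pairing v b = -1) := by
  obtain ⟨r, s, b, v, dr, L, hr, hs, hb, hv, h1, h2, h3, h4, h5, h6, h7, h8, h9, h10⟩ :=
    exists_cert hD hk
  have key : ∀ g : Rt D, g ∈ AJ D {i | (i : ℕ) ∉ dr} ↔ ∃ i ∈ dr, 0 < co D g i := fun g => by
    rw [mem_AJ_iff]
    exact ⟨fun ⟨i, hi, h⟩ => ⟨i, not_not.1 hi, by rwa [← hD.rt_eq]⟩,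
      fun ⟨i, hi, h⟩ => ⟨⟨i, h2 i hi⟩, not_not.2 hi, by rwa [hD.rt_eq]⟩⟩
  refine ⟨⟨r, hr⟩, ⟨s, hs⟩, ⟨b, hb⟩, ⟨v, hv⟩, {i | (i : ℕ) ∉ dr}, {g | (g : ℕ) ∈ L}, h1, ?_,
    (key _).2 h3, (key _).2 h4, fun g hg => h5 g g.2 ((key g).1 hg), fun g hg => ?_,
    fun g hg h => ?_, h8, h9, h10.imp_left fun e => Fin.ext e⟩
  · obtain ⟨i, hi, -⟩ := h3
    exact (Set.ne_univ_iff_exists_notMem _).2 ⟨⟨i, h2 i hi⟩, not_not.2 hi⟩
  · obtain ⟨-, a, b⟩ := h6 g hg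
    exact ⟨fun i => by rw [hD.rt_eq]; exact a i i.2, b⟩
  · simpa only [Fin.ext_iff] using h7 g g.2 (fun i hi => by
      have := hg ⟨i, hi⟩; rwa [hD.rt_eq] at this) fun u hu => h ⟨u, (h6 u hu).1⟩ hu

section Grp

variable {F : Type*} [Field F] {G : Type*} [Group G] {x : ℕ → F → G}

/-- Induction on the leading term. -/
theorem lead (h : St D x) {T : Set (Rt D)} {K : Subgroup G} (h1 : ∀ r ∈ T, ∀ t, x r t ∈ K)
    (h2 : ∀ r : Rt D, Pos r → r ∉ T → ∀ t, ∀ v ∈ Uge D x (r + 1), x r t * v ∈ K → t = 0)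
    {u : G} (hu : u ∈ UU D x) (hK : u ∈ K) : u ∈ gen (XR D x) T := by
  refine Uge_induction h (P := fun v => v ∈ K → v ∈ gen (XR D x) T) (fun _ => one_mem _)
    (fun r hr ih t v hv e => ?_) hu hK
  by_cases hT : r ∈ T
  · exact mul_mem (x_mem_gen hT t) (ih v hv ((mul_mem_cancel_left (h1 r hT t)).1 e))
  · obtain rfl := h2 r hr hT t v hv e
    rw [h.x_zero, one_mul] at e ⊢
    exact ih v hv e

variable [CharP F 2]

theorem Uge_conj (hD : ET D) (h : St D x) {r g s : Rt D} (hg : Pos g) (e : rt s = rt r + rt g)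
    (a : F) {v : G} (hv : v ∈ Uge D x (r + 1)) :
    ∃ w ∈ Uge D x (s + 1), v * x g a * v⁻¹ = x g a * w := by
  refine gen_induction_left (p := fun v => ∃ w ∈ Uge D x (s + 1), v * x g a * v⁻¹ = x g a * w)
    ⟨1, one_mem _, by simp⟩ (fun p hp y hy v _ ⟨w, hw, e1⟩ => ?_) hv
  obtain ⟨t, rfl⟩ := h.mem_XR.1 hy
  have h1 := conj_mem_Uge h (x_mem_gen (S := {r | Pos r}) hp.1 t) hw
  have h2 : x p t * v * x g a * (x p t * v)⁻¹ =
      x p t * x g a * (x p t)⁻¹ * (x p t * w * (x p t)⁻¹) := by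
    rw [show x p t * v * x g a * (x p t * v)⁻¹ = x p t * (v * x g a * v⁻¹) * (x p t)⁻¹ by group, e1]
    group
  by_cases h0 : 0 ≤ D.pairing p g
  · exact ⟨_, h1, by rw [h2, hD.comm_of_nonneg h h0, mul_inv_cancel_right]⟩
  · obtain ⟨u, hu⟩ := exists_add (pairing_eq_neg_one hD hp.1 hg h0)
    exact ⟨_, mul_mem (x_mem_Uge (pos_of_add hu hp.1 hg)
      (lt_of_add_add (show r < p from hp.2) e hu) (t * a)) h1, by
      rw [h2, hD.conj_add h hu, mul_assoc]⟩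

/-- The leading coefficient of a commutator. -/
theorem eq_zero_of_conj (hD : ET D) (h : StB D x) {r g s : Rt D} (hr : Pos r) (hg : Pos g)
    (e : rt s = rt r + rt g) {t : F} {v z : G} (hv : v ∈ Uge D x (r + 1))
    (hz : z ∈ Uge D x (s + 1)) (hc : x r t * v * x g 1 * (x r t * v)⁻¹ = x g 1 * z) : t = 0 := by
  obtain ⟨w, hw, e1⟩ := Uge_conj hD h.toSt hg e 1 hv
  have h1 := conj_mem_Uge h.toSt (x_mem_gen (S := {r | Pos r}) hr t) hw
  have h2 : x r t * v * x g 1 * (x r t * v)⁻¹ =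
      x r t * x g 1 * (x r t)⁻¹ * (x r t * w * (x r t)⁻¹) := by
    rw [show x r t * v * x g 1 * (x r t * v)⁻¹ = x r t * (v * x g 1 * v⁻¹) * (x r t)⁻¹ by group, e1]
    group
  rw [h2, hD.conj_add h.toSt e, mul_assoc, mul_right_inj, mul_one] at hc
  exact eq_zero_of_mem_Uge h (pos_of_add e hr hg) ((mul_mem_cancel_right h1).1 (hc ▸ hz))

/-- An element of `U` commuting with `x_g(1)`, `g ∈ B`, involves only roots `r` such that no
`r + g` is a root. -/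
theorem top (hD : ET D) (h : StB D x) {B : Set (Rt D)} (hB : ∀ g ∈ B, Pos g) {u : G}
    (hu : u ∈ UU D x) (hc : ∀ g ∈ B, x g 1 * u = u * x g 1) :
    u ∈ gen (XR D x) {r | Pos r ∧ ∀ g ∈ B, 0 ≤ D.pairing r g} := by
  refine lead h.toSt (K := Subgroup.centralizer {y | ∃ g ∈ B, y = x g 1}) (fun r hr t => ?_)
    (fun r hr hT t v hv e => ?_) hu ?_
  · rintro _ ⟨g, hg, rfl⟩
    exact (hD.comm_of_nonneg h.toSt (hr.2 g hg) _ _).symm
  · simp only [Set.mem_ofPred_eq, hr, true_and, not_forall] at hT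
    obtain ⟨g, hg, h0⟩ := hT
    obtain ⟨s, hs⟩ := exists_add (pairing_eq_neg_one hD hr (hB g hg) h0)
    refine eq_zero_of_conj hD h hr (hB g hg) hs hv (one_mem _) ?_
    rw [← e _ ⟨g, hg, rfl⟩, mul_inv_cancel_right, mul_one]
  · rintro _ ⟨g, hg, rfl⟩
    exact hc g hg

theorem sq_eq_one (hD : ET D) (h : St D x) {T : Set (Rt D)}
    (hT : ∀ r ∈ T, ∀ s ∈ T, 0 ≤ D.pairing r s) {u : G} (hu : u ∈ gen (XR D x) T) : u * u = 1 := by
  refine gen_induction_left (p := fun u => u * u = 1) (one_mul _) (fun r hr y hy g hg e => ?_) hu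
  obtain ⟨t, rfl⟩ := h.mem_XR.1 hy
  have h1 : x r t ∈ Cs (gen (XR D x) T) :=
    mem_Cs_gen.2 fun s hs a => hD.comm_of_nonneg h (hT s hs r hr) _ _
  rw [mul_assoc, ← mul_assoc g, h1 g hg, mul_assoc, e, mul_one, x_sq h]

variable (D) in
/-- The roots of `Z(U_J)`. -/
abbrev TJ (J : Set (Fin D.rank)) : Set (Rt D) := {r | Pos r ∧ ∀ g ∈ AJ D J, 0 ≤ D.pairing r g}

theorem TJ_subset (hD : ET D) {J : Set (Fin D.rank)} (hJ : J ≠ Set.univ) : TJ D J ⊆ AJ D J :=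
  fun _ hr => ⟨hr.1, not_mem_PhiJ hD hJ hr.2⟩

omit [CharP F 2] in
theorem gen_TJ_le (hD : ET D) (h : St D x) (J : Set (Fin D.rank)) :
    gen (XR D x) (TJ D J) ≤ Cs (UJ D x J) :=
  SG.gen_le_iff.2 fun _ hr _ => mem_Cs_gen.2 fun g hg _ =>
    (hD.comm_of_nonneg h (hr.2 g hg) _ _).symm

theorem ze (hD : ET D) (h : StB D x) (J : Set (Fin D.rank)) {ζ : G} (h1 : ζ ∈ UJ D x J)
    (h2 : ζ ∈ Cs (UJ D x J)) : ζ * ζ = 1 := by
  by_cases hJ : J = Set.univ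
  · subst hJ
    refine sq_eq_one hD h.toSt (fun r hr => ?_) h1
    exact absurd (H64.mem_PhiJ_iff.2 fun i hi => absurd (Set.mem_univ i) hi) hr.2
  · exact sq_eq_one hD h.toSt (fun r hr s hs => hr.2 s (TJ_subset hD hJ hs))
      (top hD h (B := AJ D J) (fun _ h => h.1) (gen_mono _ (fun _ h => h.1) h1)
        fun g hg => h2 _ (x_mem_gen hg 1))

omit [CharP F 2] in
theorem XR_hi_le (hD : ET D) (h : St D x) : XR D x (hi D) ≤ UU D x ⊓ Cs (UU D x) := by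
  intro y hy
  obtain ⟨t, rfl⟩ := h.mem_XR.1 hy
  exact ⟨x_mem_gen (S := {r | Pos r}) hD.pos_hi t, mem_Cs_gen.2 fun g hg _ =>
    (hD.comm_of_nonneg h (hD.pairing_hi_nonneg hg) _ _).symm⟩

theorem zu (hD : ET D) (h : StB D x) : UU D x ⊓ Cs (UU D x) = XR D x (hi D) := by
  refine le_antisymm (fun u hu => ?_) (XR_hi_le hD h.toSt)
  rw [← gen_singleton (XR D x)]
  exact gen_mono _ (fun r hr => eq_hi_of_dom hD fun j => hr.2 (simpleR j) (pos_simpleR j))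
    (top hD h (B := {r | Pos r}) (fun _ h => h) hu.1 fun g hg => hu.2 _ (x_mem_gen hg 1))

/-- The second centre of `U`. -/
def Z2 (hD : ET D) (h : St D x) : Subgroup G where
  carrier := {g | g ∈ UU D x ∧ ∀ u ∈ UU D x, g * u * g⁻¹ * u⁻¹ ∈ XR D x (hi D)}
  one_mem' := ⟨one_mem _, fun u _ => by simp⟩
  mul_mem' := fun {a b} ha hb => ⟨mul_mem ha.1 hb.1, fun u hu => by
    have h1 := (XR_hi_le hD h (hb.2 u hu)).2 a ha.1
    rw [show a * b * u * (a * b)⁻¹ * u⁻¹ = a * (b * u * b⁻¹ * u⁻¹) * (u * a⁻¹ * u⁻¹) by group, h1,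
      mul_assoc]
    exact mul_mem (hb.2 u hu) (by simpa [mul_assoc] using ha.2 u hu)⟩
  inv_mem' := fun {a} ha => ⟨inv_mem ha.1, fun u hu => by
    have h1 := (XR_hi_le hD h (inv_mem (ha.2 u hu))).2 a⁻¹ (inv_mem ha.1)
    rw [show a⁻¹ * u * a⁻¹⁻¹ * u⁻¹ = a⁻¹ * (a * u * a⁻¹ * u⁻¹)⁻¹ * a by group, h1,
      inv_mul_cancel_right]
    exact inv_mem (ha.2 u hu)⟩

theorem x_mem_Z2 (hD : ET D) (h : St D x) {s : Rt D} (hs : Pos s) (h1 : ht (hi D) ≤ ht s + 1)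
    (t : F) : x s t ∈ Z2 hD h := by
  refine ⟨x_mem_gen (S := {r | Pos r}) hs t, fun u hu => ?_⟩
  refine gen_induction_left (p := fun u => x s t * u * (x s t)⁻¹ * u⁻¹ ∈ XR D x (hi D))
    (by simp) (fun p hp y hy g _ e => ?_) hu
  have h2 := (XR_hi_le hD h e).2 y (le_gen (XR D x) hp hy)
  rw [show x s t * (y * g) * (x s t)⁻¹ * (y * g)⁻¹ = x s t * y * (x s t)⁻¹ * y⁻¹ *
    (y * (x s t * g * (x s t)⁻¹ * g⁻¹) * y⁻¹) by group, h2, mul_inv_cancel_right]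
  refine mul_mem ?_ e
  obtain ⟨a, rfl⟩ := h.mem_XR.1 hy
  by_cases h0 : 0 ≤ D.pairing s p
  · rw [hD.comm_of_nonneg h h0]; simp
  · obtain ⟨u, hu⟩ := exists_add (pairing_eq_neg_one hD hs hp h0)
    have h3 := ht_of_add hu
    have h4 := pos_iff_ht.1 hp
    rw [hD.commutator_add h hu, hD.eq_hi_of_ht (s := u) (by omega)]
    exact x_mem_XR D x _ _

theorem z2 (hD : ET D) (h : StB D x) {s : Rt D} (hs : Pos s) {i : Fin D.rank}
    (e : rt (hi D) = rt s + rt (simpleR i : Rt D)) {g : G} (hg : g ∈ UU D x) :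
    (∀ u ∈ UU D x, g * u * g⁻¹ * u⁻¹ ∈ XR D x (hi D)) ↔ g ∈ XR D x (hi D) ⊔ XR D x s := by
  have h1 : ∀ r ∈ ({hi D, s} : Set (Rt D)), ∀ t, x r t ∈ Z2 hD h.toSt := by
    rintro r (rfl | rfl) t
    · exact x_mem_Z2 hD h.toSt hD.pos_hi (by omega) t
    · exact x_mem_Z2 hD h.toSt hs (by rw [ht_of_add e, ht_simpleR]) t
  have h2 : XR D x (hi D) ⊔ XR D x s = gen (XR D x) {hi D, s} := by
    rw [Set.insert_eq, gen_union, gen_singleton, gen_singleton]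
  rw [h2]
  refine ⟨fun hc => lead h.toSt h1 (fun r hr hT t v hv hK => ?_) hg ⟨hg, hc⟩,
    fun hg' => (SG.gen_le_iff.2 h1 hg').2⟩
  simp only [Set.mem_insert_iff, Set.mem_singleton_iff, not_or] at hT
  obtain ⟨j, hj⟩ := not_forall.1 fun h => hT.1 (eq_hi_of_dom hD h)
  obtain ⟨u, hu⟩ := exists_add (pairing_eq_neg_one hD hr (pos_simpleR j) hj)
  have h3 : u ≠ hi D := by
    rintro rfl
    obtain ⟨α, -, hα, -⟩ := hD.exists_nodes
    have key : ∀ (p : Rt D) (k : Fin D.rank), rt (hi D) = rt p + rt (simpleR k : Rt D) → k = α := by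
      intro p k hk
      have a1 := pairing_add (simpleR k) hk
      rw [pairing_self, hD.pairing_comm _ p, hD.pairing_of_add hk, simpleR_val, pairing_simple,
        hα] at a1
      by_contra hne
      rw [if_neg hne] at a1
      omega
    rw [key _ _ e, ← key _ _ hu] at e
    exact hT.2 (rt_inj (add_right_cancel (hu.symm.trans e)))
  have h4 := hK.2 _ (x_mem_gen (S := {r | Pos r}) (pos_simpleR j) 1)
  have h5 := (XR_hi_le hD h.toSt h4).2 _ (x_mem_gen (S := {r | Pos r}) (pos_simpleR j) 1)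
  refine eq_zero_of_conj hD h hr (pos_simpleR j) hu hv
    (le_gen (XR D x) (S := {r | Pos r ∧ (u : ℕ) + 1 ≤ r}) ⟨hD.pos_hi, ?_⟩ h4) ?_
  · have a1 := u.2
    have a2 : (u : ℕ) ≠ D.nroots - 1 := fun e => h3 (Fin.ext e)
    show (u : ℕ) + 1 ≤ D.nroots - 1
    omega
  · rw [h5]; group

end Grp

end H48.SgFa
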