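import Cfsg.Agent.H36.QESt

/-! Tower QE: the last configuration (`JobAc`). -/

set_option autoImplicit false

namespace H48.QEAc

open Cfsg Subgroup H14 H98 H97 H36.QE
open H14.CO (cen cen1 nor cm Tw mem_cen mem_cen1)

universe u

variable {G : Type u} [Group G] [Finite G]

theorem inv_unique {x s t : G} (hs : s ∈ zpowers x) (ht : t ∈ zpowers x) (h1 : CO.Inv s)
    (h2 : CO.Inv t) : s = t := by
  classical
  have := Fintype.ofFinite (zpowers x)
  have h := IsCyclic.card_orderOf_eq_totient (α := zpowers x) (d := 2) (by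
    rw [← Nat.card_eq_fintype_card, ← h1.orderOf]
    exact (zpowers x).orderOf_dvd_natCard hs)
  rw [Nat.totient_two, Finset.card_eq_one] at h
  obtain ⟨a, ha⟩ := h
  have h3 : (⟨s, hs⟩ : zpowers x) ∈ ({a} : Finset _) := by
    rw [← ha]; simp [h1.orderOf]
  have h4 : (⟨t, ht⟩ : zpowers x) ∈ ({a} : Finset _) := by
    rw [← ha]; simp [h2.orderOf]
  rw [Finset.mem_singleton] at h3 h4
  exact congrArg Subtype.val (h3.trans h4.symm)

theorem ac_core (s : SW G) {z t y x : G} {L J P : Subgroup G} (hA : Ac z t y L J P) {c : L}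
    (hc : C1 c) (hcP : (c : G) ∈ P ⊓ cen P) (hx : x ∈ J) (h1 : x⁻¹ * z * x * z * c ∈ cen J)
    (h2 : cm x c ∈ cen J) (h3 : GDe z J ∨ GDp L J) : False := by
  have hT := hA.tb
  have hS := hT.st
  have hz := hS.inv
  have ht := hT.inv
  have hV := hA.vt.2
  have hJ := hA.vt.1
  have hLJ : L ≤ J := hV.cp.le.trans inf_le_left
  have hci : CO.Inv (c : G) :=
    ⟨fun h => hc.1.1.1 (Subtype.ext h), congrArg Subtype.val hc.1.1.2⟩
  have zt : z * t = t * z := (mem_cen1.1 (hS.cz hT.mem)).symm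
  have zc : z * c = c * z := (mem_cen1.1 (hS.cp.le c.2)).symm
  have tc : t * c = c * t := (mem_cen.1 hT.cl c c.2).symm
  have hJt : ∀ {u : G}, u ∈ J → u * t = t * u := fun hu => mem_cen1.1 (hJ.le hu)
  have hzJ : ∀ {u : G}, u ∈ J → z * u * z⁻¹ ∈ J := fun hu => conj_mem_of_mem_normalizer hV.nz hu
  have ncL : ∀ {w : G}, w ∈ cen L → (c : G) ≠ w := fun hw e => hci.1 (by
    have : (c : G) ∈ L ⊓ cen L := ⟨c.2, e ▸ hw⟩
    rwa [hA.zl] at this)
  have k1 := hA.zj _ (by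
    have := mul_mem (mul_mem (inv_mem hx) (hzJ hx)) (hLJ c.2)
    rw [hz.inv] at this
    convert this using 1
    group) h1
  have k2 := hA.zj _ (CO.cm_mem hx (hLJ c.2)) h2
  have xt : x⁻¹ * t * x = t := by rw [mul_assoc, ← hJt hx]; group
  have e1 : ∀ k, x⁻¹ * z * x * z * c = k → x⁻¹ * z * x = k * c * z := fun k e => by
    rw [← e]
    calc x⁻¹ * z * x = x⁻¹ * z * x * (z * (c * c) * z) := by rw [hci.2, mul_one, hz.2, mul_one]
      _ = _ := by group
  rcases k2 with k2 | k2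
  swap
  · have e2 : x⁻¹ * c * x = t * c := by
      have : x * c * x⁻¹ = t * c := by rw [← k2, cm]; group
      have h5 : (c : G) = t * (x⁻¹ * c * x) := by
        calc (c : G) = x⁻¹ * (x * c * x⁻¹) * x := by group
          _ = x⁻¹ * t * x * (x⁻¹ * c * x) := by rw [this]; group
          _ = _ := by rw [xt]
      calc x⁻¹ * c * x = t * t * (x⁻¹ * c * x) := by rw [ht.2, one_mul]
        _ = t * c := by rw [mul_assoc, ← h5]
    have e3 : x⁻¹ * (x⁻¹ * z * x) * x = t * z := by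
      rcases k1 with k1 | k1
      · have e := e1 _ k1
        calc x⁻¹ * (x⁻¹ * z * x) * x = x⁻¹ * (1 * c * z) * x := by rw [e]
          _ = x⁻¹ * c * x * (x⁻¹ * z * x) := by group
          _ = t * (c * c) * z := by rw [e2, e]; group
          _ = _ := by rw [hci.2, mul_one]
      · have e := e1 _ k1
        calc x⁻¹ * (x⁻¹ * z * x) * x = x⁻¹ * (t * c * z) * x := by rw [e]
          _ = x⁻¹ * t * x * (x⁻¹ * c * x) * (x⁻¹ * z * x) := by group
          _ = t * t * (c * t) * c * z := by rw [xt, e2, e]; group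
          _ = t * (c * c) * z := by rw [ht.2, ← tc]; group
          _ = _ := by rw [hci.2, mul_one]
    refine hA.nc (isConj_iff.2 ⟨y⁻¹ * (x * x)⁻¹, ?_⟩)
    calc y⁻¹ * (x * x)⁻¹ * z * (y⁻¹ * (x * x)⁻¹)⁻¹ = y⁻¹ * (x⁻¹ * (x⁻¹ * z * x) * x) * y := by
          simp only [mul_inv_rev, inv_inv, mul_assoc]
      _ = t := by rw [e3, ← hA.yt]; group
  have xc : x * c = c * x := CO.cm_eq_one.1 k2
  rcases k1 with k1 | k1
  · exact s z L P hS hA.zl c x hc (by rw [e1 _ k1, one_mul, zc]) xc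
  have yz : y * z * y⁻¹ = z := CO.cj_eq_of_comm (mem_cen1.1 (hS.cz hT.ymem))
  have yc : y * c * y⁻¹ = c := CO.cj_eq_of_comm (mem_cen.1 hcP.2 y hT.ymem)
  obtain ⟨g, gz, gc, gt⟩ : ∃ g : G, g * z * g⁻¹ = t * c ∧ g * c * g⁻¹ = c ∧ g * t * g⁻¹ = t * z := by
    refine ⟨y * x⁻¹, ?_, ?_, ?_⟩
    · calc y * x⁻¹ * z * (y * x⁻¹)⁻¹ = y * (x⁻¹ * z * x) * y⁻¹ := by group
        _ = y * t * y⁻¹ * (y * c * y⁻¹) * (y * z * y⁻¹) := by rw [e1 _ k1]; group
        _ = t * (z * c) * z := by rw [hA.yt, yc, yz]; group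
        _ = t * c * (z * z) := by rw [zc]; group
        _ = _ := by rw [hz.2, mul_one]
    · calc y * x⁻¹ * c * (y * x⁻¹)⁻¹ = y * (x⁻¹ * (c * x)) * y⁻¹ := by group
        _ = _ := by rw [← xc, inv_mul_cancel_left, yc]
    · calc y * x⁻¹ * t * (y * x⁻¹)⁻¹ = y * (x⁻¹ * t * x) * y⁻¹ := by group
        _ = _ := by rw [xt, hA.yt]
  have hP1 : cj g P ≤ cen1 (t * c) := by rw [← gz, ← cj_cen1]; exact cj_mono g hS.cz
  have hP2 : cj g P ≤ cen1 (c : G) := by rw [← gc, ← cj_cen1]; exact cj_mono g (le_cen1 hcP.2)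
  have hP3 : cj g P ≤ cen1 t := fun u hu => mem_cen1.2 (by
    have a := mem_cen1.1 (hP1 hu)
    rw [← mul_assoc, mul_assoc t, ← mem_cen1.1 (hP2 hu), ← mul_assoc] at a
    exact mul_right_cancel a)
  have hPs : IsSyl 2 (cj g P) ⊤ := by simpa [cj_top] using hA.top.cj g
  have hU : IsSyl 2 (cj g P ⊓ J) J := (hPs.of_le hP3 le_top).inf_subN hJ.1
  obtain ⟨g0, hg0, hzg, hcard⟩ := hA.cyc
  rcases h3 with h3 | ⟨p, hp, -, hb, h3⟩
  · have mc : (c : G) ∈ cj g P := gc ▸ conj_mem_cj hcP.1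
    have mtc : t * c ∈ cj g P := gz ▸ conj_mem_cj hS.mem
    have mtz : t * z ∈ cj g (P ⊓ cen L) := gt ▸ conj_mem_cj ⟨hT.mem, hT.cl⟩
    have mt : t ∈ cj g P := by simpa using mul_mem mtc (inv_mem mc)
    have mz : z ∈ cj g P := by simpa using mul_mem (inv_mem mt) (cj_mono g inf_le_left mtz)
    have hn : cj g P ≤ nor (cj g (P ⊓ cen L)) := by
      rw [nor, ← cj_normalizer]
      exact cj_mono g (le_normalizer_inf le_normalizer (le_normalizer_centralizer hS.syl.le))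
    have hC : cj g (zpowers g0) = zpowers (g * g0 * g⁻¹) := by
      rw [cj, MonoidHom.map_zpowers]; rfl
    have hCR : zpowers (g * g0 * g⁻¹) ≤ cj g (P ⊓ cen L) := zpowers_le.2 (conj_mem_cj hg0)
    have hc2 : Nat.card (cj g (P ⊓ cen L)) ≤ 2 * Nat.card (zpowers (g * g0 * g⁻¹)) := by
      rw [← hC, card_cj, card_cj, Nat.card_zpowers, hcard]
    have mC : t * c ∈ zpowers (g * g0 * g⁻¹) := by rw [← gz, ← hC]; exact conj_mem_cj hzg
    have itc : CO.Inv (t * c) := gz ▸ hz.cj g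
    have itz : CO.Inv (t * z) := gt ▸ ht.cj g
    have nC : ∀ u ∈ cj g P, u⁻¹ * (t * z) * u ∉ zpowers (g * g0 * g⁻¹) := fun u hu h => by
      have i1 := itz.cj u⁻¹
      rw [inv_inv] at i1
      have e := inv_unique h mC i1 itc
      have e' : t * z = t * c := by
        calc t * z = u * (u⁻¹ * (t * z) * u) * u⁻¹ := by group
          _ = _ := by rw [e, mem_cen1.1 (hP1 hu)]; group
      exact ncL (mem_cen_of_le hS.cp.le) (mul_left_cancel e').symm
    obtain ⟨n, hn1⟩ := (le_zpowers_iff _ _).1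
      (inf_le_left : zpowers (g * g0 * g⁻¹) ⊓ J ≤ zpowers (g * g0 * g⁻¹))
    have m1 : (g * g0 * g⁻¹) ^ n ∈ zpowers (g * g0 * g⁻¹) ⊓ J := hn1 ▸ mem_zpowers _
    obtain ⟨u, hu, hu'⟩ := h3 _ hU
      (le_normalizer_inf (H := zpowers z) (zpowers_le.2 (le_normalizer mz)) (zpowers_le.2 hV.nz)
        (mem_zpowers z))
      _ ⟨cj_mono g inf_le_left (hCR m1.1), m1.2⟩
    have m2 := mul_mem_of_two hCR hc2 (conj_mem_of_mem_normalizer' (hn hu.1) mtz) mtz (nC u hu.1)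
      (by simpa using nC 1 (one_mem _))
    have m3 : u⁻¹ * (z * u * z⁻¹) ∈ J := J.mul_mem (J.inv_mem hu.2) (hzJ hu.2)
    have e : u⁻¹ * (t * z) * u * (t * z) = u⁻¹ * (z * u * z⁻¹) := by
      calc u⁻¹ * (t * z) * u * (t * z) = u⁻¹ * (t * z) * (u * t) * z := by group
        _ = u⁻¹ * z * (t * t) * u * z := by rw [← zt, hJt hu.2]; simp only [mul_assoc]
        _ = _ := by rw [ht.2, hz.inv]; group
    rw [e] at m2
    exact hu' (hn1 ▸ mem_inf.2 ⟨m2, m3⟩)
  · have ncJ : (c : G) ∉ cen J := fun h => (hA.zj _ (hLJ c.2) h).elim hci.1 (ncL hT.cl)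
    obtain ⟨f, hf, hfp, Q, hQ, hQ2, hfQ, hn⟩ :=
      h3 c (hLJ c.2) ncJ hci.2 _ hU (inf_le_left.trans hP2)
    have back : ∀ u ∈ J ⊓ cen1 (c : G), g⁻¹ * u * g ∈ nor L := fun u hu => by
      refine hA.nz (mem_cj.1 ?_)
      rw [cj_cen1, gz]
      refine mem_cen1.2 ?_
      rw [← mul_assoc, hJt hu.1, mul_assoc, mem_cen1.1 hu.2, mul_assoc]
    have gc' : g⁻¹ * c * g = c := by
      calc g⁻¹ * c * g = g⁻¹ * (g * c * g⁻¹) * g := by rw [gc]
        _ = c := by group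
    have hb1 := hb c hc (L.normalizerMonoidHom ⟨_, back f hf⟩) (Subtype.ext (by
        show g⁻¹ * f * g * c * (g⁻¹ * f * g)⁻¹ = c
        calc g⁻¹ * f * g * c * (g⁻¹ * f * g)⁻¹ = g⁻¹ * (f * (g * c * g⁻¹) * f⁻¹) * g := by group
          _ = _ := by rw [gc, mem_cen1.1 hf.2, mul_inv_cancel_right, gc']))
      (by
        rw [← map_pow, ← map_one L.normalizerMonoidHom]
        congr 1
        refine Subtype.ext ?_
        show (g⁻¹ * f * g) ^ p = 1
        have := conj_pow (a := g⁻¹) (b := f) (i := p)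
        rw [inv_inv] at this
        rw [this, hfp]; group)
    have hfc : g⁻¹ * f * g ∈ cen L := mem_cen.2 fun l hl => by
      have : g⁻¹ * f * g * l * (g⁻¹ * f * g)⁻¹ = l :=
        congrArg Subtype.val (DFunLike.congr_fun hb1 (⟨l, hl⟩ : L))
      exact (mul_inv_eq_iff_eq_mul.1 this).symm
    have hR : IsSyl 2 (P ⊓ cen L) (cen L) :=
      hS.syl.inf_of_le_normalizer (CO.cen_le_nor L) (le_normalizer_centralizer hS.syl.le)
    have hCy : Cy2 (P ⊓ cen L) := ⟨g0, hg0, hcard.le⟩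
    have hle : ⁅Q, zpowers f⁆ ≤ cj g (cen L) := by
      refine (commutator_mono le_rfl (zpowers_le.2 (mem_cj.2 hfc))).trans (commutator_le_right' ?_)
      rw [← cj_normalizer]
      exact fun u hu => mem_cj.2 (normalizer_le_normalizer_centralizer L (back u (hQ hu)))
    have h2g : IsPGroup 2 (⁅Q, zpowers f⁆ : Subgroup G) :=
      hQ2.to_le (commutator_le_left' (zpowers_le.2 hfQ))
    obtain ⟨m, -, hm⟩ := (hR.cj g).exists_le_cj h2g hle
    exact hn (((hCy.cj g).cj m).mono hm)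

omit [Finite G] in
theorem jobAc : JobAc.{u} := by
  rintro G _ _ - - s z t y L J P hA ⟨x, hx, c, hc, h1, h2⟩ h3
  obtain ⟨l, hl, hP⟩ := c1_center hA.tb.st.syl hc
  have hlJ : l ∈ J := (hA.vt.2.cp.le hl).1
  have hlz : l⁻¹ * z * l = z := by rw [mul_assoc, ← mem_cen1.1 (hA.tb.st.cp.le hl)]; group
  refine ac_core s (x := l * x * l⁻¹) hA (c := ⟨l, hl⟩ * c * ⟨l, hl⟩⁻¹)
    (hc.conj (isConj_iff.2 ⟨_, rfl⟩)) hP (mul_mem (mul_mem hlJ hx) (inv_mem hlJ)) ?_ ?_ h3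
  · have := cj_mem_cen (le_normalizer hlJ) h1
    convert this using 1
    show (l * x * l⁻¹)⁻¹ * z * (l * x * l⁻¹) * z * (l * c * l⁻¹) = _
    calc (l * x * l⁻¹)⁻¹ * z * (l * x * l⁻¹) * z * (l * c * l⁻¹)
        = l * (x⁻¹ * (l⁻¹ * z * l) * x * (l⁻¹ * z * l) * c) * l⁻¹ := by group
      _ = _ := by rw [hlz]
  · have := cj_mem_cen (le_normalizer hlJ) h2
    rw [← CO.cm_cj] at this
    exact this

end H48.QEAc
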