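import Cfsg.Agent.H36.QEPk
import Cfsg.Agent.H48.Rank2Solv

/-! Tower QE: the swap lemma (`JobSW`) and the diagonal pumpup (`JobDg`). -/

set_option autoImplicit false

namespace H48.QESW

open Cfsg Subgroup H14 H98 H97 H36.QE
open H14.CO (cen cen1 nor cm Tw mem_cen mem_cen1)

universe u

variable {G : Type u} [Group G]

/-- elements that fix `c` and permute `z`, `z c` -/
def sw (z c : G) (hc : c * c = 1) : Subgroup G where
  carrier := {g | g * c = c * g ∧ (g * z * g⁻¹ = z ∨ g * z * g⁻¹ = z * c)}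
  one_mem' := ⟨by simp, .inl (by simp)⟩
  mul_mem' := by
    rintro a b ⟨a1, a2⟩ ⟨b1, b2⟩
    have ac : a * c * a⁻¹ = c := by rw [a1]; group
    refine ⟨by rw [mul_assoc, b1, ← mul_assoc, a1, mul_assoc], ?_⟩
    have e : a * b * z * (a * b)⁻¹ = a * (b * z * b⁻¹) * a⁻¹ := by group
    have e2 : a * (z * c) * a⁻¹ = a * z * a⁻¹ * c := by
      calc a * (z * c) * a⁻¹ = a * z * a⁻¹ * (a * c * a⁻¹) := by group
        _ = _ := by rw [ac]
    rw [e]
    rcases b2 with b2 | b2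
    · rw [b2]; exact a2
    · rw [b2, e2]
      rcases a2 with a2 | a2
      · exact .inr (by rw [a2])
      · exact .inl (by rw [a2, mul_assoc, hc, mul_one])
  inv_mem' := by
    rintro a ⟨a1, a2⟩
    have ac : a⁻¹ * c * a = c := by rw [mul_assoc, ← a1]; group
    refine ⟨by rw [inv_mul_eq_iff_eq_mul, ← mul_assoc, a1]; group, ?_⟩
    rcases a2 with a2 | a2
    · refine .inl ?_
      calc a⁻¹ * z * a⁻¹⁻¹ = a⁻¹ * (a * z * a⁻¹) * a := by rw [a2, inv_inv]
        _ = z := by group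
    · refine .inr ?_
      have e : a⁻¹ * (z * c) * a = z := by rw [← a2]; group
      calc a⁻¹ * z * a⁻¹⁻¹ = a⁻¹ * (z * c) * a * (a⁻¹ * c * a) := by
            rw [inv_inv]
            calc a⁻¹ * z * a = a⁻¹ * (z * (c * c)) * a := by rw [hc, mul_one]
              _ = _ := by group
        _ = z * c := by rw [e, ac]

theorem sw_nor {z c : G} (hc : c * c = 1) : sw z c hc ≤ nor (cen1 z ⊓ cen1 c) := by
  have key : ∀ g ∈ sw z c hc, ∀ v ∈ cen1 z ⊓ cen1 c, g⁻¹ * v * g ∈ cen1 z ⊓ cen1 c := by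
    rintro g ⟨g1, g2⟩ v ⟨v1, v2⟩
    have v1 := mem_cen1.1 v1
    have v2 := mem_cen1.1 v2
    have h1 : v * (g * z * g⁻¹) = g * z * g⁻¹ * v := by
      rcases g2 with g2 | g2
      · rw [g2, v1]
      · rw [g2, ← mul_assoc, v1, mul_assoc, v2, mul_assoc]
    have h2 : g * c * g⁻¹ = c := by rw [g1]; group
    refine ⟨mem_cen1.2 ?_, mem_cen1.2 ?_⟩
    · calc g⁻¹ * v * g * z = g⁻¹ * (v * (g * z * g⁻¹)) * g := by group
        _ = _ := by rw [h1]; group
    · calc g⁻¹ * v * g * c = g⁻¹ * (v * (g * c * g⁻¹)) * g := by group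
        _ = g⁻¹ * ((g * c * g⁻¹) * v) * g := by rw [h2, v2]
        _ = _ := by group
  intro g hg
  refine mem_normalizer_iff.2 fun v => ⟨fun hv => ?_, fun hv => ?_⟩
  · simpa using key g⁻¹ (inv_mem hg) v hv
  · have := key g hg _ hv
    simpa [mul_assoc] using this

theorem sw_odd {z c a : G} (hc : c * c = 1) (h1 : a * c = c * a) (h2 : a * z * a⁻¹ = z * c) {m : ℕ}
    (hm : Odd m) : a ^ m * z * (a ^ m)⁻¹ = z * c := by
  obtain ⟨k, rfl⟩ := hm
  have ac : a * c * a⁻¹ = c := by rw [h1]; group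
  have h3 : a * a * z = z * (a * a) := by
    have : a * (a * z * a⁻¹) * a⁻¹ = z := by
      rw [h2]
      calc a * (z * c) * a⁻¹ = a * z * a⁻¹ * (a * c * a⁻¹) := by group
        _ = z := by rw [h2, ac, mul_assoc, hc, mul_one]
    calc a * a * z = a * (a * z * a⁻¹) * a⁻¹ * (a * a) := by group
      _ = _ := by rw [this]
  have h4 : (a * a) ^ k * z = z * (a * a) ^ k := (Commute.pow_left (h3 : Commute (a * a) z) k).eq
  have e : a ^ (2 * k + 1) = a * (a * a) ^ k := by rw [← pow_two, ← pow_mul, pow_succ']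
  rw [e]
  calc a * (a * a) ^ k * z * (a * (a * a) ^ k)⁻¹ = a * ((a * a) ^ k * z) * ((a * a) ^ k)⁻¹ * a⁻¹ := by
        group
    _ = a * z * a⁻¹ := by rw [h4]; group
    _ = _ := h2

variable [Finite G]

theorem odd_prime {L H : Subgroup G} (h : CP L H) : ∃ p : ℕ, p.Prime ∧ p ≠ 2 ∧ p ∣ Nat.card L := by
  by_contra hn
  push Not at hn
  have h1 : Nat.card L = 2 ^ (Nat.card L).primeFactorsList.length :=
    Nat.eq_prime_pow_of_unique_prime_dvd Nat.card_pos.ne' fun {d} hd hdv => by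
      by_contra h2
      exact hn d hd h2 hdv
  have h2 : IsPGroup 2 L := IsPGroup.of_card h1
  have := h2.isNilpotent
  exact not_cp_of_solvable (H := L) inferInstance (h.of_le le_rfl h.le)

theorem sw_core (k : Pk G) {z c x : G} {L P : Subgroup G} (hS : St z L P) (hZ : L ⊓ cen L = ⊥)
    (hcL : c ∈ L) (hc : CO.Inv c) (hP : P ≤ cen1 c) (hx : x⁻¹ * z * x = z * c) (hxc : x * c = c * x) :
    False := by
  have hzc : z * c = c * z := (mem_cen1.1 (hS.cp.le hcL)).symm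
  have hxs : x⁻¹ ∈ sw z c hc.2 := ⟨by rw [inv_mul_eq_iff_eq_mul, ← mul_assoc, hxc]; group,
    .inr (by rw [inv_inv, hx])⟩
  have hVs : cen1 z ⊓ cen1 c ≤ sw z c hc.2 := fun v hv =>
    ⟨mem_cen1.1 hv.2, .inl (by rw [mem_cen1.1 hv.1]; group)⟩
  obtain ⟨P0, hP0, hPP⟩ := exists_isSyl_le hS.syl.isPGroup (le_inf hS.cz hP)
  obtain ⟨a, ha, n, hn, e⟩ := hP0.frattini_mem (sw_nor hc.2 hxs)
  have ea : a = x⁻¹ * n⁻¹ := by rw [e]; group
  have has : a ∈ sw z c hc.2 := ea ▸ mul_mem hxs (inv_mem (hVs hn))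
  have haz : a * z * a⁻¹ = z * c := by
    have : n⁻¹ * z * n = z := by rw [mul_assoc, ← mem_cen1.1 hn.1]; group
    rw [ea]
    calc x⁻¹ * n⁻¹ * z * (x⁻¹ * n⁻¹)⁻¹ = x⁻¹ * (n⁻¹ * z * n) * x := by group
      _ = _ := by rw [this, hx]
  obtain ⟨m, hm, hb⟩ := CO.exists_odd_tw a
  have hbz := sw_odd hc.2 has.1 haz hm
  have hbs : a ^ m ∈ sw z c hc.2 := pow_mem has m
  have hbn : a ^ m ∈ nor P0 := pow_mem ha m
  generalize a ^ m = b at hb hbz hbs hbn
  have hT : IsPGroup 2 (zpowers b ⊔ P0 : Subgroup G) :=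
    CO.isPGroup_sup hb.zp hP0.isPGroup (zpowers_le.2 hbn)
  have hTs : zpowers b ⊔ P0 ≤ sw z c hc.2 := sup_le (zpowers_le.2 hbs) (hP0.le.trans hVs)
  have hbP : b ∉ cen1 z := fun h => hc.1 (by
    rw [mem_cen1.1 h, mul_inv_cancel_right] at hbz
    exact (mul_eq_left.1 hbz.symm))
  have h2 : 2 * Nat.card P0 ≤ Nat.card (zpowers b ⊔ P0 : Subgroup G) :=
    two_card_le le_sup_right fun h => hbP (hP0.le (h (mem_sup_left (mem_zpowers b)))).1
  have h3 : Nat.card P ≤ Nat.card P0 := card_le_of_le hPP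
  have hpos : 0 < Nat.card P := Nat.card_pos
  rcases hS.cases with ⟨h, -⟩ | ⟨T, s, hTy, hPT, hcard, hTz, hs, hne⟩
  · have := h.card_le hT le_top
    omega
  have h4 := hTy.card_le hT le_top
  have hy : IsSyl 2 (zpowers b ⊔ P0) ⊤ := hTy.of_card_ge hT le_top (by omega)
  obtain rfl : P = P0 := CO.eq_of_le_of_card_le hPP (by omega)
  have hTc : zpowers b ⊔ P ≤ cen1 c := fun g hg => mem_cen1.2 (hTs hg).1
  have hL2 : CP (cj s L) (cen1 z) := hS.cp.cj_of_mem_normalizer (nor_cen1 (hTz hs))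
  have hcm : L ≤ cen (cj s L) := cen_of_comm ((hS.cp.eq_or_commute hL2).resolve_left hne.symm)
  have hL2V : CP (cj s L) (cen1 z ⊓ cen1 c) :=
    hL2.of_le (le_inf hL2.le (le_cen1 (hcm hcL))) inf_le_left
  have hTP : T ≤ nor P := by
    have hlt : P < T := lt_of_le_of_ne hPT fun h => by rw [← h] at hcard; omega
    have := lt_inf_normalizer hTy.isPGroup hlt
    exact (le_of_index_two hcard.le this.le inf_le_left this.not_ge).trans inf_le_right
  have hPL2 : P ≤ nor (cj s L) := by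
    rw [← cj_eq_self (hTP hs), nor, ← cj_normalizer]
    exact cj_mono s hS.syl.le
  have hL2c : CP (cj s L) (cen1 c) := by
    refine k.bc z c _ _ _ hS.inv hc hzc hL2V (hy.of_le hTc le_top) le_rfl (by omega) fun d hd => ?_
    rcases (hTs hd).2 with h | h
    · rw [cm, h, mul_inv_cancel]; exact one_mem _
    · rw [cm, h, hzc, mul_inv_cancel_right]; exact mem_zpowers c
  have hL3c : CP (cj b (cj s L)) (cen1 c) :=
    hL2c.cj_of_mem_normalizer (nor_cen1 (hTc (mem_sup_left (mem_zpowers b))))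
  have h32 : cj b (cj s L) ≠ cj s L := fun h => by
    have h5 : zpowers b ⊔ P ≤ nor (cj s L) := sup_le (zpowers_le.2 (cj_eq_self_iff.1 h)) hPL2
    rw [nor, ← cj_normalizer, le_cj_iff] at h5
    have := hS.syl.card_le (isPGroup_cj s⁻¹ hT) h5
    rw [card_cj] at this
    omega
  have hL3V : CP (cj b (cj s L)) (cen1 c ⊓ cen1 z) := by
    rw [inf_comm]
    exact hL2V.cj_of_mem_normalizer (sw_nor hc.2 hbs)
  obtain ⟨K, hK, hle⟩ : ∃ K, CP K (cen1 z) ∧ cj b (cj s L) ≤ K := by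
    rcases k.pump c z _ hc hS.inv hzc.symm hL3V with h | ⟨J, h⟩ | ⟨J, h⟩
    · exact ⟨_, h, le_rfl⟩
    · exact ⟨J, h.1, h.2.cp.le.trans inf_le_left⟩
    · exact absurd (cj_eq_self (h.cp.layerOf_le_normalizer (hS.cp.le_layerOf hcL))) h.ne
  obtain ⟨p, hp, hp2, hd⟩ := odd_prime hS.cp
  refine k.three z L (cj s L) K p hS.inv hS.cp hL2 hK hne.symm ?_ ?_ hp hp2 hd (by rwa [card_cj])
    (Dvd.dvd.trans (by rwa [card_cj, card_cj]) (card_dvd_of_le hle))
  · rintro rfl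
    have h5 : cj b (cj s L) = L := CO.eq_of_le_of_card_le hle (by rw [card_cj, card_cj])
    have h6 : c ∈ L ⊓ cen L := ⟨hcL, mem_cen_of_le (h5 ▸ hL3c.le)⟩
    rw [hZ] at h6
    exact hc.1 h6
  · rintro rfl
    exact h32 (CO.eq_of_le_of_card_le hle (by rw [card_cj b]))

omit [Finite G] in
theorem jobSW : JobSW.{u} := by
  intro G _ _ _ k z L P hS hZ c x hc hx hxc
  obtain ⟨l, hl, hP⟩ := c1_center hS.syl hc
  have hci : CO.Inv (c : G) :=
    ⟨fun h => hc.1.1.1 (Subtype.ext h), congrArg Subtype.val hc.1.1.2⟩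
  have hlz : l⁻¹ * z * l = z := by rw [mul_assoc, ← mem_cen1.1 (hS.cp.le hl)]; group
  have hlz' : l * z * l⁻¹ = z := by rw [mem_cen1.1 (hS.cp.le hl)]; group
  refine sw_core k (x := l * x * l⁻¹) hS hZ (mul_mem (mul_mem hl c.2) (inv_mem hl)) (hci.cj l)
    (le_cen1 hP.2) ?_ ?_
  · calc (l * x * l⁻¹)⁻¹ * z * (l * x * l⁻¹) = l * (x⁻¹ * (l⁻¹ * z * l) * x) * l⁻¹ := by group
      _ = l * z * l⁻¹ * (l * c * l⁻¹) := by rw [hlz, hx]; group
      _ = _ := by rw [hlz']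
  · calc l * x * l⁻¹ * (l * c * l⁻¹) = l * (x * c) * l⁻¹ := by group
      _ = _ := by rw [hxc]; group

omit [Finite G] in
theorem jobDg : JobDg.{u} := by
  intro G _ _ h k s z t y L J P hT hD
  have hS := hT.st
  have hz := hS.inv
  have hc : z * t = t * z := (mem_cen1.1 (hS.cz hT.mem)).symm
  have hLt : L ≤ cen1 t := le_cen1 hT.cl
  have hJ' := hD.cp' hc
  have hn := k.dgn z t L J hz hc hD
  have qq := hT.qq _ hD.le (fun g hg => hn ⟨hg.2, hS.syl.le hg.1⟩) (k.dgs z t L J hz hc hD hS.cp.quasi)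
  have dc := k.dgc z t L J hz hc hD
  have hyL : y ∈ nor L := hS.syl.le hT.ymem
  have hIJ : J ⊔ cj z J ≤ nor J := sup_le le_normalizer ((hD.cen hc).trans (CO.cen_le_nor J))
  have hyc : ∀ q ∈ cen L, y * q * y⁻¹ ∈ cen L := fun q hq =>
    conj_mem_of_mem_normalizer (normalizer_le_normalizer_centralizer L hyL) hq
  have hZI : ∀ w ∈ L ⊓ cen L, w ∈ cen (J ⊔ cj z J) := fun w hw =>
    (dc w (hLt hw.1) hw.2).resolve_right fun h1 => hD.ne (cj_eq_self (by
      have h2 : w * z ∈ nor J := CO.cen_le_nor J (centralizer_anti le_sup_left h1)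
      simpa using mul_mem (inv_mem (hIJ (hD.le hw.1))) h2))
  have hZ : L ⊓ cen L = ⊥ := by
    have hZP : L ⊓ cen L ≤ P := hS.syl.le_of_le_normalizer (h.z2 z L hz hS.cp)
      (inf_le_left.trans le_normalizer)
      (le_normalizer_inf hS.syl.le (le_normalizer_centralizer hS.syl.le))
    refine eq_bot_iff.2 fun w hw => mem_bot.2 (qq w ⟨hZP hw, hLt hw.1⟩ (hZI w hw) (hZI _ ?_))
    exact ⟨conj_mem_of_mem_normalizer hyL hw.1, hyc w hw.2⟩
  have hQ1 : ∀ q ∈ P ⊓ cen1 t, q ∈ cen (J ⊔ cj z J) → q ≠ 1 →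
      y * q * y⁻¹ * z ∈ cen (J ⊔ cj z J) := fun q hq hq' h1 =>
    (dc _ (conj_mem_of_mem_normalizer hT.yn hq).2 (hyc q (centralizer_anti hD.le hq'))).resolve_left
      fun h2 => h1 (qq q hq hq' h2)
  have htP : t ∈ P ⊓ cen1 t := ⟨hT.mem, mem_cen1.2 rfl⟩
  have htI : t ∈ cen (J ⊔ cj z J) := mem_cen_of_le (sup_le hD.cp.le hJ'.le)
  have hQ : ∀ q ∈ P ⊓ cen1 t, q ∈ cen (J ⊔ cj z J) → q ∈ zpowers t := fun q hq hq' => by
    by_cases h1 : q = 1
    · exact h1 ▸ one_mem _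
    have h2 := mul_mem (hQ1 q hq hq' h1) (inv_mem (hQ1 t htP htI hT.inv.1))
    have h3 := qq (q * t⁻¹) (mul_mem hq (inv_mem htP)) (mul_mem hq' (inv_mem htI))
      (by convert h2 using 1; group)
    exact mul_inv_eq_one.1 h3 ▸ mem_zpowers t
  obtain ⟨j, hj, hj2, hjc⟩ : ∃ j ∈ J, j * j = 1 ∧ j ∉ cen J := by
    by_contra hn'
    push Not at hn'
    obtain ⟨A, -, hA2, hA4⟩ := h.rk t J hT.inv hD.cp
    have hE2 : ∀ e ∈ A.map J.subtype, e * e = 1 := by
      rintro _ ⟨a, ha, rfl⟩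
      have := congrArg Subtype.val (hA2 a ha)
      simpa [pow_two] using this
    have hEJ : A.map J.subtype ≤ J := map_subtype_le A
    have hEI : A.map J.subtype ≤ cen (J ⊔ cj z J) := fun e he => by
      rw [cen, centralizer_sup]
      exact ⟨hn' e (hEJ he) (hE2 e he), CO.cen_symm (hD.cen hc) (hEJ he)⟩
    obtain ⟨g, hg, hle⟩ := hT.syl.exists_cj_le (Q := A.map J.subtype)
      (CO.isPGroup_of_tw fun e he => CO.tw_of_sq (hE2 e he))
      (le_inf (hEI.trans ((centralizer_anti hD.le).trans (CO.cen_le_nor L))) (hEJ.trans hD.cp.le))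
    have h1 : cj g (A.map J.subtype) ≤ cen (J ⊔ cj z J) :=
      cj_le_of_le hEI (normalizer_le_normalizer_centralizer _ (hn ⟨hg.2, hg.1⟩))
    have h2 : cj g (A.map J.subtype) ≤ zpowers t := fun q hq => hQ q (hle hq) (h1 hq)
    have h3 := card_le_of_le h2
    rw [card_cj, card_map_of_injective J.subtype_injective, Nat.card_zpowers, hT.inv.orderOf] at h3
    omega
  have hcom : ∀ {a b : G}, a ∈ J → b ∈ J → a * (z * b * z⁻¹) = z * b * z⁻¹ * a := hD.comm hc
  let f : J →* L :=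
    { toFun := fun a => ⟨a * (z * a * z⁻¹), hD.mem a a.2⟩
      map_one' := Subtype.ext (by simp)
      map_mul' := fun a b => Subtype.ext (by
        show (a : G) * b * (z * (a * b) * z⁻¹) = a * (z * a * z⁻¹) * (b * (z * b * z⁻¹))
        calc (a : G) * b * (z * (a * b) * z⁻¹) = a * (b * (z * a * z⁻¹)) * (z * b * z⁻¹) := by group
          _ = _ := by rw [hcom b.2 a.2]; group) }
  have hf : Function.Surjective f := fun l => by
    obtain ⟨a, ha, e⟩ := hD.sur l l.2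
    exact ⟨⟨a, ha⟩, Subtype.ext e.symm⟩
  have hker : ∀ a : J, f a = 1 → (a : G) ∈ cen J := fun a ha =>
    hD.cen_of hc a.2 (by
      have : (a : G) * (z * a * z⁻¹) = 1 := congrArg Subtype.val ha
      rw [this]; exact one_mem _)
  have hk2 : IsPGroup 2 f.ker := CO.isPGroup_of_tw fun a ha => by
    obtain ⟨n, hn⟩ := CO.tw_of_mem (h.z2 t J hT.inv hD.cp) (x := a) ⟨a.2, hker a ha⟩
    exact ⟨n, Subtype.ext (by simpa using hn)⟩
  have thin : ∀ p : ℕ, p.Prime → p ≠ 2 → PRankLE p 1 L := fun p hp h2 => by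
    have : Fact p.Prime := ⟨hp⟩
    refine H48.pRankLE_of_surjective
      (k.thin t J _ hT.inv hD.cp hJ' hD.ne.symm (card_cj z J).symm p hp h2) f hf ?_
    obtain ⟨n, hn⟩ := IsPGroup.iff_card.1 hk2
    rw [hn]
    exact Nat.Coprime.pow_left n ((Nat.coprime_primes Nat.prime_two hp).2 h2.symm)
  have hci : CO.Inv (f ⟨j, hj⟩) := ⟨fun e => hjc (hker _ e), by
    rw [← map_mul, show (⟨j, hj⟩ : J) * ⟨j, hj⟩ = 1 from Subtype.ext hj2, map_one]⟩
  have hjj : j⁻¹ = j := inv_eq_of_mul_eq_one_right hj2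
  refine s z L P hS hZ (f ⟨j, hj⟩) j (h.one z L hz hS.cp hZ thin _ hci) ?_ ?_
  · show j⁻¹ * z * j = z * (j * (z * j * z⁻¹))
    rw [hcom hj hj, hjj]
    calc j * z * j = z * z * j * z * j := by rw [hz.2, one_mul]
      _ = _ := by rw [hz.inv]; group
  · show j * (j * (z * j * z⁻¹)) = j * (z * j * z⁻¹) * j
    rw [mul_assoc j _ j, ← hcom hj hj]

end H48.QESW
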