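import Cfsg.Agent.H48.QFF4A
import Cfsg.Agent.H48.QEF4

/-! Tower QF, job `JobFF4`: the package `KS` for `²F₄(q)` and the Tits group. -/

set_option autoImplicit false
set_option linter.unusedSectionVars false
set_option linter.unusedSimpArgs false
set_option linter.unnecessarySeqFocus false

namespace H48.FF4

open Cfsg Subgroup H14 H98 H97 H36.QE H36.QF
open H14.CO (cen cen1 nor cm Tw mem_cen mem_cen1)
open H63.Oc hiding Hy
open H4.Pa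

universe u v

section G

variable {K : Type v} [Field K] [Finite K] [CharP K 2] {T : TF K} {G : Type u} [Group G] [Finite G]

/-- the subgroup `W : SL₂(q)` of the centraliser of `x₅(1)` -/
def YY (A : AD T G) : Subgroup G :=
  closure ({A.n1} ∪ (Set.range fun t => A.ι (x1 T t)) ∪ Set.range fun t => A.ι (x4 T t))

variable {A : AD T G}

theorem n1_Y : A.n1 ∈ YY A := subset_closure (.inl (.inl rfl))
theorem x1_Y (t : K) : A.ι (x1 T t) ∈ YY A := subset_closure (.inl (.inr ⟨t, rfl⟩))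
theorem x4_Y (t : K) : A.ι (x4 T t) ∈ YY A := subset_closure (.inr ⟨t, rfl⟩)

theorem x4_x5 (a b : K) : A.ι (x4 T a) ∈ cen1 (A.ι (x5 T b)) := by
  rw [mem_cen1, ← map_mul, ← map_mul, H14.Oc.x4_comm]

theorem Y_le : YY A ≤ cen1 (A.ι (x5 T 1)) := (closure_le _).2 <| by
  rintro _ ((rfl | ⟨t, rfl⟩) | ⟨t, rfl⟩)
  exacts [mem_cen1.2 (n1_x5 1), mem_cen1.2 (x1_x5 t 1), x4_x5 t 1]

theorem n1_eq : A.n1 = A.ι (x1 T 1) * (A.n1 * A.ι (x1 T 1) * A.n1⁻¹) * A.ι (x1 T 1) := by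
  have h := A.rank1
  refine (n1_inv A).symm.trans ?_
  rw [inv_eq_iff_mul_eq_one, ← h, n1_inv A]
  simp only [pow_succ, pow_zero, one_mul, mul_assoc]

theorem h_n1 (a : Kˣ) : A.h (a, 1) * A.n1 * (A.h (a, 1))⁻¹ = A.h (a ^ 2, a⁻¹) * A.n1 := by
  rw [← mul_inv_eq_iff_eq_mul, n1_inv, ← map_inv, mul_assoc, mul_assoc, ← mul_assoc A.n1, A.n1_h, ← map_mul]
  congr 1; simp [w1, sq]

theorem d_Y (a : Kˣ) : A.h (a ^ 2, a⁻¹) ∈ YY A := by
  have e : A.h (a, 1) * (A.n1 * A.ι (x1 T 1) * A.n1⁻¹) * (A.h (a, 1))⁻¹ =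
      A.n1 * ((A.n1 * A.h (a, 1) * A.n1) * A.ι (x1 T 1) * (A.n1 * A.h (a, 1) * A.n1)⁻¹) * A.n1⁻¹ := by
    simp only [mul_inv_rev, n1_inv, ← mul_assoc, A.n1_sq, one_mul]
    simp only [mul_assoc, A.n1_sq, mul_one]
  rw [← mul_mem_cancel_right n1_Y, ← h_n1, n1_eq, ← conj_mul, ← conj_mul, e, A.n1_h, h_x1, h_x1]
  exact mul_mem (mul_mem (x1_Y _) (mul_mem (mul_mem n1_Y (x1_Y _)) (inv_mem n1_Y))) (x1_Y _)

theorem Y_le_of {a : Kˣ} (ha : a ≠ 1) {X : Subgroup G} (hn : ∀ y ∈ YY A, ∀ x ∈ X, y * x * y⁻¹ ∈ X)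
    (h1 : ∀ s, A.h (a ^ 2, a⁻¹) * A.ι (x1 T s) * (A.h (a ^ 2, a⁻¹))⁻¹ * (A.ι (x1 T s))⁻¹ ∈ X)
    (h4 : ∀ t, A.ι (x4 T t) ∈ X) : YY A ≤ X := by
  have h2 : (a : K) ^ 2 + 1 ≠ 0 := fun e => ha (Units.ext (by
    have : ((a : K) + 1) ^ 2 = 0 := by rw [CharTwo.add_sq, one_pow, e]
    exact CharTwo.add_eq_zero.1 (pow_eq_zero_iff two_ne_zero |>.1 this)))
  have k : ∀ t, A.ι (x1 T t) ∈ X := fun t => by
    have := h1 (t / (a ^ 2 + 1))
    rw [h_x1, ← map_inv, ← map_mul] at this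
    convert this using 2
    ext <;> simp [x1]
    field_simp
  refine (closure_le _).2 ?_
  rintro _ ((rfl | ⟨t, rfl⟩) | ⟨t, rfl⟩)
  · rw [n1_eq]; exact mul_mem (mul_mem (k 1) (hn _ n1_Y _ (k 1))) (k 1)
  exacts [k t, h4 t]

theorem Y_perf {a : Kˣ} (ha : a ≠ 1) : ⁅YY A, YY A⁆ = YY A := by
  refine le_antisymm (commutator_le.2 fun a ha b hb =>
    mul_mem (mul_mem (mul_mem ha hb) (inv_mem ha)) (inv_mem hb)) (Y_le_of ha (fun y hy x hx => ?_)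
      (fun s => commutator_mem_commutator (d_Y a) (x1_Y s)) fun t => ?_)
  · have := mem_map_of_mem (MulAut.conj y).toMonoidHom hx
    rw [map_commutator] at this
    have k : (YY A).map (MulAut.conj y).toMonoidHom ≤ YY A := by
      rintro _ ⟨z, hz, rfl⟩; exact mul_mem (mul_mem hy hz) (inv_mem hy)
    exact commutator_mono k k this
  · have h2 : (a : K) + 1 ≠ 0 := fun e => ha (Units.ext (CharTwo.add_eq_zero.1 e))
    have := commutator_mem_commutator (d_Y (A := A) a) (x4_Y (A := A) (t / (a + 1)))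
    rw [commutatorElement_def, h_x4, ← map_inv, ← map_mul] at this
    convert this using 2
    ext <;> simp [x4]
    field_simp

theorem x4_inv (t : K) : A.ι (x4 T t) * A.ι (x4 T t) = 1 := by rw [← map_mul, Asm.x4_sq, map_one]
theorem x1_inv (t : K) : A.ι (x1 T t) * A.ι (x1 T t) = 1 := by rw [← map_mul, Asm.x1_sq, map_one]

omit [Finite G] in
theorem comm_mem {Y X : Subgroup G} (hn : ∀ y ∈ Y, ∀ x ∈ X, y * x * y⁻¹ ∈ X) {u f w x : G} (hu : u ∈ X)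
    (hw : w ∈ X) (hf : f ∈ Y) (hx : x ∈ Y) (hc : f * x * f⁻¹ = x) :
    u * f * w⁻¹ * x * (u * f * w⁻¹)⁻¹ * x⁻¹ ∈ X := by
  have := mul_mem (mul_mem (mul_mem hu (hn _ hf _ (inv_mem hw))) (hn _ (mul_mem hf hx) _ hw))
    (hn _ hx _ (inv_mem hu))
  have e : f * x * w * (f * x)⁻¹ * (x * u⁻¹ * x⁻¹) = f * x * w * (f * x)⁻¹ * (f * x * f⁻¹ * u⁻¹ * x⁻¹) := by
    rw [hc]
  rw [mul_assoc, e] at this
  convert this using 1
  group

theorem Y_gen {a : Kˣ} (ha : a ≠ 1) : GenP 3 (YY A) := by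
  obtain ⟨X, hX⟩ : ∃ X, X = closure {x | x ∈ YY A ∧ x ^ 3 = 1} := ⟨_, rfl⟩
  have k : ∀ x ∈ YY A, x ^ 3 = 1 → x ∈ X := fun x h1 h2 => hX ▸ Subgroup.subset_closure ⟨h1, h2⟩
  have hn : ∀ y ∈ YY A, ∀ x ∈ X, y * x * y⁻¹ ∈ X := fun y hy x hx =>
    (closure_le (K := comap (MulAut.conj y).toMonoidHom X)).2 (fun x hx => k (y * x * y⁻¹)
      (mul_mem (mul_mem hy hx.1) (inv_mem hy)) (by rw [conj_pow, hx.2]; simp)) (hX ▸ hx)
  have hv := k _ (mul_mem n1_Y (x1_Y 1)) A.rank1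
  rw [GenP, ← hX]
  refine Y_le_of ha hn (fun s => ?_) fun t => mem_of_a4 (x4_inv t) hv (hn _ (x4_Y t) _ hv) (a4_x4 t)
  have e : A.h (a ^ 2, a⁻¹) * A.n1 * A.ι (x1 T a) = A.h (a, 1) * (A.n1 * A.ι (x1 T 1)) * (A.h (a, 1))⁻¹ := by
    rw [← h_n1, ← mul_one (a : K), ← h_x1 (A := A) (a, 1) 1]; group
  have hu := k (A.h (a ^ 2, a⁻¹) * A.n1 * A.ι (x1 T a)) (mul_mem (mul_mem (d_Y a) n1_Y) (x1_Y _))
    (by rw [e, conj_pow, A.rank1, mul_one, mul_inv_cancel])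
  have hc : (A.ι (x1 T a))⁻¹ * A.ι (x1 T 1) * A.ι (x1 T s) * ((A.ι (x1 T a))⁻¹ * A.ι (x1 T 1))⁻¹ =
      A.ι (x1 T s) := by
    rw [← map_inv, ← map_mul, ι_c]
    congr 1
    ext <;> simp [x1] <;> grind
  have := comm_mem hn hu hv (mul_mem (inv_mem (x1_Y _)) (x1_Y 1)) (x1_Y s) hc
  rwa [show A.h (a ^ 2, a⁻¹) * A.n1 * A.ι (x1 T a) * ((A.ι (x1 T a))⁻¹ * A.ι (x1 T 1)) *
    (A.n1 * A.ι (x1 T 1))⁻¹ = A.h (a ^ 2, a⁻¹) by group] at this

/-- a normal subgroup of index at most two that contains all involutions -/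
structure Nm (A : AD T G) (N : Subgroup G) : Prop where
  nrm : N.Normal
  idx : ∀ g, g ∈ N ∨ g * A.ι (y4 T 1) ∈ N
  inv : ∀ g, g * g = 1 → g ∈ N

variable {N : Subgroup G} (M : Md A) (h : Nm A N)
include h

theorem Nm.three {g : G} (h3 : g ^ 3 = 1) : g ∈ N := by
  rcases h.idx g with k | k
  · exact k
  rcases h.idx (g * g) with k' | k'
  · rwa [eq_inv_of_mul_eq_one_left (show g * g * g = 1 by rw [← h3]; simp [pow_succ]), inv_mem_iff] at k'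
  · simpa using mul_mem k' (inv_mem k)

theorem Nm.conj {a w : N} {c : Co T} (ha : a.1 = A.ι c) (hc : y4 T 1 * c = c * y4 T 1)
    (e : IsConj a.1 w.1) : IsConj a w := by
  obtain ⟨g, e⟩ := isConj_iff.1 e
  rcases h.idx g with k | k
  · exact isConj_iff.2 ⟨⟨g, k⟩, Subtype.ext e⟩
  · refine isConj_iff.2 ⟨⟨_, k⟩, Subtype.ext ?_⟩
    change g * _ * a.1 * (g * _)⁻¹ = w.1
    rw [conj_mul', ha, ι_c, hc, mul_inv_cancel_right, ← ha, e]

theorem Nm.my8 : ∃ d : Co T, d.b8 = 1 ∧ A.ι d ∈ N := by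
  rcases h.idx (A.ι (y8 T 1)) with k | k
  · exact ⟨_, rfl, k⟩
  · exact ⟨y8 T 1 * y4 T 1, by simp [y8, y4], by rwa [map_mul]⟩

theorem Nm.mx8 : A.ι (x8 T 1) ∈ N := h.inv _ (by
  rw [← map_mul, ← map_one A.ι]; congr 1; ext <;> simp [x8] <;> grind)

theorem Nm.mx5 : A.ι (x5 T 1) ∈ N := h.inv _ (by
  rw [← map_mul, ← map_one A.ι]; congr 1; ext <;> simp [x5] <;> grind)

theorem Nm.rank (hb : A.Braid) : ¬ PRankLE 3 1 N := by
  obtain ⟨a, b, h1, h2, h3, h4, h5⟩ := exists_pair hb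
  exact rank_of_pair (a := ⟨a, h.three h1⟩) (b := ⟨b, h.three h2⟩) (Subtype.ext h1) (Subtype.ext h2)
    (fun e => h3 (congrArg Subtype.val e)) (Subtype.ext h4) fun ⟨k, hk⟩ => h5 ⟨k, congrArg Subtype.val hk⟩

theorem Nm.cenA {X : Subgroup (Co T)} (h1 : x1 T 1 ∈ X) (h8 : x8 T 1 ∈ X) {c : Co T} {x : N}
    (e : A.ι c = x) (hx : x ∈ cen ((A.im X).subgroupOf N)) : c ∈ sA T ∧ c.a6 = 0 :=
  A_of_comm (A.inj (by
    rw [map_mul, map_mul, e]
    exact congrArg Subtype.val (mem_cen.1 hx ⟨_, h.inv _ (x1_inv 1)⟩ ⟨_, h1, rfl⟩).symm)) (A.inj (by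
    rw [map_mul, map_mul, e]
    exact congrArg Subtype.val (mem_cen.1 hx ⟨_, h.mx8⟩ ⟨_, h8, rfl⟩).symm))

omit h in
theorem eq_x4 {c : Co T} (h1 : c ∈ sA T ∧ c.a6 = 0) (h5 : c.a5 = 0) : c = x4 T c.a4 :=
  Asm.eq_x4 (by simp_all [mem_sA, mem_sZ])

theorem Nm.cenU {x : N} (h1 : x ∈ A.S.subgroupOf N) (h2 : x ∈ cen (A.S.subgroupOf N)) :
    ∃ b, x.1 = A.ι (x4 T b) := by
  obtain ⟨c, e⟩ := h1
  obtain ⟨d, hd, hN⟩ := h.my8
  have h3 := h.cenA (X := ⊤) trivial trivial e (by rwa [CS.im, ← MonoidHom.range_eq_map])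
  refine ⟨_, e.symm.trans (congrArg _ (eq_x4 h3 (a5_of_comm h3.1 hd (A.inj ?_))))⟩
  rw [map_mul, map_mul, e]
  exact congrArg Subtype.val (mem_cen.1 h2 ⟨_, hN⟩ ⟨_, rfl⟩).symm

theorem Nm.ncomm : ¬ IsMulCommutative (A.S.subgroupOf N) := fun k => by
  have := congrArg (fun x => x.1.1) (k.1.1 ⟨⟨_, h.inv _ (x1_inv 1)⟩, ⟨_, rfl⟩⟩ ⟨⟨_, h.mx8⟩, ⟨_, rfl⟩⟩)
  simp only [coe_mul, ← map_mul] at this
  simpa [x1, x8] using congrArg Co.b6 (A.inj this)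

include M

theorem Nm.sylU : IsSyl 2 (A.S.subgroupOf N) ⊤ := by
  have := h.nrm
  have := (M.sylS.inf_of_le_normalizer (N := N) le_top (by simp [normalizer_eq_top])).subgroupOf_top
  rwa [inf_subgroupOf_right] at this

theorem Nm.sylQ : IsSyl 2 ((A.im (sT5 T)).subgroupOf N) (cen1 (⟨_, h.mx5⟩ : N)) := by
  have := h.nrm
  have := (M.syl5.inf_of_le_normalizer (N := cen1 (A.ι (x5 T 1)) ⊓ N) inf_le_left fun g hg =>
    inf_normalizer_le_normalizer_inf ⟨le_normalizer (M.syl5.le hg), by simp [normalizer_eq_top]⟩).subgroupOf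
      inf_le_right
  convert this using 1
  · ext x
    exact ⟨fun k => ⟨k, M.syl5.le k, x.2⟩, fun k => k.1⟩
  · ext x
    rw [mem_cen1, mem_subgroupOf, mem_inf, mem_cen1, Subtype.ext_iff]
    exact ⟨fun k => ⟨k, x.2⟩, fun k => k.1⟩

theorem Nm.ni (hX : ∃ X : Subgroup N, X ≤ cen1 (⟨_, h.mx5⟩ : N) ∧ Gd X ∧
    (⟨_, h.three A.rank1⟩ : N) ∈ X ∧ ∀ b, (⟨_, h.inv _ (x4_inv (A := A) b)⟩ : N) ∈ X) : NI N := by
  have le4 : ∀ b, A.S.subgroupOf N ≤ cen1 (⟨_, h.inv _ (x4_inv (A := A) b)⟩ : N) := by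
    rintro b ⟨_, hx⟩ ⟨c, rfl⟩
    exact mem_cen1.2 (Subtype.ext (by simp only [coe_mul, ← map_mul, H14.Oc.x4_comm]))
  refine ni_of_nb fun w h1 h2 => ⟨⟨_, h.mx5⟩, _, ?_, h.sylQ M, ?_⟩
  · rcases M.cls (w := w.1) ⟨fun e => h1.1 (Subtype.ext e), congrArg Subtype.val h1.2⟩ with k | k
    · exact absurd (ZI.conj (zi_iff.2 ⟨⟨fun e => τ_ne A.toCS (congrArg Subtype.val e), Subtype.ext (x4_inv 1)⟩,
        _, h.sylU M, le4 1⟩) (h.conj rfl (H14.Oc.x4_comm _ _) k)) h2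
    · exact h.conj rfl (x5_comm ⟨rfl, rfl⟩ 1) k
  · rintro ⟨_, hc⟩ ⟨c, hc5, rfl⟩ h3 h4
    have h5 := h.cenA (X := sT5 T) ⟨rfl, rfl⟩ ⟨rfl, rfl⟩ rfl h3
    refine ⟨fun g hg _ e hs => ?_, fun hs => ?_⟩
    · have h6 := eq_x4 h5 (M.no_a4 (g := g.1) (mem_cen1.2 (congrArg Subtype.val (mem_cen1.1 hg))) h5.1
        (congrArg Subtype.val e))
      obtain ⟨d, hd, hN⟩ := h.my8
      obtain ⟨d', hd', e⟩ := (hs.eq_of_le (h.sylU M).isPGroup (fun x ⟨c, _, e⟩ => ⟨c, e⟩)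
        (by generalize c.a4 = b at h6; subst h6; exact le4 b)).le (show ⟨_, hN⟩ ∈ _ from ⟨d, rfl⟩)
      obtain rfl := A.inj e
      exact one_ne_zero (hd.symm.trans hd'.2)
    · have h6 : c.a5 = 0 := by_contra fun e => hs (by
        obtain ⟨s, p, e1⟩ := M.loc.ty.clsA c h5.1 fun k => e k.2.2.2.2.2.1
        obtain ⟨k, e2⟩ := isConj_iff.1 (h.conj (a := ⟨_, h.mx5⟩) (w := ⟨_, hc⟩) rfl (x5_comm ⟨rfl, rfl⟩ 1)
          (isConj_iff.2 ⟨_, e1⟩).symm)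
        have h7 := (mp_syl (MulAut.conj k)).2 (h.sylQ M)
        rw [← mp_cen1, MulAut.conj_apply, e2] at h7
        exact h7.of_card_ge (h.sylQ M).isPGroup (fun x hx => mem_cen1.2 (mem_cen.1 h3 x hx)) (mp_card _ _).le)
      have h7 := eq_x4 h5 h6
      generalize c.a4 = b at h7
      subst h7
      obtain ⟨X, a1, a2, a3, a4⟩ := hX
      exact ⟨X, a4 b, a1, a2, _, a3, Subtype.ext A.rank1, Subtype.ext (a4_x4 b)⟩

omit h in
theorem ks_top {a : Kˣ} (ha : a ≠ 1) (hi : ∀ b : MulAut G, Tw b → b ∈ H36.QF.Inn G) : KS G := by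
  have h : Nm A ⊤ := ⟨inferInstance, fun _ => .inl trivial, fun _ _ => trivial⟩
  have hi' : ∀ b : MulAut (⊤ : Subgroup G), Tw b → b ∈ H36.QF.Inn (⊤ : Subgroup G) := by
    tr_simp (topEquiv (G := G)).symm; exact hi
  refine KS.congr topEquiv ⟨fun b _ => hi' b, fun b hb => absurd (hi' b (CO.tw_of_sq hb.1)) hb.2,
    h.ni M ⟨(YY A).map topEquiv.symm.toMonoidHom, ?_, (mp_gd _).2 ⟨3, Nat.prime_three, by decide,
      (mp_rank topEquiv).not.2 (h.rank M.br), Y_gen ha, .inl (Y_perf ha)⟩, ⟨_, mul_mem n1_Y (x1_Y 1), rfl⟩,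
      fun b => ⟨_, x4_Y b, rfl⟩⟩, .inl (uf2_of (h.sylU M) h.ncomm (fun x a1 y b1 a2 b2 a3 b3 => ?_)
        ⟨fun b hb _ => hi' b hb, fun x a1 a2 => ?_⟩ fun P hP _ k => (k fun b hb => hi' b (CO.tw_of_mem hP hb)).elim)⟩
  · rintro _ ⟨y, hy, rfl⟩
    exact mem_cen1.2 (Subtype.ext (mem_cen1.1 (Y_le hy)))
  · obtain ⟨s, hs⟩ := h.cenU a1 a2
    obtain ⟨t, ht⟩ := h.cenU b1 b2
    refine h.conj hs (H14.Oc.x4_comm _ _) ?_
    rw [hs, ht]
    exact (cjZ fun e => a3.1 (Subtype.ext (by rw [hs, e]; exact map_one A.ι))).symm.trans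
      (cjZ fun e => b3.1 (Subtype.ext (by rw [ht, e]; exact map_one A.ι)))
  · obtain ⟨s, hs⟩ := h.cenU a1 a2
    exact Subtype.ext (by rw [coe_mul, hs]; exact x4_inv s)

theorem ks_two (h2 : ∀ a : K, a = 0 ∨ a = 1) (hz : center N = ⊥) (hi : Ix N)
    (ho : ∀ a : MulAut N, a * a = 1 → a ∈ H36.QF.Inn N) : KS N := by
  refine ⟨outD_of_ix hi, fun b hb => absurd (ho b hb.1) hb.2, h.ni M ⟨X3 _, (closure_le _).2 fun _ hx => hx.1,
    ⟨3, Nat.prime_three, by decide, h.rank M.br, closure_mono fun x hx => ⟨Subgroup.subset_closure hx, hx.2⟩,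
      .inr fun φ hφ => .inl ?_⟩, ?_, fun b => ?_⟩,
    .inl (uf1_of (h.sylU M) h.ncomm (fun x a1 y b1 a2 b2 a3 b3 => ?_) (ab_of_ix hz hi (h.sylU M)))⟩
  · rcases hi φ φ with k | k | k
    exacts [k, k, by rwa [eq_inv_of_mul_eq_one_left (show φ * φ * φ = 1 by rw [← hφ]; simp [pow_succ]),
      inv_mem_iff] at k]
  · exact Subgroup.subset_closure ⟨mem_cen1.2 (Subtype.ext (mem_cen1.1 (Y_le (mul_mem n1_Y (x1_Y 1))))),
      Subtype.ext A.rank1⟩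
  · refine mem_of_a4 (h := ⟨_, h.three A.rank1⟩) (Subtype.ext (x4_inv b)) (Subgroup.subset_closure
      ⟨mem_cen1.2 (Subtype.ext (mem_cen1.1 (Y_le (mul_mem n1_Y (x1_Y 1))))), Subtype.ext A.rank1⟩)
      (Subgroup.subset_closure ⟨mem_cen1.2 (Subtype.ext (mem_cen1.1 (Y_le (mul_mem (mul_mem (x4_Y b)
        (mul_mem n1_Y (x1_Y 1))) (inv_mem (x4_Y b)))))), ?_⟩) (Subtype.ext (a4_x4 b))
    rw [conj_pow, show (⟨_, h.three A.rank1⟩ : N) ^ 3 = 1 from Subtype.ext A.rank1]; simp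
  · obtain ⟨s, hs⟩ := h.cenU a1 a2
    obtain ⟨t, ht⟩ := h.cenU b1 b2
    obtain rfl := (h2 s).resolve_left fun e => a3.1 (Subtype.ext (by rw [hs, e]; exact map_one A.ι))
    obtain rfl := (h2 t).resolve_left fun e => b3.1 (Subtype.ext (by rw [ht, e]; exact map_one A.ι))
    exact Subtype.ext (hs.trans ht.symm)

omit h in
theorem nm_of [hN : N.Normal] (h2 : ∀ a : K, a = 0 ∨ a = 1) (hi : N.index = 2)
    (hv : ∀ g, g * g = 1 → g ∈ N) : Nm A N := by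
  have hy : A.ι (y4 T 1) ∉ N := fun hy => by
    have k : ∀ {a b : G}, IsConj a b → a ∈ N → b ∈ N := fun e h => by
      obtain ⟨g, rfl⟩ := isConj_iff.1 e
      exact hN.conj_mem _ h g
    have e6 : (y4 T 1).nu1 = y6 T 1 := by ext <;> simp [Co.nu1, y4, y6]
    have e2 : (y6 T 1).nu8 = y2 T 1 := by ext <;> simp [Co.nu8, y2, y6]
    have e8 : (y2 T 1).nu1 = y8 T 1 := by ext <;> simp [Co.nu1, y2, y8]
    have h6 := e6 ▸ k (cj1 rfl) hy
    have h3 := e2 ▸ k (cj8 ⟨rfl, rfl⟩) h6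
    have h8 := e8 ▸ k (cj1 rfl) h3
    have kx : ∀ c : Co T, c * c = 1 → A.ι c ∈ N := fun c e => hv _ (by rw [← map_mul, e, map_one])
    have ky : ∀ y : K → Co T, y 0 = 1 → A.ι (y 1) ∈ N → ∀ t, A.ι (y t) ∈ N := fun y h0 h1 t => by
      rcases h2 t with rfl | rfl
      exacts [by rw [h0, map_one]; exact one_mem _, h1]
    have : A.G0 ≤ N := (closure_le _).2 <| by
      rintro _ ((⟨c, rfl⟩ | ⟨p, rfl⟩) | rfl | rfl)
      · rw [nf c]
        simp only [map_mul, SetLike.mem_coe]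
        refine mul_mem (mul_mem (mul_mem (mul_mem (mul_mem (mul_mem (mul_mem (mul_mem (mul_mem (mul_mem
          (mul_mem (kx _ ?_) (ky (y2 T) rfl h3 _)) (kx _ ?_)) (kx _ ?_)) (ky (y4 T) rfl hy _)) (kx _ ?_)) (kx _ ?_))
          (ky (y6 T) rfl h6 _)) (kx _ ?_)) (kx _ ?_)) (ky (y8 T) rfl h8 _)) (kx _ ?_)
        all_goals ext <;> simp [x1, x2, x3, x4, x5, x6, x7, x8, CharTwo.add_self_eq_zero]
      · obtain rfl : p = 1 := Prod.ext (Units.ext ((h2 _).resolve_left p.1.ne_zero))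
          (Units.ext ((h2 _).resolve_left p.2.ne_zero))
        rw [map_one]; exact one_mem _
      exacts [hv _ A.n1_sq, hv _ A.n8_sq]
    rw [M.top, top_le_iff] at this
    rw [this, index_top] at hi
    exact absurd hi (by decide)
  exact ⟨hN, fun g => or_iff_not_imp_left.2 fun hg => (mul_mem_iff_of_index_two hi).2 (by simp [hg, hy]), hv⟩

end G

theorem ks_sub {S G : Type*} [Group S] [Group G] {N : Subgroup G} (e : S ≃* N) (h : KS N) : KS S :=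
  h.congr e.symm

theorem ix_of {G : Type u} [Group G] {N : Subgroup G} [N.Normal] (hi : N.index = 2)
    (h : ∀ a : MulAut N, ∃ g : G, a = MulAut.conjNormal g) : Ix N := fun a b => by
  obtain ⟨g, rfl⟩ := h a
  obtain ⟨k, rfl⟩ := h b
  by_cases hg : g ∈ N
  · exact .inl ⟨⟨g, hg⟩, MulEquiv.ext fun _ => rfl⟩
  by_cases hk : k ∈ N
  · exact .inr (.inl ⟨⟨k, hk⟩, MulEquiv.ext fun _ => rfl⟩)
  · exact .inr (.inr ⟨⟨g * k, (mul_mem_iff_of_index_two hi).2 (by simp [hg, hk])⟩,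
      by rw [← map_mul]; exact MulEquiv.ext fun _ => rfl⟩)

theorem jobFF4 : JobFF4.{u} := fun S _ _ _ hc h => by
  rcases h with ⟨K, _, _, m, hm, hK, ⟨e⟩⟩ | ⟨⟨e⟩⟩
  · have : _root_.CharP K 2 := charP_of_card_eq_prime_pow hK
    obtain ⟨T, A, h1, h2, h3⟩ := H54.Par.jobModel K m hK
    have hf : Finite (Lie.twistedF4 K (2 ^ m)) := inferInstance
    obtain ⟨a, ha⟩ : ∃ a : Kˣ, a ≠ 1 := by
      have : Nontrivial Kˣ := Finite.one_lt_card_iff_nontrivial.1 (by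
        rw [Nat.card_units, Nat.card_eq_fintype_card, hK]
        have : 2 ^ 3 ≤ 2 ^ (2 * m + 1) := Nat.pow_le_pow_right (by decide) (by omega)
        omega)
      exact exists_ne 1
    refine KS.congr e.symm (ks_top ⟨h1, h2, h3⟩ ha fun b ⟨n, hn⟩ => ?_)
    refine (QuotientGroup.eq_one_iff (N := Cfsg.Inn _) b).1 (CO.Tw.eq_one_of_odd
      ⟨n, by rw [← QuotientGroup.mk_pow, hn]; rfl⟩ (Odd.of_dvd_nat ?_ (orderOf_dvd_natCard _)))
    exact Cfsg.Agent.S2128.result hm hK ▸ odd_two_mul_add_one m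
  · obtain ⟨T, A, M⟩ : ∃ (T : TF (ZMod 2)) (A : AD T (Lie.twistedF4 (ZMod 2) 1)), Md A :=
      have ⟨T, A, h1, h2, h3⟩ := H54.Par.jobModel (ZMod 2) 0 (ZMod.card 2)
      ⟨T, A, h1, h2, h3⟩
    have hf : Finite (Lie.twistedF4 (ZMod 2) 1) := inferInstance
    have h4 : ∀ a : ZMod 2, a = 0 ∨ a = 1 := by decide
    have hc' : ¬ IsMulCommutative Lie.TitsGroup := fun h =>
      hc ⟨⟨fun a b => e.injective (by rw [map_mul, map_mul, h.1.1])⟩⟩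
    have := H68.simple_Tits
    refine ks_sub e (ks_two (N := commutator (Lie.twistedF4 (ZMod 2) 1)) M
      (nm_of M h4 H68.index_Tits fun g hg => ?_) h4
      ((IsSimpleGroup.eq_bot_or_eq_top_of_normal _ inferInstance).resolve_right
        fun e => hc' ⟨⟨fun a b => (mem_center_iff.1 (e ▸ mem_top b : b ∈ center _) a)⟩⟩)
      (ix_of H68.index_Tits QEF4.aut_Tits)
      fun a => QEF4.inner_Tits hc')
    by_cases h : g = 1
    · rw [h]; exact one_mem _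
    · exact Cfsg.Agent.S2185.result g (orderOf_eq_prime ((pow_two g).trans hg) h)

end H48.FF4
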