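/- Simple groups of order `244823040`: the Sylow `23`-normalizer. -/
import Cfsg.Agent.H45.MSpec4
import Cfsg.Agent.H1.InvSylow
import Cfsg.Agent.H83.OrdA

set_option autoImplicit false
set_option linter.unusedSectionVars false
set_option maxRecDepth 100000

namespace H48.M24
open Cfsg H28 H29 H39 H87 Subgroup H45.MO H45.MN

universe u

/-- the admissible degrees -/
def fl (v d : ℕ) : Bool := big 23 v d && (v % 2 == 1 || d % 11 != 0 || Nat.ble 506 d)

theorem dP0 : ((cas 244823040 23).all fun x =>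
    if x.2.1 = 2 then degs 244823040 23 x.1 x.2.1 (big 23 x.2.2) fun _ => false
    else (x.2.1 == 11 && x.2.2 == 1) || (x.2.1 % 11 == 0 && x.2.2 % 11 != 0 &&
      x.2.2 % 1024 != 0 && (dvs (x.1 * x.2.1)).all fun d => d % 2 == 0 || d == 1 ||
        !fl x.2.2 d || !List.contains [1, 22, x.2.1, 23 - x.2.1] (d % 23))) = true := by
  decide +kernel

theorem le_of_hasC {N c d : ℕ} (h : hasC N [11] 23 c d = true) (h1 : 23 ∣ c) (h2 : 11 ∣ c)
    (h3 : d % 11 = 0) : 506 ≤ d := by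
  simp only [hasC, fZ_eq, ok, Bool.or_eq_true, bne_iff_ne, List.any_eq_true, List.mem_range,
    Bool.and_eq_true, List.all_cons, List.all_nil, beq_iff_eq] at h
  obtain ⟨k, hk, -, -, h4, -⟩ := h.resolve_left (by omega)
  omega

variable {G : Type u} [Group G] [Fintype G]

theorem nor_le {p : ℕ} [Fact p.Prime] {P : Sylow p G} {V : Subgroup G} (hC : Cpl P V) :
    Nor (P : Subgroup G) ≤ Nor V := fun g hg => mem_normalizer_fintype fun v hv => by
  have h1 : g * v * g⁻¹ ∈ Cen (P : Subgroup G) :=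
    (normal_subgroupOf_centralizer_normalizer ((P : Subgroup G) : Set G)).conj_mem
      ⟨v, centralizer_le_normalizer _ (hC.le hv)⟩ (hC.le hv) ⟨g, hg⟩
  obtain ⟨y, hy, w, hw, h2⟩ := hC.ex _ h1
  by_cases h3 : y = 1
  · rwa [h2, h3, one_mul]
  · exact absurd (H46.orderOf_conj g v ▸ h2 ▸ hC.dvd_order hy h3 hw) (hC.reg v hv)

theorem exists_inv {p n e v : ℕ} {L E : List (IrrCharacter G)} {s : IrrCharacter G → ℤ}
    (A : Bk p n e v L E s) (h1 : 11 ∣ e) (h2 : ¬ 11 ∣ v) (h3 : 2 ∣ v) (h4 : ¬ 1024 ∣ v) :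
    ∃ a : G, orderOf a = 2 ∧ p ∣ cc a ∧ 11 ∣ cc a := by
  obtain ⟨_, P, V, -, -, -, -, -, hC, -, rfl, rfl, -⟩ := A.br
  have : Fact (Nat.Prime 11) := ⟨by norm_num⟩
  obtain ⟨g, hg, og⟩ := H83.Ord.exists_orderOf_mem (K := Nor (P : Subgroup G)) (p := 11)
    (by norm_num) (h1.trans (index_dvd_card _))
  obtain ⟨T, -, hT, hp, hi, hN⟩ := H1.exists_invariant_pgroup_relIndex (zpowers g) V
    (zpowers_le.2 (nor_le hC hg)) (by
      rw [Nat.card_zpowers, og]; exact (Nat.Prime.coprime_iff_not_dvd (by norm_num)).2 h2)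
    (Or.inl inferInstance) 2 ⊥ bot_le IsPGroup.of_bot
    (le_normalizer_of_normal)
  have h5 := H83.Ord.conj_modEq (p := 11) (og ▸ pow_orderOf_eq_one g) (hN (mem_zpowers g))
  obtain ⟨j, hj⟩ := IsPGroup.iff_card.1 hp
  obtain ⟨i, hi', h6⟩ := (Nat.dvd_prime_pow Nat.prime_two).1
    (hj ▸ card_dvd_of_le (inf_le_left : T ⊓ centralizer {g} ≤ T))
  have h7 : T.relIndex V * Nat.card T = Nat.card V := by
    rw [← (T.subgroupOf V).index_mul_card, Nat.card_congr (subgroupOfEquivOfLe hT).toEquiv]; rfl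
  have h8 : j ≠ 0 := fun e => hi (by rwa [← h7, hj, e, pow_zero, mul_one] at h3)
  have h9 : j < 10 := not_le.1 fun e => h4 (((pow_dvd_pow 2 e).trans hj.symm.dvd).trans
    (card_dvd_of_le hT))
  have h10 : i ≠ 0 := fun e => by
    rw [h6, e, hj] at h5
    interval_cases j <;> simp [Nat.ModEq] at h5 h8
  obtain ⟨a, ha, oa⟩ := H83.Ord.exists_orderOf_mem (K := T ⊓ centralizer {g}) Nat.prime_two
    (h6 ▸ dvd_pow_self 2 h10)
  refine ⟨a, oa, hC.card.symm.dvd.trans (card_dvd_of_le fun x hx =>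
    mem_centralizer_singleton.2 (hC.le (hT ha.1) x hx)), ?_⟩
  exact og ▸ orderOf_dvd_natCard _ (mem_centralizer_singleton.2 (mem_centralizer_singleton.1 ha.2).symm)

theorem jobP0 : H45.M24.JobP0.{u} := by
  intro G _ _ _ hG e v ⟨n, L, E, s, A⟩
  have h0 := List.all_eq_true.1 dP0 _ (hG ▸ A.mem)
  split_ifs at h0 with h1
  · simpa using degs_spec (by norm_num) A.ne0 (hG ▸ A.deg _ fun _ => A.big') h0
  simp only [Bool.or_eq_true, Bool.and_eq_true, beq_iff_eq, bne_iff_ne, List.all_eq_true,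
    Bool.not_eq_true'] at h0
  refine h0.resolve_right fun ⟨⟨⟨h2, h3⟩, h4⟩, h5⟩ => ?_
  have H := A.deg (fl v) fun χ hχ => by
    simp only [fl, A.big' hχ, Bool.true_and, Bool.or_eq_true, beq_iff_eq, bne_iff_ne, Nat.ble_eq,
      or_assoc]
    refine or_iff_not_imp_left.2 fun h6 => or_iff_not_imp_left.2 fun h7 => ?_
    obtain ⟨a, ha, h8, h9⟩ := exists_inv A (by omega) (by omega) (by omega) (by omega)
    exact le_of_hasC (A.hasC (by norm_num) (H83.mul_self_of_orderOf_two ha)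
      (A.col [11] (by rw [hG]; simp; norm_num) a ha) hχ) h8 h9 (not_not.1 h7)
  have he := A.lt
  have key : ∀ z : ℤ, z.natAbs ∣ n * e → ((23 : ℤ) ∣ z - 1 ∨ (23 : ℤ) ∣ z - e) → z.natAbs ≠ 1 →
      fl v z.natAbs = true → (2 : ℤ) ∣ z := fun z k1 k2 k3 k4 => by
    have := h5 _ (mem_dvs A.ne0 k1)
    simp only [k4, k3, or_false, Bool.true_eq_false, List.contains_cons, List.contains_nil,
      Bool.or_eq_false_iff, beq_eq_false_iff_ne] at this
    omega
  have k1 := key _ H.dv (Or.inr H.md) H.ne H.fl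
  have k2 : (2 : ℤ) ∣ (cl s L 1).sum := List.dvd_sum fun d hd =>
    key d (H.mem d hd).1 (Or.inl (H.mem d hd).2.1) (H.mem d hd).2.2.1.ne' (H.mem d hd).2.2.2
  omega

end H48.M24
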