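import Cfsg.Agent.H15.BGSpec2
import Cfsg.Agent.H52.BgTR
import Cfsg.Agent.H27.BGS1

/-! BGS part 2, job EP: translations of `E` along `Z`. -/

set_option autoImplicit false
set_option linter.unusedSectionVars false

namespace H48.BgEP

open Cfsg Subgroup H98 H1.Gold H85.TW H15.BG
open H31.S2 (mem_cen_iff)

universe u

variable {G : Type u} [Group G] [Finite G] {k K : Type} [Field k] [Field K] [Algebra k K]
  [Finite k] [Finite K] [CharP k 2] [CharP K 2] {d : Dat G k K} {E V : Subgroup G} {φ : G → k}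
  {c e g n u x y z : G} {s s' l : K} {a v v' : k}

/-- `x` acts on `U / Z` as the scalar `s`. -/
def Sc (d : Dat G k K) (x : G) (s : K) : Prop := ∀ u ∈ d.U, d.π (x * u * x⁻¹) = s * d.π u

theorem Sc.conj {σ : K ≃+* K} (hx : Sc d x s) (xn : x ∈ nor d.U) (hn : n ∈ nor d.U) (act : d.Act n l σ) :
    Sc d (n * x * n⁻¹) (σ s) := fun u hu => by
  have m := conj_mem_nor' hn hu
  have e1 := act _ m
  rw [show n * (n⁻¹ * u * n) * n⁻¹ = u by group] at e1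
  rw [show n * x * n⁻¹ * u * (n * x * n⁻¹)⁻¹ = n * (x * (n⁻¹ * u * n) * x⁻¹) * n⁻¹ by group,
    act _ (conj_mem_nor xn m), hx _ m, map_mul, e1, mul_left_comm]

theorem Sc.div (hx : Sc d x s) (hy : Sc d y s) (s0 : s ≠ 0) (xn : x ∈ nor d.U) (yn : y ∈ nor d.U) :
    d.Tr0 (x⁻¹ * y) := fun u hu => mul_left_cancel₀ s0 (by
  rw [← hy u hu, ← hx _ (conj_mem_nor (mul_mem (inv_mem xn) yn) hu)]
  congr 1; group)

theorem ex_sq (a : k) : ∃ b : k, b ^ 2 = a :=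
  have : Fact (Nat.Prime 2) := ⟨Nat.prime_two⟩
  surjective_frobenius k 2 a

theorem ex_ne (q : QE k K) : ∃ a : k, a ≠ 0 ∧ 1 + a ^ 2 ≠ 0 := by
  by_contra! H'
  have H : ∀ a : k, a ≠ 0 → a = 1 := fun a e =>
    CharTwo.sq_inj.1 ((CharTwo.add_eq_zero.1 (H' a e)).symm.trans (one_pow 2).symm)
  have := Nat.card_le_card_of_injective (fun y : k => by classical exact decide (y = 0))
    fun a b e => by
      rw [decide_eq_decide] at e
      by_cases ha : a = 0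
      · exact ha.trans (e.1 ha).symm
      · exact (H _ ha).trans (H _ (mt e.2 ha)).symm
  have := q.four
  simp only [Nat.card_eq_fintype_card (α := Bool), Fintype.card_bool] at *
  omega

section
variable (h : LocE d E)
include h

theorem cE' (hc : c ∈ cen1 d.t) (he : e ∈ E) : c * e = e * c := by
  by_cases e1 : e = 1
  · simp [e1]
  · exact mem_cen1.1 ((h.cE e he e1).ge hc)

theorem cjE (hc : c ∈ cen1 d.t) (he : e ∈ E) : c * e * c⁻¹ = e := by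
  rw [cE' h hc he, mul_inv_cancel_right]

theorem EC : E ≤ cen1 d.t := fun _ he => mem_cen1.2 (comm_of_sq h.elE he h.tE)

theorem EU : E ≤ cen d.U := fun _ he => mem_cen_iff.2 fun _ hu => (cE' h (h.tU hu) he).symm

theorem mem_sE (hV : V ≤ d.U) : x ∈ V ⊔ E ↔ ∃ u ∈ V, ∃ e ∈ E, u * e = x := by
  rw [← SetLike.mem_coe, coe_mul_of_right_le_normalizer_left V E
    ((EU h).trans ((centralizer_le hV).trans (centralizer_le_normalizer _)))]
  rfl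

theorem ιU (a : k) : d.ι a ∈ d.U := h.ZU (h.toUD.ι_mem a)

theorem cι (hx : x ∈ cen d.U) (a : k) : x * d.ι a = d.ι a * x := mem_cen_iff.1 hx _ (ιU h a)

theorem ιι (a : k) : d.ι a * d.ι a = 1 := h.toUD.Z_sq (h.toUD.ι_mem a)

theorem mem_F : x ∈ d.Z ⊔ E ↔ ∃ e ∈ E, ∃ a, x = e * d.ι a := by
  rw [mem_sE h h.ZU]
  constructor
  · rintro ⟨z, hz, e, he, rfl⟩
    obtain ⟨a, rfl⟩ := (h.memZ z).1 hz
    exact ⟨e, he, a, (cι h (EU h he) a).symm⟩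
  · rintro ⟨e, he, a, rfl⟩
    exact ⟨_, h.toUD.ι_mem a, e, he, (cι h (EU h he) a).symm⟩

theorem exH (a0 : a ≠ 0) : ∃ x ∈ d.H, Sc d x (algebraMap k K a) ∧ ∀ b, x * d.ι b * x⁻¹ = d.ι (a ^ 2 * b) := by
  obtain ⟨x, hx, e⟩ := h.Hlam _ ((map_ne_zero (algebraMap k K)).2 a0)
  rw [d.lam_alg a0] at e
  exact ⟨x, hx, e, fun b => h.actZ x (h.Hle hx).2 _ (RingEquiv.refl K) e b _ (by simp [sq])⟩

theorem exH' (a0 : v ≠ 0) : ∃ x ∈ d.H, ∃ a : k, a ≠ 0 ∧ Sc d x (algebraMap k K a) ∧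
    ∀ b, x * d.ι b * x⁻¹ = d.ι (v * b) := by
  obtain ⟨a, rfl⟩ := ex_sq v
  have := ne_zero_pow two_ne_zero a0
  obtain ⟨x, hx, e⟩ := exH h this
  exact ⟨x, hx, a, this, e⟩

/-- an element which translates `E` along `Z` -/
theorem exY (hg : g ∈ nor (d.U ⊔ E)) (ng : g ∉ nor E) : ∃ y ∈ nor d.U, d.Tr0 y ∧ y ∉ cen1 d.t ∧
    ∀ e ∈ E, e⁻¹ * (y * e * y⁻¹) ∈ d.Z := by
  have gU := h.nS0 hg
  have k1 : ∀ e ∈ E, ∃ e' ∈ E, ∃ a, g⁻¹ * e * g = e' * d.ι a := fun e he => by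
    obtain ⟨u, hu, e', he', q⟩ := (mem_sE h le_rfl).1 (conj_mem_nor' hg (mem_sup_right he))
    refine (mem_F h).1 (q ▸ mul_mem_sup (h.toUD.mem_Z_of_sq hu ?_) he')
    have : u * e' * (u * e') = 1 := by
      rw [q, show g⁻¹ * e * g * (g⁻¹ * e * g) = g⁻¹ * (e * e) * g by group, h.elE e he]; group
    rwa [mul_assoc, ← mul_assoc e', mem_cen_iff.1 (EU h he') u hu, mul_assoc, h.elE e' he', mul_one] at this
  obtain ⟨a, a0, a1⟩ := ex_ne d.toQE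
  obtain ⟨x, hx, x1, x2⟩ := exH h a0
  obtain ⟨ρ, hρ⟩ := h.rho
  obtain ⟨l, -, act⟩ := hρ ⟨g, gU⟩
  obtain ⟨τ, hτ⟩ := h.res (ρ ⟨g, gU⟩)
  have τ0 := (map_ne_zero τ).2 a0
  obtain ⟨x', hx', x1', -⟩ := exH h τ0
  have n1 := mul_mem (mul_mem gU (h.Hle hx).2) (inv_mem gU)
  have k2 : ∀ e ∈ E, ∀ e' ∈ E, ∀ b, g⁻¹ * e * g = e' * d.ι b →
      e⁻¹ * (x'⁻¹ * (g * x * g⁻¹) * e * (x'⁻¹ * (g * x * g⁻¹))⁻¹) =
        x'⁻¹ * g * d.ι ((1 + a ^ 2) * b) * (x'⁻¹ * g)⁻¹ := fun e he e' he' b q => by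
    calc _ = e⁻¹ * x'⁻¹ * g * (x * (g⁻¹ * e * g) * x⁻¹) * g⁻¹ * x' := by group
      _ = e⁻¹ * x'⁻¹ * g * (g⁻¹ * e * g * d.ι ((1 + a ^ 2) * b)) * g⁻¹ * x' := by
        rw [q, H55.GH.cmul, cjE h (h.Hle hx).1 he', x2, mul_assoc e', ← h.ι_add, add_mul, one_mul,
          ← add_assoc, CharTwo.add_self_eq_zero, zero_add]
      _ = e⁻¹ * (x'⁻¹ * e * x'⁻¹⁻¹) * (x'⁻¹ * g * d.ι ((1 + a ^ 2) * b) * (x'⁻¹ * g)⁻¹) := by group
      _ = _ := by rw [cjE h (inv_mem (h.Hle hx').1) he, inv_mul_cancel, one_mul]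
  refine ⟨_, mul_mem (inv_mem (h.Hle hx').2) n1, x1'.div (hτ a ▸ x1.conj (h.Hle hx).2 gU act)
    ((map_ne_zero _).2 τ0) (h.Hle hx').2 n1, fun m => ?_, fun e he => ?_⟩
  · obtain ⟨e', he', b, q⟩ := k1 _ h.tE
    have := k2 _ h.tE e' he' b q
    rw [cjE h m h.tE, inv_mul_cancel, eq_comm, conj_eq_one_iff, h.toUD.ι_eq_one, mul_eq_zero] at this
    rw [this.resolve_left a1, h.toUD.ι_zero, mul_one] at q
    exact ng (inv_mem_iff.1 (h.tiE g⁻¹ _ h.tE h.t1 (by rwa [inv_inv, q])))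
  · obtain ⟨e', he', b, q⟩ := k1 _ he
    rw [k2 e he e' he' b q]
    exact conj_mem_nor (h.toUD.mem_nor_Z (mul_mem (inv_mem (h.Hle hx').2) gU)) (h.toUD.ι_mem _)

end

/-- `x` translates `E` by `v`. -/
def Tl (d : Dat G k K) (E : Subgroup G) (φ : G → k) (x : G) (v : k) : Prop :=
  ∀ e ∈ E, x * e * x⁻¹ = e * d.ι (v * φ e)

theorem Tl.mul (h : LocE d E) (hx : Tl d E φ x v) (hy : Tl d E φ y v') (c : x ∈ cen d.Z) :
    Tl d E φ (x * y) (v + v') := fun e he => by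
  rw [show x * y * e * (x * y)⁻¹ = x * (y * e * y⁻¹) * x⁻¹ by group, hy e he, H55.GH.cmul, hx e he,
    H1.GH.cen_conj c (h.toUD.ι_mem _), mul_assoc, ← h.ι_add, add_mul]

theorem tl_cen (h : LocE d E) (hc : c ∈ cen1 d.t) : Tl d E φ c 0 := fun e he => by
  rw [cjE h hc he, zero_mul, h.toUD.ι_zero, mul_one]

theorem Tl.pow (h : LocE d E) (hx : Tl d E φ x v) (c : x ∈ cen d.Z) (n : ℕ) : Tl d E φ (x ^ n) (n * v) := by
  induction n with
  | zero => simpa using tl_cen h (one_mem _)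
  | succ n ih =>
    rw [pow_succ, Nat.cast_succ, add_mul, one_mul]
    exact ih.mul h hx (pow_mem c n)

theorem Tl.odd (h : LocE d E) (hx : Tl d E φ x v) (c : x ∈ cen d.Z) {n : ℕ} (o : Odd n) :
    Tl d E φ (x ^ n) v := by
  have := hx.pow h c n
  rwa [CharTwo.natCast_eq_ite, if_neg (Nat.not_even_iff_odd.2 o), one_mul] at this

theorem Tl.conj (h : LocE d E) (hx : Tl d E φ x v) (hc : c ∈ cen1 d.t)
    (e : ∀ b, c * d.ι b * c⁻¹ = d.ι (a * b)) : Tl d E φ (c * x * c⁻¹) (a * v) := fun f hf => by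
  rw [show c * x * c⁻¹ * f * (c * x * c⁻¹)⁻¹ = c * (x * (c⁻¹ * f * c⁻¹⁻¹) * x⁻¹) * c⁻¹ by group,
    cjE h (inv_mem hc) hf, hx f hf, H55.GH.cmul, cjE h hc hf, e, mul_assoc a]

/-- The coordinate `φ` on `E`. -/
structure Su (d : Dat G k K) (E : Subgroup G) (φ : G → k) : Prop extends LocE d E where
  ad : Ad E φ
  inj : ∀ e ∈ E, φ e = 0 → e = 1
  tl : ∀ v, ∃ w ∈ cen d.U, Tl d E φ w v

theorem exSu (h : LocE d E) (hg : g ∈ nor (d.U ⊔ E)) (ng : g ∉ nor E) : ∃ φ, Su d E φ := by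
  obtain ⟨y, yU, y0, y1, y2⟩ := exY h hg ng
  have yZ := h.trZ y yU y0
  choose! φ hφ using fun e he => (h.memZ _).1 (y2 e he)
  have t1 : Tl d E φ y 1 := fun e he => by rw [one_mul, hφ e he, mul_inv_cancel_left]
  obtain ⟨m, m0, m1, mN⟩ := h.eta
  obtain ⟨η, hη, act⟩ := h.Hlam m m0
  have ηZ : η ∈ cen d.Z := mem_cen_iff.2 fun z hz => by
    obtain ⟨a, rfl⟩ := (h.memZ z).1 hz
    exact mul_inv_eq_iff_eq_mul.1 (h.actZ η (h.Hle hη).2 _ (RingEquiv.refl K) act a a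
      (by rw [← d.N_eq, mN]; simp))
  have xU := mul_mem yU (h.Hle hη).2
  have act' : ∀ u ∈ d.U, d.π (y * η * u * (y * η)⁻¹) = d.lam m * d.π u := fun u hu => by
    rw [← act u hu, ← y0 _ (conj_mem_nor (h.Hle hη).2 hu)]
    congr 1; group
  have h2 : d.lam m ^ orderOf η = 1 := by
    obtain ⟨u, hu, eu⟩ := h.π_surj 1
    have := H52.BgTR.act_pow (h.Hle hη).2 act (orderOf η) u hu
    rw [pow_orderOf_eq_one, one_mul, inv_one, mul_one, eu, mul_one] at this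
    exact this.symm
  have t2 := (add_zero (1 : k) ▸ t1.mul h (tl_cen h (h.Hle hη).1) yZ :).odd h (mul_mem yZ ηZ)
    (H27.BG.oddH h.toHy0 hη)
  have c2 := H52.BgTR.cen_of h.toUD h.toUL1 (pow_mem xU (orderOf η)) (fun u hu => by
    rw [H52.BgTR.act_pow xU act' _ u hu, h2, one_mul]) xU (mul_mem yZ ηZ) act' m1 (Commute.pow_self _ _)
  refine ⟨φ, h, fun e he f hf => h.ι_inj (mul_left_cancel (a := e * f) ?_), fun e he e0 => ?_, fun v => ?_⟩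
  · have := t1 _ (mul_mem he hf)
    rw [H55.GH.cmul, t1 e he, t1 f hf, one_mul, one_mul, one_mul] at this
    rw [← this, h.ι_add, mul_assoc e, ← mul_assoc _ f, ← cι h (EU h hf)]
    group
  · refine by_contra fun e1 => y1 ((h.cE e he e1).le (mem_cen1.2 (mul_inv_eq_iff_eq_mul.1 ?_)))
    rw [t1 e he, e0, mul_zero, h.toUD.ι_zero, mul_one]
  · by_cases v0 : v = 0
    · exact ⟨1, one_mem _, v0 ▸ tl_cen h (one_mem _)⟩
    obtain ⟨x, hx, -, -, -, e⟩ := exH' h v0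
    exact ⟨_, conj_mem_nor (normalizer_le_normalizer_centralizer _ (h.Hle hx).2) c2,
      mul_one v ▸ t2.conj h (h.Hle hx).1 e⟩

end H48.BgEP
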