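import Cfsg.Agent.H48.BgEP1

/-! BGS part 2, job EP: the groups `P = W E` and `W`. -/

set_option autoImplicit false
set_option linter.unusedSectionVars false

namespace H48.BgEP

open Cfsg Subgroup H98 H1.Gold H85.TW H15.BG
open H31.S2 (mem_cen_iff)
open H1.GH (cen_conj cen_conj')
open H55.GH (cmul)

universe u

variable {G : Type u} [Group G] [Finite G] {k K : Type} [Field k] [Field K] [Algebra k K]
  [Finite k] [Finite K] [CharP k 2] [CharP K 2] {d : Dat G k K} {E V : Subgroup G} {φ : G → k}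
  {c e g n o u w w' x y z : G} {s s' l : K} {a b v v' : k}

theorem cZ (h : LocE d E) (hx : x ∈ cen d.U) : x ∈ cen d.Z := centralizer_le h.ZU hx

theorem Tl.zero (h : LocE d E) (hx : Tl d E φ x 0) : x ∈ cen1 d.t := mem_cen1.2 (by
  have := hx _ h.tE
  rwa [zero_mul, h.toUD.ι_zero, mul_one, mul_inv_eq_iff_eq_mul] at this)

theorem Tl.cj (h : LocE d E) (hx : Tl d E φ x v) (c : x ∈ cen d.U) (he : e ∈ E) :
    e * x * e⁻¹ = x * d.ι (v * φ e) := by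
  have := hx e he
  rw [mul_inv_eq_iff_eq_mul, mul_assoc, ← cι h c, ← mul_assoc] at this
  rw [mul_inv_eq_iff_eq_mul, mul_assoc x, ← cι h (EU h he), ← mul_assoc, this, mul_assoc _ _ (d.ι _), ιι h, mul_one]

theorem Tl.inv (h : LocE d E) (hx : Tl d E φ x v) (c : x ∈ cen d.U) : Tl d E φ x⁻¹ v := fun e he => by
  rw [show x⁻¹ * e * x⁻¹⁻¹ = x⁻¹ * (e * x * e⁻¹) * e by group, hx.cj h c he, inv_mul_cancel_left,
    cι h (EU h he)]

theorem CE (h : LocE d E) (hc : c ∈ cen1 d.t) : c ∈ nor E :=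
  H1.GH.mem_nor fun _ he => (cjE h hc he).symm ▸ he

theorem norC (h : LocE d E) (hn : n ∈ nor E) (hc : c ∈ cen1 d.t) : n * c * n⁻¹ ∈ cen1 d.t :=
  mem_cen1.2 (mul_inv_eq_iff_eq_mul.1 (by
    rw [show n * c * n⁻¹ * d.t * (n * c * n⁻¹)⁻¹ = n * (c * (n⁻¹ * d.t * n) * c⁻¹) * n⁻¹ by group,
      cjE h hc (conj_mem_nor' hn h.tE)]
    group))

/-- The elements of odd order of `C(U) ⊓ C(t)`. -/
def Os (d : Dat G k K) : Set G := {o | o ∈ cen d.U ∧ o ∈ cen1 d.t ∧ Odd (orderOf o)}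

theorem core' (h : LocE d E) (h1 : c ∈ cen d.U) (h2 : c ∈ cen1 d.t) :
    ∃ e ∈ E, ∃ a, ∃ o ∈ Os d, c = e * d.ι a * o := by
  obtain ⟨O, o1, o2, -, o3⟩ := h.core
  obtain ⟨f, hf, o, ho, rfl⟩ := o3 c h1 h2
  obtain ⟨e, he, a, rfl⟩ := (mem_F h).1 hf
  exact ⟨e, he, a, o, ⟨(o1 ho).1, (o1 ho).2, o2.of_dvd_nat (orderOf_dvd_natCard _ ho)⟩, rfl⟩

theorem os_conj (hn : n ∈ nor d.U) (ho : o ∈ Os d) (e : n * o * n⁻¹ ∈ cen1 d.t) : n * o * n⁻¹ ∈ Os d :=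
  ⟨conj_mem_nor (normalizer_le_normalizer_centralizer _ hn) ho.1, e, by
    rw [← MulAut.conj_apply, MulEquiv.orderOf_eq]; exact ho.2.2⟩

theorem F_comm (h : LocE d E) (hx : x ∈ d.Z ⊔ E) (hy : y ∈ d.Z ⊔ E) : x * y = y * x := by
  obtain ⟨e, he, a, rfl⟩ := (mem_F h).1 hx
  obtain ⟨f, hf, b, rfl⟩ := (mem_F h).1 hy
  rw [mul_assoc, ← mul_assoc _ f, ← cι h (EU h hf), mul_assoc f, ← mul_assoc e, cE' h (EC h he) hf,
    ← h.ι_add, add_comm, h.ι_add, mul_assoc f, mul_assoc f, ← mul_assoc e, cι h (EU h he), mul_assoc]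

variable (h : Su d E φ)
include h

local notation "hL" => Su.toLocE h

theorem Tl.uniq (h1 : Tl d E φ x v) (h2 : Tl d E φ x v') : v = v' :=
  mul_right_cancel₀ (mt (h.inj _ h.tE) h.t1) (h.ι_inj (mul_left_cancel ((h1 _ h.tE).symm.trans (h2 _ h.tE))))

theorem lines' (he : e ∈ E) (e1 : e ≠ 1) (m : g * e * g⁻¹ ∈ d.Z ⊔ E) :
    ∃ v, ∀ w, Tl d E φ w v → w⁻¹ * g ∈ nor E := by
  obtain ⟨f, hf, a, q⟩ := (mem_F hL).1 m
  have f1 : φ f ≠ 0 := fun e0 => h.notD _ (h.toUD.ι_mem a) e he e1 (by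
    rw [h.inj f hf e0, one_mul] at q
    exact q ▸ isConj_conj g e)
  refine ⟨a / φ f, fun w hw => h.tiE _ e he e1 ?_⟩
  rwa [show w⁻¹ * g * e * (w⁻¹ * g)⁻¹ = w⁻¹ * (g * e * g⁻¹) * w by group, q, ← div_mul_cancel₀ a f1,
    ← hw f hf, show w⁻¹ * (w * f * w⁻¹) * w = f by group]

theorem tl_of (hx : ∀ e ∈ E, e⁻¹ * (x * e * x⁻¹) ∈ d.Z) : ∃ v, Tl d E φ x v := by
  obtain ⟨v, hv⟩ := lines' h (g := x) h.tE h.t1 (by
    simpa using mul_mem (mem_sup_right h.tE : _ ∈ d.Z ⊔ E) (mem_sup_left (hx _ h.tE)))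
  obtain ⟨w, -, hw⟩ := h.tl v
  refine ⟨v, fun e he => ?_⟩
  have m := conj_mem_nor (hv w hw) he
  have q := hw _ m
  rw [show w * (w⁻¹ * x * e * (w⁻¹ * x)⁻¹) * w⁻¹ = x * e * x⁻¹ by group] at q
  have := hx e he
  rw [q, ← mul_assoc, mul_mem_cancel_right (h.toUD.ι_mem _)] at this
  rw [q, ← inv_mul_eq_one.1 (h.disjE _ (mul_mem (inv_mem he) m) (h.ZU this))]

theorem fixZ (hx : Tl d E φ x v) (v0 : v ≠ 0) (cx : x ∈ cen d.U) (he : e ∈ E)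
    (c : x * (e * d.ι a) * x⁻¹ = e * d.ι a) : e = 1 := by
  rw [cmul, hx e he, cen_conj cx (ιU hL a), mul_left_inj, mul_eq_left, h.toUD.ι_eq_one] at c
  exact h.inj e he ((mul_eq_zero.1 c).resolve_left v0)

/-- The elements of `P`. -/
structure MP (d : Dat G k K) (E : Subgroup G) (φ : G → k) (x : G) : Prop where
  cU : x ∈ cen d.U
  cO : x ∈ centralizer (Os d)
  tl : ∃ v, Tl d E φ x v
  sq : x * x ∈ d.Z

theorem MP.F (hx : MP d E φ x) (t : Tl d E φ x 0) : x ∈ d.Z ⊔ E :=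
  h.cenU x hx.cU (t.zero hL) ⟨2, by
    rw [show x ^ 2 ^ 2 = x * x * (x * x) by simp [pow_succ, mul_assoc], h.toUD.Z_sq hx.sq]⟩

theorem MP.inv (hx : MP d E φ x) : MP d E φ x⁻¹ :=
  ⟨inv_mem hx.cU, inv_mem hx.cO, hx.tl.imp fun _ t => t.inv hL hx.cU, mul_inv_rev x x ▸ inv_mem hx.sq⟩

theorem dec (hx : MP d E φ x) (t : Tl d E φ x v) (he : e ∈ E) (ho : o ∈ Os d)
    (q : x * (e * d.ι a * o) * x⁻¹ * (e * d.ι a * o) = 1) : o = 1 ∧ v * φ e = 0 := by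
  have c1 : Commute o e := cE' hL ho.2.1 he
  have c2 : ∀ a, Commute o (d.ι a) := cι hL ho.1
  have c3 : ∀ a, Commute e (d.ι a) := cι hL (EU hL he)
  have q1 : d.ι (v * φ e) * (o * o) = 1 := by
    rw [cmul, cmul, t e he, cen_conj hx.cU (ιU hL a), ← hx.cO o ho, mul_inv_cancel_right, mul_assoc e,
      ← h.ι_add, ((c1.mul_right (c2 a)).mul_mul_mul_comm _ o), (c3 _).symm.mul_mul_mul_comm, h.elE e he,
      one_mul, ← h.ι_add, add_assoc, CharTwo.add_self_eq_zero, add_zero] at q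
    exact q
  have q2 : o = 1 := H27.BG.eq_one_of_two_odd (two_zpowers (x := o * o) (by
    rw [← inv_eq_of_mul_eq_one_right q1, ← mul_inv_rev, ιι hL, inv_one])) (u := o) (by
      obtain ⟨r, hr⟩ := ho.2.2
      refine ⟨r + 1, ?_⟩
      have := pow_orderOf_eq_one o
      rw [hr, pow_succ] at this
      simp only
      rw [← pow_two, ← zpow_natCast, ← zpow_mul, show ((2 : ℕ) : ℤ) * (r + 1) = (2 * r : ℕ) + 1 + 1 by
        push_cast; ring, zpow_add_one, zpow_add_one, zpow_natCast, this, one_mul])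
    ho.2.2 (pow_orderOf_eq_one o)
  rw [q2, mul_one, mul_one, h.toUD.ι_eq_one] at q1
  exact ⟨q2, q1⟩

theorem MP.com (hx : MP d E φ x) (hy : MP d E φ y) : x * y * x⁻¹ * y⁻¹ ∈ d.Z := by
  obtain ⟨v, t⟩ := hx.tl
  obtain ⟨v', t'⟩ := hy.tl
  have m1 := mul_mem hx.cU hy.cU
  have m2 := mul_mem m1 (inv_mem hx.cU)
  have t0 := ((t.mul hL t' (cZ hL hx.cU)).mul hL (t.inv hL hx.cU) (cZ hL m1)).mul hL (t'.inv hL hy.cU)
    (cZ hL m2)
  rw [add_assoc, CharTwo.add_self_eq_zero] at t0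
  obtain ⟨e, he, a, o, ho, q⟩ := core' hL (mul_mem m2 (inv_mem hy.cU)) (t0.zero hL)
  obtain ⟨rfl, q1⟩ := dec h hx t he ho (a := a) (by
    rw [← q, show x * (x * y * x⁻¹ * y⁻¹) * x⁻¹ * (x * y * x⁻¹ * y⁻¹) = x * x * y * (x * x)⁻¹ * y⁻¹ by group,
      cen_conj' (cZ hL hy.cU) hx.sq, mul_inv_cancel])
  obtain ⟨-, q2⟩ := dec h hy t' he ho (a := a) (by
    rw [← q, mul_eq_one_comm, show x * y * x⁻¹ * y⁻¹ * (y * (x * y * x⁻¹ * y⁻¹) * y⁻¹) =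
      x * (y * y) * x⁻¹ * (y * y)⁻¹ by group, cen_conj (cZ hL hx.cU) hy.sq, mul_inv_cancel])
  by_cases e0 : φ e = 0
  · rw [q, h.inj e he e0, one_mul, mul_one]; exact h.toUD.ι_mem a
  · obtain rfl := (mul_eq_zero.1 q1).resolve_right e0
    obtain rfl := (mul_eq_zero.1 q2).resolve_right e0
    rw [F_comm hL (hx.F h t) (hy.F h t'), mul_inv_cancel_right, mul_inv_cancel]; exact one_mem _

/-- The group `P`. -/
def PP : Subgroup G where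
  carrier := {x | MP d E φ x}
  one_mem' := ⟨one_mem _, one_mem _, ⟨0, tl_cen hL (one_mem _)⟩, by simp⟩
  inv_mem' := fun hx => hx.inv h
  mul_mem' := fun {x y} hx hy => ⟨mul_mem hx.cU hy.cU, mul_mem hx.cO hy.cO,
    let ⟨_, t⟩ := hx.tl; let ⟨_, t'⟩ := hy.tl; ⟨_, t.mul hL t' (cZ hL hx.cU)⟩, by
      rw [show x * y * (x * y) = x * x * (x⁻¹ * y * x⁻¹⁻¹ * y⁻¹) * (y * y) by group]
      exact mul_mem (mul_mem hx.sq ((hx.inv h).com h hy)) hy.sq⟩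

theorem ιP (a : k) : d.ι a ∈ PP h :=
  ⟨mem_cen_iff.2 fun _ hu => h.toUD.Z_comm (h.toUD.ι_mem a) hu, fun _ ho => cι hL ho.1 a,
    ⟨0, tl_cen hL (h.tU (ιU hL a))⟩, ιι hL a ▸ one_mem _⟩

theorem norP (hn : n ∈ nor E) (nU : n ∈ nor d.U) (hx : x ∈ PP h) : n * x * n⁻¹ ∈ PP h := by
  obtain ⟨v, t⟩ := hx.tl
  refine ⟨conj_mem_nor (normalizer_le_normalizer_centralizer _ nU) hx.cU, fun o ho => ?_,
    tl_of h fun e he => ?_, by rw [conj_mul]; exact conj_mem_nor (h.toUD.mem_nor_Z nU) hx.sq⟩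
  · have := hx.cO _ (os_conj (inv_mem nU) ho (norC hL (inv_mem hn) ho.2.1))
    calc _ = n * (n⁻¹ * o * n⁻¹⁻¹ * x) * n⁻¹ := by group
      _ = _ := by rw [this]; group
  · rw [show e⁻¹ * (n * x * n⁻¹ * e * (n * x * n⁻¹)⁻¹) =
      n * ((n⁻¹ * e * n)⁻¹ * (x * (n⁻¹ * e * n) * x⁻¹)) * n⁻¹ by group, t _ (conj_mem_nor' hn he),
      inv_mul_cancel_left]
    exact conj_mem_nor (h.toUD.mem_nor_Z nU) (h.toUD.ι_mem _)

theorem surjP (v : k) : ∃ x ∈ PP h, Tl d E φ x v := by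
  by_cases v0 : v = 0
  · exact ⟨1, one_mem _, v0 ▸ tl_cen hL (one_mem _)⟩
  obtain ⟨a, a0, a1⟩ := ex_ne d.toQE
  obtain ⟨g, hg, -, e⟩ := exH hL a0
  obtain ⟨y, yU, ty⟩ := h.tl (v / (1 + a ^ 2))
  have m1 := conj_mem_nor (normalizer_le_normalizer_centralizer _ (h.Hle hg).2) yU
  have t := (ty.conj hL (h.Hle hg).1 e).mul hL (ty.inv hL yU) (cZ hL m1)
  rw [← add_one_mul, add_comm, mul_div_cancel₀ _ a1] at t
  have xU := mul_mem m1 (inv_mem yU)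
  have xO : g * y * g⁻¹ * y⁻¹ ∈ centralizer (Os d) := fun o ho => by
    have o1 := os_conj (centralizer_le_normalizer _ (inv_mem yU)) ho (by
      have := ((ty.inv hL yU).mul hL (tl_cen hL ho.2.1) (cZ hL (inv_mem yU))).mul hL
        ((ty.inv hL yU).inv hL (inv_mem yU)) (cZ hL (mul_mem (inv_mem yU) ho.1))
      rw [add_zero, CharTwo.add_self_eq_zero] at this
      exact this.zero hL)
    have := h.cenO g hg _ o1.1 o1.2.1 o1.2.2
    rw [eq_comm, ← mul_inv_eq_iff_eq_mul]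
    calc _ = g * y * (g⁻¹ * ((y⁻¹ * o * y⁻¹⁻¹) * g)) * y⁻¹ * g⁻¹ := by group
      _ = g * o * g⁻¹ := by rw [← this]; group
      _ = _ := by rw [h.cenO g hg o ho.1 ho.2.1 ho.2.2, mul_inv_cancel_right]
  generalize g * y * g⁻¹ * y⁻¹ = x at t xU xO
  obtain ⟨f, hf, b, o, ho, q⟩ := core' hL (mul_mem xU xU)
    ((CharTwo.add_self_eq_zero v ▸ t.mul hL t (cZ hL xU) :).zero hL)
  have t' := t.odd hL (cZ hL xU) ho.2.2
  have q' : x ^ orderOf o * x ^ orderOf o = f * d.ι b := by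
    obtain ⟨r, hr⟩ := ho.2.2
    rw [← (Commute.refl x).mul_pow, q, ((show Commute o f from cE' hL ho.2.1 hf).mul_right
      (cι hL ho.1 b)).symm.mul_pow, pow_orderOf_eq_one, mul_one, hr, pow_succ, pow_mul, pow_two,
      (show Commute f (d.ι b) from cι hL (EU hL hf) b).symm.mul_mul_mul_comm, h.elE f hf, ιι hL]
    simp
  refine ⟨_, ⟨pow_mem xU _, pow_mem xO _, ⟨v, t'⟩, ?_⟩, t'⟩
  rw [q', fixZ h t' v0 (pow_mem xU _) hf (a := b) (by rw [← q']; group), one_mul]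
  exact h.toUD.ι_mem b

theorem trP (hy : y ∈ cen1 d.t) (yU : y ∈ nor d.U) (y0 : d.Tr0 y) :
    ∃ c, ∀ x ∈ PP h, ∀ v, Tl d E φ x v → y * x * y⁻¹ = x * d.ι (v * c) := by
  obtain ⟨u, hu, m⟩ := h.tr0 y hy yU y0
  obtain ⟨e, he, a, o, ho, q⟩ := core' hL m (mul_mem (inv_mem (h.tU hu)) hy)
  refine ⟨φ e, fun x hx v t => ?_⟩
  rw [inv_mul_eq_iff_eq_mul.1 q, show u * (e * d.ι a * o) * x * (u * (e * d.ι a * o))⁻¹ =
    u * (e * (d.ι a * (o * x * o⁻¹) * (d.ι a)⁻¹) * e⁻¹) * u⁻¹ by group, hx.cO o ho, mul_inv_cancel_right,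
    cen_conj' hx.cU (ιU hL a), t.cj hL hx.cU he, cen_conj' (mul_mem hx (ιP h _)).cU hu]

end H48.BgEP
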