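import Cfsg.Agent.H48.BgEP2

/-! BGS part 2, job EP: the group `W`. -/

set_option autoImplicit false
set_option linter.unusedSectionVars false

namespace H48.BgEP

open Cfsg Subgroup H98 H1.Gold H85.TW H15.BG
open H31.S2 (mem_cen_iff)
open H1.GH (cen_conj cen_conj')
open H55.GH (cmul)

universe u

variable {G : Type u} [Group G] [Finite G] {k K : Type} [Field k] [Field K] [Algebra k K]
  [Finite k] [Finite K] [CharP k 2] [CharP K 2] {d : Dat G k K} {E W : Subgroup G} {φ : G → k}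
  {c e g n o u w w' x y z : G} {s s' l : K} {a b v v' : k}

/-- A fixed element of the torus. -/
structure Sw (d : Dat G k K) (E : Subgroup G) (φ : G → k) (g : G) (a : k) : Prop extends Su d E φ where
  hH : g ∈ d.H
  a0 : a ≠ 0
  a1 : 1 + a ^ 2 ≠ 0
  sc : Sc d g (algebraMap k K a)
  sι : ∀ b, g * d.ι b * g⁻¹ = d.ι (a ^ 2 * b)

/-- The group `W`. -/
structure PW (d : Dat G k K) (E : Subgroup G) (φ : G → k) (W : Subgroup G) : Prop extends Su d E φ where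
  cU : W ≤ cen d.U
  ιW : ∀ a, d.ι a ∈ W
  tlW : ∀ w ∈ W, ∃ v, Tl d E φ w v
  surj : ∀ v, ∃ w ∈ W, Tl d E φ w v
  kerW : ∀ w ∈ W, Tl d E φ w 0 → w ∈ d.Z
  norW : ∀ n ∈ nor E, n ∈ nor d.U → n ∈ nor W
  trW : ∀ y ∈ cen1 d.t, y ∈ nor d.U → d.Tr0 y →
    ∃ c, ∀ x ∈ W, ∀ v, Tl d E φ x v → y * x * y⁻¹ = x * d.ι (v * c)
  comW : ∀ x ∈ W, ∀ y ∈ W, x * y * x⁻¹ * y⁻¹ ∈ d.Z
  sqW : ∀ x ∈ W, x * x ∈ d.Z
  WX : W ≤ X2 G

section
variable (h : Sw d E φ g a)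
include h

local notation "hL" => Su.toLocE (Sw.toSu h)
local notation "P" => PP (Sw.toSu h)

theorem δP (hx : x ∈ P) : g * x * g⁻¹ * x⁻¹ ∈ P :=
  mul_mem (norP h.toSu (CE hL (h.Hle h.hH).1) (h.Hle h.hH).2 hx) (inv_mem hx)

/-- `W = [P, g] Z` -/
def WW : Subgroup G where
  carrier := {w | ∃ x ∈ P, ∃ b, w = g * x * g⁻¹ * x⁻¹ * d.ι b}
  one_mem' := ⟨1, one_mem _, 0, by simp [h.toUD.ι_zero]⟩
  mul_mem' := by
    rintro _ _ ⟨x, hx, b, rfl⟩ ⟨y, hy, b', rfl⟩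
    obtain ⟨c, hc⟩ := (h.memZ _).1 (MP.com h.toSu hx (δP h hy))
    refine ⟨_, mul_mem hx hy, c + b + b', ?_⟩
    rw [show g * (x * y) * g⁻¹ * (x * y)⁻¹ = g * x * g⁻¹ * x⁻¹ * (x * (g * y * g⁻¹ * y⁻¹) * x⁻¹ *
      (g * y * g⁻¹ * y⁻¹)⁻¹ * (g * y * g⁻¹ * y⁻¹)) by group, ← hc, ← cι hL (δP h hy).cU, mul_assoc _ (d.ι b),
      ← mul_assoc (d.ι b), ← cι hL (δP h hy).cU, mul_assoc _ _ (d.ι _), mul_assoc _ _ (d.ι _),
      mul_assoc _ (d.ι c), ← h.ι_add, ← h.ι_add, add_assoc c, ← add_assoc c, CharTwo.add_self_eq_zero, zero_add]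
  inv_mem' := by
    rintro _ ⟨x, hx, b, rfl⟩
    obtain ⟨c, hc⟩ := (h.memZ _).1 (inv_mem (mul_mem (δP h hx) (ιP h.toSu b)).sq)
    exact ⟨x, hx, b + c, by rw [h.ι_add, hc]; group⟩

theorem WP : WW h ≤ P := by
  rintro _ ⟨x, hx, b, rfl⟩
  exact mul_mem (δP h hx) (ιP h.toSu b)

theorem ιW (b : k) : d.ι b ∈ WW h := ⟨1, one_mem _, b, by simp⟩

theorem tlδ (hx : x ∈ P) (t : Tl d E φ x v) (b : k) :
    Tl d E φ (g * x * g⁻¹ * x⁻¹ * d.ι b) ((1 + a ^ 2) * v) := by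
  have := ((t.conj hL (h.Hle h.hH).1 h.sι).mul hL (t.inv hL hx.cU) (cZ hL (norP h.toSu
    (CE hL (h.Hle h.hH).1) (h.Hle h.hH).2 hx).cU)).mul hL (tl_cen hL (h.tU (ιU hL b))) (cZ hL (δP h hx).cU)
  rwa [add_zero, ← add_one_mul, add_comm] at this

theorem surjW (v : k) : ∃ w ∈ WW h, Tl d E φ w v := by
  obtain ⟨x, hx, t⟩ := surjP h.toSu (v / (1 + a ^ 2))
  exact ⟨_, ⟨x, hx, 0, rfl⟩, mul_div_cancel₀ v h.a1 ▸ tlδ h hx t 0⟩

theorem norW1 (hc : c ∈ cen1 d.t) (cU : c ∈ nor d.U) (sc : Sc d c s) (hw : w ∈ WW h) :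
    c * w * c⁻¹ ∈ WW h := by
  obtain ⟨x, hx, b, rfl⟩ := hw
  have gC := h.Hle h.hH
  have m := mul_mem (mul_mem cU gC.2) (inv_mem cU)
  obtain ⟨r, hr⟩ := trP h.toSu (mul_mem (inv_mem gC.1) (mul_mem (mul_mem hc gC.1) (inv_mem hc)))
    (mul_mem (inv_mem gC.2) m) (h.sc.div (h.sc.conj (σ := RingEquiv.refl K) gC.2 cU sc)
      ((map_ne_zero _).2 h.a0) gC.2 m)
  have x' := norP h.toSu (CE hL hc) cU hx
  obtain ⟨v, t⟩ := x'.tl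
  obtain ⟨b', hb⟩ := (h.memZ _).1 (conj_mem_nor (h.toUD.mem_nor_Z cU) (h.toUD.ι_mem b))
  refine ⟨_, x', a ^ 2 * (v * r) + b', ?_⟩
  calc _ = g * (g⁻¹ * (c * g * c⁻¹) * (c * x * c⁻¹) * (g⁻¹ * (c * g * c⁻¹))⁻¹) * g⁻¹ * (c * x * c⁻¹)⁻¹ *
        (c * d.ι b * c⁻¹) := by group
    _ = _ := by
      rw [hr _ x' v t, cmul g, h.sι, ← hb, h.ι_add, mul_assoc _ (d.ι _), ← cι hL (inv_mem x'.cU)]
      simp only [mul_assoc]

theorem exPW : PW d E φ (WW h) := by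
  have gC := h.Hle h.hH
  refine ⟨h.toSu, fun _ m => (WP h m).cU, ιW h, fun _ m => (WP h m).tl, surjW h, ?_, fun n hn nU => ?_,
    fun y h1 h2 h3 => (trP h.toSu h1 h2 h3).imp fun _ e x hx => e x (WP h hx),
    fun _ m _ m' => (WP h m).com h.toSu (WP h m'), fun _ m => (WP h m).sq, ?_⟩
  · rintro _ ⟨x, hx, b, rfl⟩ t0
    obtain ⟨v, t⟩ := hx.tl
    obtain rfl := (mul_eq_zero.1 ((tlδ h hx t b).uniq h.toSu t0)).resolve_left h.a1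
    obtain ⟨e, he, r, rfl⟩ := (mem_F hL).1 (hx.F h.toSu t)
    rw [cmul, cjE hL gC.1 he, h.sι, show e * d.ι (a ^ 2 * r) * (e * d.ι r)⁻¹ =
      e * (d.ι (a ^ 2 * r) * (d.ι r)⁻¹) * e⁻¹ by group]
    exact mul_mem (conj_mem_nor (centralizer_le_normalizer _ (cZ hL (EU hL he)))
      (mul_mem (h.toUD.ι_mem _) (inv_mem (h.toUD.ι_mem _)))) (h.toUD.ι_mem _)
  · refine H1.GH.mem_nor ?_
    rintro _ ⟨x, hx, b, rfl⟩
    obtain ⟨ρ, hρ⟩ := h.rho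
    obtain ⟨l, -, act⟩ := hρ ⟨n, nU⟩
    have x' := norP h.toSu hn nU hx
    obtain ⟨v, t⟩ := x'.tl
    obtain ⟨w, hw, t'⟩ := surjW h v
    obtain ⟨e, he, r, q⟩ := (mem_F hL).1 (MP.F h.toSu (mul_mem (inv_mem (WP h hw)) x')
      (CharTwo.add_self_eq_zero v ▸ (t'.inv hL (WP h hw).cU).mul hL t (cZ hL (inv_mem (WP h hw).cU)) :))
    obtain ⟨b', hb⟩ := (h.memZ _).1 (conj_mem_nor (h.toUD.mem_nor_Z nU) (h.toUD.ι_mem b))
    have m := mul_mem hw (ιW h r)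
    rw [inv_mul_eq_iff_eq_mul, cι hL (EU hL he), ← mul_assoc] at q
    rw [show n * (g * x * g⁻¹ * x⁻¹ * d.ι b) * n⁻¹ = n * g * n⁻¹ * (n * x * n⁻¹) * (n * g * n⁻¹)⁻¹ *
      (n * x * n⁻¹)⁻¹ * (n * d.ι b * n⁻¹) by group, q, cmul, cjE hL (norC hL hn gC.1) he, mul_inv_rev _ e,
      mul_assoc _ e, mul_inv_cancel_left, ← hb]
    exact mul_mem (mul_mem (norW1 h (norC hL hn gC.1) (mul_mem (mul_mem nU gC.2) (inv_mem nU))
      (h.sc.conj gC.2 nU act) m) (inv_mem m)) (ιW h b')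
  · rintro _ ⟨x, -, b, rfl⟩
    exact mul_mem (comm_mem_X2 (H27.BG.oddH h.toHy0 h.hH) x) (h.UX (ιU hL b))

end

variable (h : PW d E φ W)
include h

local notation "hL" => Su.toLocE (PW.toSu h)

theorem PW.diff (hw : w ∈ W) (hw' : w' ∈ W) (t : Tl d E φ w v) (t' : Tl d E φ w' v) :
    ∃ b, w' = w * d.ι b := by
  obtain ⟨b, hb⟩ := (h.memZ _).1 (h.kerW _ (mul_mem (inv_mem hw) hw')
    (CharTwo.add_self_eq_zero v ▸ (t.inv hL (h.cU hw)).mul hL t' (cZ hL (inv_mem (h.cU hw))) :))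
  exact ⟨b, by rw [hb, mul_inv_cancel_left]⟩

theorem PW.exH (v0 : v ≠ 0) : ∃ x ∈ cen1 d.t, x ∈ nor d.U ∧ x ∈ nor W ∧ ∃ a : k, a ≠ 0 ∧
    Sc d x (algebraMap k K a) ∧ ∀ b, x * d.ι b * x⁻¹ = d.ι (v * b) :=
  let ⟨x, hx, e⟩ := exH' hL v0
  ⟨x, (h.Hle hx).1, (h.Hle hx).2, h.norW x (CE hL (h.Hle hx).1) (h.Hle hx).2, e⟩

theorem PW.abW (hw : w ∈ W) (hw' : w' ∈ W) : w * w' = w' * w := by
  choose s sW st using h.surj
  choose β hβ using fun a b => (h.memZ _).1 (h.comW _ (sW a) _ (sW b))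
  have k1 : ∀ {x y a b}, x ∈ W → y ∈ W → Tl d E φ x a → Tl d E φ y b → x * y * x⁻¹ * y⁻¹ = d.ι (β a b) :=
    fun {x y a b} hx hy t t' => by
      obtain ⟨r, rfl⟩ := h.diff (sW a) hx (st a) t
      obtain ⟨r', rfl⟩ := h.diff (sW b) hy (st b) t'
      rw [hβ, show s a * d.ι r * (s b * d.ι r') * (s a * d.ι r)⁻¹ * (s b * d.ι r')⁻¹ =
        s a * (d.ι r * (s b * d.ι r') * (d.ι r)⁻¹) * ((s a)⁻¹ * (d.ι r')⁻¹ * (s a)⁻¹⁻¹) * (s a)⁻¹ * (s b)⁻¹ by group,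
        cen_conj' (h.cU hy) (ιU hL r), cen_conj (inv_mem (h.cU (sW a))) (inv_mem (ιU hL r'))]
      group
  have k2 : ∀ a a' b, β (a + a') b = β a b + β a' b := fun a a' b => h.ι_inj (by
    rw [← k1 (mul_mem (sW a) (sW a')) (sW b) ((st a).mul hL (st a') (cZ hL (h.cU (sW a)))) (st b),
      add_comm, h.ι_add, show s a * s a' * s b * (s a * s a')⁻¹ * (s b)⁻¹ =
        s a * (s a' * s b * (s a')⁻¹ * (s b)⁻¹) * (s a)⁻¹ * (s a * s b * (s a)⁻¹ * (s b)⁻¹) by group,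
      ← hβ, ← hβ, cen_conj (h.cU (sW a)) (ιU hL _)])
  have k3 : ∀ a b, β a b = β b a := fun a b => h.ι_inj (by
    rw [← inv_eq_of_mul_eq_one_right (ιι hL (β b a)), hβ, hβ]; group)
  have k4 := h.exp1 (AddMonoidHom.mk' (fun a => AddMonoidHom.mk' (β a) fun b b' => by
    rw [k3, k2, k3 b, k3 b']) fun a a' => AddMonoidHom.ext (k2 a a')) fun μ a b => by
      by_cases μ0 : μ = 0
      · rw [μ0, zero_mul, zero_mul, zero_mul, map_zero]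
      obtain ⟨x, x1, -, x2, -, -, -, e⟩ := h.exH μ0
      refine h.ι_inj ((k1 (conj_mem_nor x2 (sW a)) (conj_mem_nor x2 (sW b)) ((st a).conj hL x1 e)
        ((st b).conj hL x1 e)).symm.trans ?_)
      rw [← e]
      change _ = x * d.ι (β a b) * x⁻¹
      rw [hβ]; group
  obtain ⟨a, t⟩ := h.tlW w hw
  obtain ⟨b, t'⟩ := h.tlW w' hw'
  obtain ⟨a, rfl⟩ := ex_sq a
  obtain ⟨b, rfl⟩ := ex_sq b
  have := k1 hw hw' t t'
  rwa [show β (a ^ 2) (b ^ 2) = a * b * β 1 1 from k4 a b, show β 1 1 = 0 from h.toUD.ι_eq_one.1 (by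
    rw [hβ]; group), mul_zero, h.toUD.ι_zero, mul_inv_eq_one, mul_inv_eq_iff_eq_mul] at this

theorem PW.sqm : ∃ m, ∀ w ∈ W, ∀ v, Tl d E φ w v → w * w = d.ι (v * m) := by
  obtain ⟨w1, h1, t1⟩ := h.surj 1
  obtain ⟨m, hm⟩ := (h.memZ _).1 (h.sqW _ h1)
  refine ⟨m, fun w hw v t => ?_⟩
  by_cases v0 : v = 0
  · rw [v0, zero_mul, h.toUD.ι_zero, h.toUD.Z_sq (h.kerW w hw (v0 ▸ t))]
  obtain ⟨x, x1, -, x2, -, -, -, e⟩ := h.exH v0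
  have m1 := conj_mem_nor x2 h1
  obtain ⟨b, rfl⟩ := h.diff m1 hw (mul_one v ▸ t1.conj hL x1 e) t
  rw [(show Commute _ (d.ι b) from cι hL (h.cU m1) b).symm.mul_mul_mul_comm, ιι hL, mul_one, conj_mul, ← hm, e]

theorem PW.linW (hn : n ∈ cen1 d.t) (nU : n ∈ nor d.U) (nZ : n ∈ cen d.Z) :
    ∃ κ, ∀ w ∈ W, ∀ v, Tl d E φ w v → n * w * n⁻¹ = w * d.ι (κ * v) := by
  have nW := h.norW n (CE hL hn) nU
  have n1 : ∀ b, n * d.ι b * n⁻¹ = d.ι (1 * b) := fun b => by rw [one_mul, cen_conj nZ (h.toUD.ι_mem b)]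
  choose s sW st using h.surj
  choose κ hκ using fun a => h.diff (sW a) (conj_mem_nor nW (sW a)) (st a)
    (by simpa using (st a).conj hL hn n1)
  have k1 : ∀ w ∈ W, ∀ v, Tl d E φ w v → n * w * n⁻¹ = w * d.ι (κ v) := fun w hw v t => by
    obtain ⟨r, rfl⟩ := h.diff (sW v) hw (st v) t
    rw [cmul, hκ, n1, one_mul, mul_assoc, mul_assoc, ← h.ι_add, add_comm, h.ι_add]
  obtain ⟨ρ, hρ⟩ := h.rho
  obtain ⟨l, -, act⟩ := hρ ⟨n, nU⟩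
  obtain ⟨τ, hτ⟩ := h.res (ρ ⟨n, nU⟩)
  have k2 : ∀ a, d.N l * τ a = a := fun a => h.ι_inj ((h.actZ n nU l _ act a _ (by
    rw [map_mul, d.N_eq, hτ])).symm.trans (cen_conj nZ (h.toUD.ι_mem a)))
  have k3 := h.avg (AddMonoidHom.mk' κ fun a b => h.ι_inj (mul_left_cancel (a := s a * s b) (by
    rw [← k1 _ (mul_mem (sW a) (sW b)) _ ((st a).mul hL (st b) (cZ hL (h.cU (sW a)))), cmul, hκ, hκ, h.ι_add,
      (show Commute _ (d.ι _) from cι hL (h.cU (sW b)) _).symm.mul_mul_mul_comm]))) fun ν ν0 => by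
    obtain ⟨x, x1, xU, x2, a, a0, sc, e⟩ := h.exH ν0
    have m := mul_mem (mul_mem nU xU) (inv_mem nU)
    have y0 := sc.div (by
      have := sc.conj xU nU act
      rwa [hτ, ← one_mul (τ a), ← k2 1, map_one, mul_one, k2] at this) ((map_ne_zero _).2 a0) xU m
    have yU := mul_mem (inv_mem xU) m
    obtain ⟨c, hc⟩ := h.trW _ (mul_mem (inv_mem x1) (mul_mem (mul_mem hn x1) (inv_mem hn))) yU y0
    refine ⟨ν * c, fun v => h.ι_inj (mul_left_cancel (a := x * s v * x⁻¹) ?_)⟩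
    refine (k1 _ (conj_mem_nor x2 (sW v)) _ ((st v).conj hL x1 e)).symm.trans ?_
    rw [show n * (x * s v * x⁻¹) * n⁻¹ = x * (x⁻¹ * (n * x * n⁻¹) * (n * s v * n⁻¹) *
      (x⁻¹ * (n * x * n⁻¹))⁻¹) * x⁻¹ by group, hκ, cmul _ (s v), hc _ (sW v) v (st v),
      cen_conj (h.trZ _ yU y0) (h.toUD.ι_mem _), mul_assoc (s v), ← h.ι_add, cmul, e]
    congr 2
    change _ = ν * κ v + _
    ring
  exact ⟨κ 1, fun w hw v t => by rw [k1 w hw v t, show κ v = v * κ 1 from k3 v, mul_comm v]⟩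

end H48.BgEP
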