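import Cfsg.Agent.H40.CSSpec

/-! # S4161, slot U: the coset count -/

set_option autoImplicit false

namespace H48.CsU

open Subgroup Cfsg H40.CS
open scoped Pointwise

universe u

variable {G : Type u} [Group G]

theorem card_out [Finite G] (C U : Subgroup G) :
    Nat.card {d : G // d ∈ C ∧ d ∉ U} + Nat.card ↥(C ⊓ U) = Nat.card C := by
  classical
  have e : {d : G // d ∈ C ∧ d ∉ U} ⊕ ↥(C ⊓ U) ≃ C :=
    { toFun := fun x => x.elim (fun d => ⟨d.1, d.2.1⟩) fun d => ⟨d.1, d.2.1⟩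
      invFun := fun c => if h : (c : G) ∈ U then .inr ⟨c, c.2, h⟩ else .inl ⟨c, c.2, h⟩
      left_inv := by
        rintro (⟨d, h1, h2⟩ | ⟨d, h1, h2⟩)
        · simp [h2]
        · have h3 : d ∈ U := h2
          simp [h3]
      right_inv := fun c => by
        by_cases h : (c : G) ∈ U <;> simp [h] }
  rw [← Nat.card_sum, Nat.card_congr e]

theorem conj_mem_cen {T : Subgroup G} {ν d : G} (hν : ν ∈ normalizer (T : Set G))
    (hd : d ∈ centralizer (T : Set G)) : ν⁻¹ * d * ν ∈ centralizer (T : Set G) := by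
  intro t ht
  have h := hd _ ((mem_normalizer_iff.1 hν t).1 ht)
  calc t * (ν⁻¹ * d * ν) = ν⁻¹ * (ν * t * ν⁻¹ * d) * ν := by group
    _ = ν⁻¹ * d * ν * t := by rw [h]; group

theorem job : JobU.{u} := by
  intro hB G _ _ s hs U hU hne h
  have : Fact s.Prime := ⟨hs⟩
  obtain ⟨T⟩ : Nonempty (Sylow s G) := inferInstance
  set C := centralizer ((T : Subgroup G) : Set G) with hC
  set N := normalizer ((T : Subgroup G) : Set G) with hN
  have CN : C ≤ N := centralizer_le_normalizer _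
  have out : ∀ k d : G, d ∉ U → k * d * k⁻¹ ∉ U := fun k d hd e => hd (by
    simpa [mul_assoc] using hU.conj_mem _ e k⁻¹)
  let φ : (G ⧸ N) × {d : G // d ∈ C ∧ d ∉ U} → {g : G // g ∈ (⊤ : Subgroup G) ∧ g ∉ U} :=
    fun x => ⟨x.1.out * x.2 * x.1.out⁻¹, mem_top _, out _ _ x.2.2.2⟩
  have key : ∀ k d : G, d ∈ C → d ∉ U → ∃ d', (φ ((k : G ⧸ N), d') : G) = k * d * k⁻¹ := by
    intro k d h1 h2
    obtain ⟨ν, hν⟩ := QuotientGroup.mk_out_eq_mul N k
    refine ⟨⟨(ν : G)⁻¹ * d * ν, conj_mem_cen ν.2 h1, by simpa using out (ν : G)⁻¹ d h2⟩, ?_⟩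
    change (k : G ⧸ N).out * ((ν : G)⁻¹ * d * ν) * ((k : G ⧸ N).out)⁻¹ = _
    rw [hν]; group
  have form : ∀ g : G, g ∉ U → ∃ k d : G, d ∈ C ∧ d ∉ U ∧ g = k * d * k⁻¹ := by
    intro g hg
    obtain ⟨T1, h1⟩ := ((hB G).f3 s g).1 (h g hg)
    obtain ⟨k, rfl⟩ := MulAction.exists_smul_eq G T T1
    refine ⟨k, k⁻¹ * g * k, fun t ht => ?_, by simpa using out k⁻¹ g hg, by group⟩
    have := (h1 (k * t * k⁻¹) (by
      change k * t * k⁻¹ ∈ MulAut.conj k • (T : Subgroup G)
      exact smul_mem_pointwise_smul t (MulAut.conj k) _ ht)).eq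
    calc t * (k⁻¹ * g * k) = k⁻¹ * (k * t * k⁻¹ * g) * k := by group
      _ = k⁻¹ * g * k * t := by rw [this]; group
  have sur : Function.Surjective φ := by
    rintro ⟨g, -, hg⟩
    obtain ⟨k, d, h1, h2, rfl⟩ := form g hg
    obtain ⟨d', hd⟩ := key k d h1 h2
    exact ⟨_, Subtype.ext hd⟩
  have i1 := Nat.card_le_card_of_surjective φ sur
  have i2 := card_out C U
  have i3 := card_out ⊤ U
  rw [top_inf_eq, card_top] at i3
  have i4 : Nat.card U * U.index = Nat.card G := U.card_mul_index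
  have i5 : Nat.card N * N.index = Nat.card G := N.card_mul_index
  have i6 : Nat.card C ≤ Nat.card N := card_le_of_le CN
  have i7 : Nat.card C ≤ Nat.card ↥(C ⊓ U) * U.index := by
    have a : U.relIndex C ≤ U.index := by
      rw [← relIndex_top_right]
      exact relIndex_le_of_le_right le_top (by rw [relIndex_top_right]; exact index_ne_zero_of_finite)
    have b : Nat.card (U.subgroupOf C) * U.relIndex C = Nat.card C := card_mul_index _
    have c : Nat.card (U.subgroupOf C) = Nat.card ↥(C ⊓ U) := by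
      rw [← inf_subgroupOf_left, Nat.card_congr (subgroupOfEquivOfLe inf_le_left).toEquiv]
    rw [← b, c]
    exact Nat.mul_le_mul_left _ a
  obtain ⟨m, hm⟩ : ∃ m, U.index = m + 2 := by
    have a : U.index ≠ 0 := index_ne_zero_of_finite
    have b : U.index ≠ 1 := fun e => hne (index_eq_one.1 e)
    exact ⟨U.index - 2, by omega⟩
  have np : 0 < N.index := Nat.pos_of_ne_zero index_ne_zero_of_finite
  rw [Nat.card_prod] at i1
  change _ ≤ N.index * _ at i1
  rw [hm] at i4 i7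
  generalize hA : Nat.card {g : G // g ∈ (⊤ : Subgroup G) ∧ g ∉ U} = A at i1 i3
  generalize he : Nat.card {d : G // d ∈ C ∧ d ∉ U} = e at i1 i2
  have j1 : (m + 2) * e ≤ (m + 1) * Nat.card C := by nlinarith
  have j2 : (m + 2) * A = (m + 1) * (Nat.card N * N.index) := by nlinarith
  have j3 : (m + 2) * (N.index * e) ≤ (m + 1) * (Nat.card C * N.index) := by nlinarith
  have j4 : (m + 1) * (Nat.card C * N.index) ≤ (m + 1) * (Nat.card N * N.index) :=
    Nat.mul_le_mul_left _ (Nat.mul_le_mul_right _ i6)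
  have j5 : (m + 2) * A ≤ (m + 2) * (N.index * e) := Nat.mul_le_mul_left _ i1
  have j6 : Nat.card N ≤ Nat.card C := Nat.le_of_mul_le_mul_right
    (Nat.le_of_mul_le_mul_left (show (m + 1) * (Nat.card N * N.index) ≤
      (m + 1) * (Nat.card C * N.index) by omega) (by omega)) np
  have j7 : N.index * e = A := le_antisymm (Nat.le_of_mul_le_mul_left
    (show (m + 2) * (N.index * e) ≤ (m + 2) * A by omega) (by omega)) i1
  have NC : N ≤ C := (eq_of_le_of_card_ge CN j6).ge
  have inj : Function.Injective φ := ((Nat.bijective_iff_surjective_and_card φ).2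
    ⟨sur, by rw [Nat.card_prod, hA, he]; exact j7⟩).1
  refine ⟨⟨T, _, inferInstance, MonoidHom.ker_transferSylow_isComplement' T NC⟩,
    fun g hg x hx => ?_⟩
  obtain ⟨k, d, h1, h2, rfl⟩ := form g hg
  obtain ⟨d1, e1⟩ := key k d h1 h2
  obtain ⟨d2, e2⟩ := key (x * k) d h1 h2
  have e3 : φ ((k : G ⧸ N), d1) = φ (((x * k : G) : G ⧸ N), d2) := Subtype.ext (by
    rw [e1, e2]
    calc k * d * k⁻¹ = k * d * k⁻¹ * x * x⁻¹ := by group
      _ = x * k * d * (x * k)⁻¹ := by rw [hx.eq]; group)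
  have e4 : k⁻¹ * (x * k) ∈ C := NC (QuotientGroup.eq.1 (congrArg Prod.fst (inj e3)))
  refine ((hB G).f3 s x).2 ⟨k • T, fun t ht => ?_⟩
  have ht' : k⁻¹ * t * k ∈ (T : Subgroup G) := by
    change t ∈ MulAut.conj k • (T : Subgroup G) at ht
    simpa using mem_pointwise_smul_iff_inv_smul_mem.1 ht
  have := e4 _ ht'
  change t * x = x * t
  calc t * x = k * (k⁻¹ * t * k * (k⁻¹ * (x * k))) * k⁻¹ := by group
    _ = x * t := by rw [this]; group

end H48.CsU
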