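import Cfsg.Agent.H57.DPCSpec

/-! # S3275, chapter (2): the uniqueness case. Interface of the chapters. -/

set_option autoImplicit false

namespace H48.DP2

open Subgroup Cfsg H98 H48.DP H57.DPC

universe u

variable {G : Type u} [Group G]

/-- `M = N(Q)` is a strongly 3-embedded 2-local of 3-rank at least 3. -/
structure Uw (M Q : Subgroup G) : Prop extends Hyp2 G where
  h1 : Hyp1 G
  no : No Q = M
  o2 : O2 M = Q
  nt : Q ≠ ⊥
  cq : Ce Q ≤ Q
  e27 : ∃ B : Subgroup G, B ≤ M ∧ IsElementaryAbelian 3 B ∧ 27 ≤ Nat.card B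
  ti : ∀ x g : G, orderOf x = 3 → x ∈ M → g * x * g⁻¹ ∈ M → g ∈ M

/-- In addition the normalisers of the 2-groups over `Q` lie in `M`. -/
structure Uq (M Q : Subgroup G) : Prop extends Uw M Q where
  nq : ∀ X : Subgroup G, IsPGroup 2 X → Q ≤ X → X ≤ M → No X ≤ M

/-- `P = R⟨y, t⟩` with `P/R ≅ S₃` contains the Sylow 2-subgroup `T ≤ M` and is not in `M`. -/
structure Am (M T R : Subgroup G) (y t : G) : Prop where
  syl : ∃ S : Sylow 2 G, (S : Subgroup G) = T
  TM : T ≤ M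
  RT : R ≤ T
  idx : R.relIndex T = 2
  y3 : orderOf y = 3
  yM : y ∉ M
  yR : y ∈ No R
  tT : t ∈ T
  tR : t ∉ R
  ty : t * y * t⁻¹ = y⁻¹

def U0 : Prop := ∀ (G : Type u) [Group G] [Finite G], Hyp2 G → Hyp1 G →
  ∀ (N : ℕ) (B : Subgroup G) (x : G), Top N B → x ∈ B → x ≠ 1 → O2 (C1 x) ≠ ⊥ →
  ∃ M Q : Subgroup G, Uw M Q

def NQ : Prop := ∀ (G : Type u) [Group G] [Finite G] (M Q : Subgroup G), Uw M Q → Uq M Q

def EP : Prop := ∀ (G : Type u) [Group G] [Finite G] (M Q : Subgroup G), Uq M Q →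
  ∃ (T R : Subgroup G) (y t : G), Am M T R y t

def U2F : Prop := ∀ (G : Type u) [Group G] [Finite G] (M Q T R : Subgroup G) (y t : G),
  Uq M Q → Am M T R y t → False

/-- Case (I): `y` is fixed point free on `R`. -/
def U2I : Prop := ∀ (G : Type u) [Group G] [Finite G] (M Q T R : Subgroup G) (y t : G),
  Uq M Q → Am M T R y t → R ⊓ C1 y = ⊥ → False

/-- Case (II): some 2-group normalised by an element of order 3 of `M` meets `M` properly. -/
def U2II : Prop := ∀ (G : Type u) [Group G] [Finite G] (M Q X : Subgroup G) (x : G),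
  Uq M Q → x ∈ M → orderOf x = 3 → IsPGroup 2 X → x ∈ No X → ¬ X ≤ M → X ⊓ M = ⊥

/-- Every element of order 3 lies in a conjugate of `M`. -/
def Home : Prop := ∀ (G : Type u) [Group G] [Finite G] (M Q : Subgroup G), Uw M Q →
  ∀ y : G, orderOf y = 3 → ∃ g : G, g * y * g⁻¹ ∈ M

def JobHome : Prop := Home.{u}

def JobU2F : Prop := Home.{u} → U2I.{u} → U2II.{u} → U2F.{u}

theorem rank_two (km : KM.{u}) (u0 : U0.{u}) (nq : NQ.{u}) (ep : EP.{u}) (f : U2F.{u})
    (G : Type u) [Group G] [Finite G] (h2 : Hyp2 G) (h1 : Hyp1 G) : TwoLocalPRankLE 3 2 G := by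
  by_contra h
  obtain ⟨N, B, hB, x, hx, hx1, hO⟩ := km G h2 h
  obtain ⟨M, Q, hw⟩ := u0 G h2 h1 N B x hB hx hx1 hO
  obtain ⟨T, R, y, t, ha⟩ := ep G M Q (nq G M Q hw)
  exact f G M Q T R y t (nq G M Q hw) ha

end H48.DP2
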