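/- the functor `O(C(t))` in groups whose involution centralizers are 2-constrained -/
import Cfsg.Agent.H48.Two2
import Cfsg.Agent.H84.SPE
import Cfsg.Agent.H84.Hyp

open Cfsg hiding pRank
open Subgroup H46
open H85 (E2)
open scoped commutatorElement

namespace H48

universe u

/-- the statement S1221 (consequence of the Bender-Suzuki theorem) -/
def BenderO : Prop :=
  ∀ {G : Type u} [Group G] [Finite G] (H : Subgroup G) (_ : Cfsg.IsStronglyEmbedded H),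
    (Cfsg.oddCore ↥H).map H.subtype ≤ Cfsg.oddCore G

/-- all involution centralizers are 2-constrained with solvable cores -/
structure Hyp2 (G : Type u) [Group G] : Prop where
  sft : SFT.{u}
  sol : ∀ t : G, orderOf t = 2 → Group.IsSolvable (th 2 t)
  con : ∀ t : G, orderOf t = 2 → IsPConstrained 2 (Cent1 t)

variable {G : Type u} [Group G] {A B D E F H K L M N P Q R S T U V X Z : Subgroup G}
  {a b g n t u v w x y z : G}

/-- `W_E` -/
abbrev W (E : Subgroup G) : Subgroup G := sc E (th 2)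

theorem allI_e2 (hE : E2 E) : AllI (fun t => orderOf t = 2) E := fun _ ha h1 => hE.ord ha h1

/-- `a` lies in an elementary abelian subgroup of order at least eight of `M` -/
def Good (M : Subgroup G) (a : G) : Prop := ∃ E, E8 E ∧ E ≤ M ∧ a ∈ E

theorem Good.conj (h : Good M a) (hg : g ∈ M) : Good M (g * a * g⁻¹) := by
  obtain ⟨E, h1, h2, h3⟩ := h
  exact ⟨cj g E, h1.cj g, (cj_mono g h2).trans (cj_of_mem hg).le, conj_mem_cj.2 h3⟩

theorem Good.mono (h : Good M a) (hle : M ≤ N) : Good N a := by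
  obtain ⟨E, h1, h2, h3⟩ := h
  exact ⟨E, h1, h2.trans hle, h3⟩

theorem Good.mem (h : Good M a) : a ∈ M := by
  obtain ⟨E, -, h2, h3⟩ := h
  exact h2 h3

variable [Finite G]

theorem Hyp2.eqF (h : Hyp2 G) : EqF 2 (fun t : G => orderOf t = 2) (th 2) :=
  eqF_th Nat.prime_two (fun a g ha => by rw [orderOf_conj, ha]) (fun _ ha => ha) h.sol h.con

theorem Hyp2.cj_W (h : Hyp2 G) (hE : E2 E) (g : G) : cj g (W E) = W (cj g E) :=
  h.eqF.cj_sc (allI_e2 hE) g

theorem Hyp2.nrm_le (h : Hyp2 G) (hE : E2 E) : Nrm E ≤ Nrm (W E) :=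
  h.eqF.nrm_le_nrm_sc (allI_e2 hE)

theorem Hyp2.W_eq (h : Hyp2 G) (h8 : E8 E) (h4 : E4 V) (hle : V ≤ E) : W V = W E :=
  h.eqF.sc_eq h.sft (H85.e2_iff.1 h8.1) (allI_e2 h8.1) h8.2 hle h4.2

theorem Hyp2.W_eq_of_comm (h : Hyp2 G) (hA : E4 A) (hB : E4 B) (hc : B ≤ Cent A) : W A = W B := by
  have hE := e2_sup hA.1 hB.1 hc
  rcases hA.eq_or_e8 hE le_sup_left with e | e
  · rcases hB.eq_or_e8 hE le_sup_right with e' | e'
    · rw [e.trans e'.symm]
    · rw [h.W_eq e' hA le_sup_left, h.W_eq e' hB le_sup_right]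
  · rw [h.W_eq e hA le_sup_left, h.W_eq e hB le_sup_right]

theorem Hyp2.W_pi (h : Hyp2 G) (h8 : E8 E) : IsPi {2}ᶜ (W E) :=
  (h.eqF.fam h.sft (H85.e2_iff.1 h8.1) (allI_e2 h8.1) h8.2).pi

theorem Hyp2.W_sol (h : Hyp2 G) (h8 : E8 E) : Group.IsSolvable (W E) :=
  (h.eqF.fam h.sft (H85.e2_iff.1 h8.1) (allI_e2 h8.1) h8.2).sol

theorem Hyp2.W_inf (h : Hyp2 G) (h8 : E8 E) (ha : a ∈ E) (h1 : a ≠ 1) :
    W E ⊓ Cent1 a = th 2 a :=
  h.eqF.sc_inf_cent1 h.sft (H85.e2_iff.1 h8.1) (allI_e2 h8.1) h8.2 ha h1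

theorem Hyp2.W_eq_nf (h : Hyp2 G) (nf : NF R z u) (h8 : E8 E) (hle : E ≤ R) :
    W E = W (four z u) := by
  have h1 := h8.e4_inf (nf.idx2.of_le hle)
  rw [← h.W_eq h8 h1 inf_le_left, ← h.W_eq_of_comm nf.e4 h1 (nf.inf_cent hle)]

omit [Finite G] in
theorem e2_isPGroup (h : E2 E) : IsPGroup 2 E := h.isPGroup

omit [Finite G] in
theorem two_zpowers (ht : orderOf t = 2) : IsPGroup 2 (zpowers t) :=
  H84.isPGroup_zpowers_of_orderOf ht

/-- a Sylow 2-subgroup `P` of `O_{2',2}(C(t))` is not of rank one -/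
theorem Hyp2.exists_e4 (h : Hyp2 G) (ht : orderOf t = 2) (hR : IsSylowOf 2 R (Cent1 t))
    (h8 : E8 E) (hE : E ≤ R) : ∃ V, E4 V ∧ V ≤ R ⊓ Op'p 2 (Cent1 t) := by
  obtain ⟨z, u, nf⟩ := exists_nf (hR.isPGroup Nat.prime_two) hE h8
  have hZ : zpowers t ≤ Cent1 t := zpowers_le.2 (self_mem_cent1 t)
  have hZc : Cent1 t ≤ Cent (zpowers t) := (cent_zpowers t).ge
  have key : ∀ X ≤ R, ⁅X, R ⊓ Op'p 2 (Cent1 t)⁆ ≤ zpowers t → X ≤ R ⊓ Op'p 2 (Cent1 t) :=
    fun X hX => le_inf_Op'p_of_commutator Nat.prime_two (h.con t ht) hR hZ hZc hX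
  have htR : zpowers t ≤ R := hR.normal_le (isPi_of_isPGroup Nat.prime_two (two_zpowers ht))
    ⟨hZ, cent1_le_nrm_zpowers t⟩
  have htP := key _ htR (commutator_le_left' ((inf_le_left.trans hR.le).trans
    (cent1_le_nrm_zpowers t)))
  by_cases hc : four z u ⊓ (R ⊓ Op'p 2 (Cent1 t)) ≤ zpowers t
  · refine ⟨_, nf.e4, key _ nf.le (le_trans (le_inf (commutator_le_left' (inf_le_left.trans nf.nrm))
      (commutator_le_right' (nf.le.trans (sylow_nrm_inf_Op'p Nat.prime_two hR.le)))) hc)⟩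
  · obtain ⟨v, hv, hv'⟩ := SetLike.not_le_iff_exists.1 hc
    rw [mem_zp2 (mul_self_of_two ht), not_or] at hv'
    exact ⟨four t v, e4_four (mul_self_of_two ht) (nf.e4.1 v hv.1)
      (mem_cent1.1 (hR.le hv.2.1)).symm (ne_one_of_two ht) hv'.1 hv'.2,
      four_le (htP (mem_zpowers t)) hv.2⟩

/-- the standing configuration -/
structure Setup (S : Subgroup G) (z u : G) : Prop where
  hyp : Hyp2 G
  syl : IsSylowOf 2 S ⊤
  nf : NF S z u
  e8 : ∃ E, E8 E ∧ E ≤ S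

theorem exists_setup (h : Hyp2 G) (hS : IsSylowOf 2 S ⊤) (h8 : E8 E) : ∃ z u, Setup S z u := by
  obtain ⟨g, -, hg⟩ := sylow_cj_le Nat.prime_two hS (e2_isPGroup h8.1) le_top
  obtain ⟨z, u, nf⟩ := exists_nf (hS.isPGroup Nat.prime_two) hg (h8.cj g)
  exact ⟨z, u, h, hS, nf, _, h8.cj g, hg⟩

namespace Setup
variable (h : Setup S z u)
include h

omit [Finite G] in
theorem swap : Setup S z (u * z) := ⟨h.hyp, h.syl, h.nf.swap, h.e8⟩

theorem two : IsPGroup 2 S := h.syl.isPGroup Nat.prime_two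

theorem S_le : S ≤ Nrm (W (four z u)) := h.nf.nrm.trans (h.hyp.nrm_le h.nf.e4.1)

theorem sylM : IsSylowOf 2 S (Nrm (W (four z u))) := h.syl.of_le h.S_le le_top

theorem W_e8 (h8 : E8 E) (hE : E ≤ Nrm (W (four z u))) : W E = W (four z u) := by
  obtain ⟨m, hm, hle⟩ := sylow_cj_le Nat.prime_two h.sylM (e2_isPGroup h8.1) hE
  have := h.hyp.W_eq_nf h.nf (h8.cj m) hle
  rw [← h.hyp.cj_W h8.1, cj_eq_iff, cj_of_mem_nrm (inv_mem hm)] at this
  exact this

theorem pi : IsPi {2}ᶜ (W (four z u)) := by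
  obtain ⟨E, h8, hE⟩ := h.e8
  rw [← h.W_e8 h8 (hE.trans h.S_le)]
  exact h.hyp.W_pi h8

theorem sol : Group.IsSolvable (W (four z u)) := by
  obtain ⟨E, h8, hE⟩ := h.e8
  rw [← h.W_e8 h8 (hE.trans h.S_le)]
  exact h.hyp.W_sol h8

theorem mem_of_cj (h8 : E8 E) (hE : E ≤ Nrm (W (four z u))) (hg : cj g E ≤ Nrm (W (four z u))) :
    g ∈ Nrm (W (four z u)) := by
  rw [mem_nrm_iff_cj]
  conv_lhs => rw [← h.W_e8 h8 hE]
  rw [h.hyp.cj_W h8.1, h.W_e8 (h8.cj g) hg]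

theorem nrm_le (h8 : E8 E) (hE : E ≤ Q) (hQ : Q ≤ Nrm (W (four z u))) :
    Nrm Q ≤ Nrm (W (four z u)) := fun _ hg =>
  h.mem_of_cj h8 (hE.trans hQ) (((cj_mono _ hE).trans (cj_of_mem_nrm hg).le).trans hQ)

theorem le_of_two (hR : IsPGroup 2 R) (h8 : E8 E) (hE : E ≤ R) (hM : E ≤ Nrm (W (four z u))) :
    R ≤ Nrm (W (four z u)) := by
  have := nil_eq_of_inf_nrm_le (nil_of_isPGroup Nat.prime_two hR)
    (A := R ⊓ Nrm (W (four z u))) inf_le_left
    (inf_le_inf_left _ (h.nrm_le h8 (le_inf hE hM) inf_le_right))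
  exact this.ge.trans inf_le_right

theorem inf_cent1 (ha : Good (Nrm (W (four z u))) a) (h1 : a ≠ 1) :
    W (four z u) ⊓ Cent1 a = th 2 a := by
  obtain ⟨E, h8, hE, haE⟩ := ha
  rw [← h.W_e8 h8 hE, h.hyp.W_inf h8 haE h1]

theorem th_le (ha : Good (Nrm (W (four z u))) a) (h1 : a ≠ 1) : th 2 a ≤ W (four z u) :=
  (h.inf_cent1 ha h1).ge.trans inf_le_left

theorem W_e4 (h4 : E4 V) (hg : ∀ v ∈ V, v ≠ 1 → Good (Nrm (W (four z u))) v) :
    W V = W (four z u) := by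
  refine le_antisymm (sc_le_iff.2 fun v hv h1 => h.th_le (hg v hv h1) h1)
    (H15.le_of_cent1 Nat.prime_two (H85.e2_iff.1 h4.1) h4.2 (fun v hv => ?_) h.pi fun v hv h1 =>
      (h.inf_cent1 (hg v hv h1) h1).le.trans (le_sc hv h1))
  by_cases h1 : v = 1
  · rw [h1]; exact one_mem _
  · exact (hg v hv h1).mem

theorem good_of_sylow (hall : ∀ t ∈ S, orderOf t = 2 → Good (Nrm (W (four z u))) t)
    (ht : t ∈ Nrm (W (four z u))) (h2 : orderOf t = 2) : Good (Nrm (W (four z u))) t := by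
  obtain ⟨m, hm, hle⟩ := sylow_cj_le Nat.prime_two h.sylM (two_zpowers h2) (zpowers_le.2 ht)
  have := (hall _ (hle (conj_mem_cj.2 (mem_zpowers t))) (by rw [orderOf_conj, h2])).conj (inv_mem hm)
  simpa [mul_assoc] using this

theorem nrm_le_of_good (hall : ∀ t ∈ S, orderOf t = 2 → Good (Nrm (W (four z u))) t)
    (h4 : E4 V) (hV : V ≤ Q) (hQ : Q ≤ Nrm (W (four z u))) : Nrm Q ≤ Nrm (W (four z u)) := by
  have key : ∀ {V : Subgroup G}, E4 V → V ≤ Q → W V = W (four z u) := fun h4 hV =>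
    h.W_e4 h4 fun v hv h1 => h.good_of_sylow hall (hQ (hV hv)) (h4.1.ord hv h1)
  intro n hn
  rw [mem_nrm_iff_cj]
  conv_lhs => rw [← key h4 hV]
  rw [h.hyp.cj_W h4.1, key (h4.cj n) ((cj_mono n hV).trans (cj_of_mem_nrm hn).le)]

theorem cent1_le (hall : ∀ t ∈ S, orderOf t = 2 → Good (Nrm (W (four z u))) t)
    (ht : t ∈ Nrm (W (four z u))) (h2 : orderOf t = 2) : Cent1 t ≤ Nrm (W (four z u)) := by
  have hg := h.good_of_sylow hall ht h2
  obtain ⟨E, h8, hE, htE⟩ := id hg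
  obtain ⟨R, hR, hER⟩ := exists_sylow_ge Nat.prime_two (e2_isPGroup h8.1) (e2_le_cent1 h8.1 htE)
  have hRM := h.le_of_two (hR.isPGroup Nat.prime_two) h8 hER hE
  obtain ⟨V, h4, hV⟩ := h.hyp.exists_e4 h2 hR h8 hER
  exact le_of_Op'_of_nrm Nat.prime_two hR ((h.th_le hg (ne_one_of_two h2)).trans le_nrm_self)
    (inf_le_right.trans (h.nrm_le_of_good hall h4 hV (inf_le_left.trans hRM)))

theorem stronglyEmbedded (hall : ∀ t ∈ S, orderOf t = 2 → Good (Nrm (W (four z u))) t)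
    (hne : Nrm (W (four z u)) ≠ ⊤) : IsStronglyEmbedded (Nrm (W (four z u))) := by
  have : Fact (Nat.Prime 2) := ⟨Nat.prime_two⟩
  refine H84.spe_two_iff.1 (H84.spe_iff_conj.2 ⟨hne, ⟨z, h.S_le h.nf.zR, h.nf.oz⟩,
    fun x hx h2 g hg => ?_⟩)
  obtain ⟨E, h8, hE, hxE⟩ := h.good_of_sylow hall hx h2
  refine h.mem_of_cj h8 hE (le_trans ?_ (h.cent1_le hall hg (by rw [orderOf_conj, h2])))
  exact e2_le_cent1 (h8.cj g).1 (conj_mem_cj.2 hxE)

theorem W_le_oddCore (hB : BenderO.{u})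
    (hall : ∀ t ∈ S, orderOf t = 2 → Good (Nrm (W (four z u))) t) : W (four z u) ≤ oddCore G := by
  have h1 : W (four z u) ≤ Op' 2 (Nrm (W (four z u))) := le_piCoreOf h.pi (normalIn_nrm _)
  rw [Op'_eq_pPrimeCore Nat.prime_two] at h1
  by_cases hne : Nrm (W (four z u)) = ⊤
  · refine h1.trans ?_
    rw [hne]
    exact (H14.opp_top (p := 2) (G := G)).le
  · exact h1.trans (hB _ (h.stronglyEmbedded hall hne))

theorem th_le_cj (hall : ∀ t ∈ S, orderOf t = 2 → Good (Nrm (W (four z u))) t)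
    (h2 : orderOf t = 2) : ∃ g, th 2 t ≤ cj g (W (four z u)) := by
  obtain ⟨g, -, hle⟩ := sylow_cj_le Nat.prime_two h.syl (two_zpowers h2) le_top
  have h3 : orderOf (g * t * g⁻¹) = 2 := by rw [orderOf_conj, h2]
  have := h.th_le (hall _ (hle (conj_mem_cj.2 (mem_zpowers t))) h3) (ne_one_of_two h3)
  rw [h.hyp.eqF.eqv t g h2] at this
  exact ⟨g⁻¹, cj_le_iff.1 this⟩

theorem th_eq_bot (hB : BenderO.{u}) (hO : oddCore G = ⊥)
    (hall : ∀ t ∈ S, orderOf t = 2 → Good (Nrm (W (four z u))) t) (h2 : orderOf t = 2) :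
    th 2 t = ⊥ := by
  obtain ⟨g, hg⟩ := h.th_le_cj hall h2
  rw [eq_bot_of_le (h.W_le_oddCore hB hall) hO, cj_bot] at hg
  exact eq_bot_iff.2 hg

theorem good_of_normal_e8 (hA : E8 A) (hAS : A ⊴ S) :
    ∀ t ∈ S, orderOf t = 2 → Good (Nrm (W (four z u))) t := fun t ht h2 => by
  obtain ⟨F, h8, htF, hF⟩ := exists_e8_of_normal_e8 hA (hAS.2 ht) (mul_self_of_two h2)
  exact ⟨F, h8, hF.trans ((sup_le hAS.1 (zpowers_le.2 ht)).trans h.S_le), htF⟩

theorem good_of_cent (ht : t ∈ S) (hu : t ∈ Cent1 u) (h2 : orderOf t = 2) : Good S t := by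
  obtain ⟨E, h8, hE⟩ := h.e8
  obtain ⟨F, hF8, hUF, hF⟩ := h.nf.exists_e8 hE h8
  by_cases htU : t ∈ four z u
  · exact ⟨F, hF8, hF.trans inf_le_left, hUF htU⟩
  · exact ⟨_, h.nf.e4.sup_zp (mul_self_of_two h2) (h.nf.inf_cent le_rfl ⟨ht, hu⟩) htU,
      sup_le h.nf.le (zpowers_le.2 ht), mem_sup_right (mem_zpowers t)⟩

theorem good_of_fourConnected (hc : IsFourConnected S) :
    ∀ t ∈ S, orderOf t = 2 → Good (Nrm (W (four z u))) t := fun t ht h2 => by
  refine Good.mono ?_ h.S_le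
  by_cases hu : t ∈ Cent1 u
  · exact h.good_of_cent ht hu h2
  have tz : t ≠ z := fun e => hu (e ▸ mem_cent1.2 h.nf.comm)
  have hzt : z * t = t * z := (mem_cent1.1 (h.nf.zc ht)).symm
  have hcard := card_four h.nf.zz (mul_self_of_two h2) hzt h.nf.z1 (ne_one_of_two h2) tz
  have h4 := e4_four h.nf.zz (mul_self_of_two h2) hzt h.nf.z1 (ne_one_of_two h2) tz
  have hle := four_le h.nf.zR ht
  have hK : ∀ {V : Subgroup G}, E2 V → Nat.card V = 4 → V ≤ S → IsKleinFour (V.subgroupOf S) :=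
    fun h1 h2 h3 => (h1.subgroupOf S).isKleinFour (by rw [card_subgroupOf h3, h2])
  have key : ∀ V : Subgroup S, Relation.ReflTransGen
      (fun A B : Subgroup S => IsKleinFour A ∧ IsKleinFour B ∧ ∀ a ∈ A, ∀ b ∈ B, a * b = b * a)
      ((four z t).subgroupOf S) V → V = (four z t).subgroupOf S ∨ Good S t := by
    intro V hV
    induction hV with
    | refl => exact Or.inl rfl
    | @tail B C _ hbc ih =>
      rcases ih with rfl | ih
      swap
      · exact Or.inr ih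
      have hC : E2 (C.map S.subtype) := (H85.E2.of_isKleinFour hbc.2.1).map _
      have hcomm : C.map S.subtype ≤ Cent (four z t) := by
        rintro _ ⟨c, hc, rfl⟩
        exact mem_cent.2 fun a ha => congrArg Subtype.val (hbc.2.2 ⟨a, hle ha⟩ ha c hc)
      rcases h4.eq_or_e8 (e2_sup h4.1 hC hcomm) le_sup_left with e | e
      · left
        rw [← eq_of_le_of_card_eq (le_sup_right.trans e.ge)
          (by rw [card_map_subtype, hbc.2.1.card_four, hcard]), subgroupOf_map_subtype_self]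
      · exact Or.inr ⟨_, e, sup_le hle (map_subtype_le C), mem_sup_left (right_mem_four z t)⟩
  rcases key _ (hc _ _ (hK h4.1 hcard hle) (hK h.nf.e4.1 h.nf.card h.nf.le)) with e | e
  · have : (⟨t, ht⟩ : S) ∈ (four z u).subgroupOf S := by
      rw [e]; exact right_mem_four z t
    exact absurd (e2_le_cent1 h.nf.e4.1 (right_mem_four z u) this) hu
  · exact e

end Setup

end H48
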