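/- the Dichotomy Theorem: the case without a normal subgroup of index two -/
import Cfsg.Agent.H48.Two3
import Cfsg.Agent.H8.TransferEval

open Cfsg hiding pRank
open Subgroup H46
open H85 (E2)
open scoped commutatorElement

namespace H48

universe u
variable {G : Type u} [Group G] {A B D E F H K L M N P Q R S T U V X Z : Subgroup G}
  {a b c g n t u v w x y z : G}

theorem qel_mem_cent1 (hx : x ∈ Nrm N) (hz : z ∈ Nrm N) (h : x ∈ Cent1 z) :
    qel N x ∈ Cent1 (qel N z) := by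
  rw [mem_cent1, ← mel_mul _ hx hz, ← mel_mul _ hz hx, mem_cent1.1 h]

variable [Finite G]

theorem exists_inv_of_two (hP : IsPGroup 2 P) (h1 : P ≠ ⊥) : ∃ t ∈ P, orderOf t = 2 :=
  haveI : Fact (Nat.Prime 2) := ⟨Nat.prime_two⟩
  H84.exists_orderOf_eq_of_isPGroup hP h1

theorem exists_sq_inv (hP : IsPGroup 2 P) (hc : c ∈ P) (h : c * c ≠ 1) :
    ∃ y ∈ zpowers c, orderOf (y * y) = 2 := by
  obtain ⟨_, ⟨i, rfl⟩, ht⟩ := exists_inv_of_two (hP.to_le (zpowers_le.2 (mul_mem hc hc)))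
    (ne_bot_of_mem (mem_zpowers _) h)
  exact ⟨c ^ i, ⟨i, rfl⟩, by rw [← (Commute.refl c).mul_zpow]; exact ht⟩

namespace Setup
variable (h : Setup S z u)
include h

theorem step1_core {W' : Subgroup G} (hW : IsPi {2}ᶜ W') (hz : W' ⊓ Cent1 z ≤ th 2 z)
    (hy : y ∈ Nrm W') (hyu : y ∈ Cent1 u) (hyz : y * y = z) : W' ⊓ Cent1 u ≤ th 2 u := by
  have hn : Cent1 u ≤ Nrm (th 2 u) := le_nrm_piCoreOf _ _
  have hzu : z ∈ Cent1 u := mem_cent1.2 h.nf.comm
  obtain ⟨R, hR, hTR⟩ := exists_sylow_ge Nat.prime_two (h.two.to_inf_left (K := Cent1 u))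
    inf_le_right
  have hi : Idx2 (S ⊓ Cent1 u) R := idx2_of_card hTR ((Nat.le_of_dvd (card_pos' S)
    (h.syl.card_dvd hR.isPi le_top)).trans h.nf.idx2.card_le)
  have hyX : y ∈ Nrm (W' ⊓ Cent1 u) := zpowers_le.1
    (nrm_inf (zpowers_le.2 hy) (nrm_of_le (zpowers_le.2 hyu)))
  rw [← quo_eq_bot_iff (inf_le_right.trans hn)]
  refine eq_bot_of_transvection (D := Cent1 u ⧸ₙ th 2 u) (piCoreOf_normalIn {2} _)
    (isPi_piCoreOf _ _) (con_quo Nat.prime_two (h.hyp.con u h.nf.ou)) (quo_mono _ inf_le_right)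
    (hW.inf_left.quo _) (y := qel (th 2 u) y) (z := qel (th 2 u) z) (mel_mem_nrm _ hyX)
    (by rw [← mel_mul _ (hn hyu) (hn hyu), hyz])
    (by rw [← mel_mul _ (hn hzu) (hn hzu), h.nf.zz, mel_one]) ?_ ?_
  · have hz2 : IsPi {2} (zpowers z) := isPi_of_isPGroup Nat.prime_two (two_zpowers h.nf.oz)
    rw [← cent_zpowers (qel _ z), ← quo_zpowers (hn hzu), ← coprime_norm_quotient_cent'
      (zpowers_le.2 (hyz ▸ mul_mem hyX hyX)) (zpowers_le.2 (hn hzu)) (hz2.coprime hW.inf_left)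
      (Or.inl hz2.sol), cent_zpowers]
    refine quo_eq_bot_of_le (le_trans ?_ (h.hyp.eqF.bal z u h.nf.oz h.nf.ou h.nf.comm))
    exact le_inf (le_trans (inf_le_inf_right _ inf_le_left) hz) (inf_le_left.trans inf_le_right)
  · intro q hq r hr hq' hr'
    obtain ⟨q, hqR, hqn, rfl⟩ := mem_quo.1 ((hR.quo hn).piCoreOf_le hq)
    obtain ⟨r, hrR, hrn, rfl⟩ := mem_quo.1 ((hR.quo hn).piCoreOf_le hr)
    have key : ∀ x ∈ S ⊓ Cent1 u, qel (th 2 u) x ∈ Cent1 (qel (th 2 u) z) := fun x hx =>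
      qel_mem_cent1 (hn hx.2) (hn hzu) (h.nf.zc hx.1)
    rw [← mel_mul _ hqn hrn]
    exact key _ (hi q hqR r hrR (fun e => hq' (key q e)) fun e => hr' (key r e))

theorem good_z : Good (Nrm (W (four z u))) z :=
  (h.good_of_cent h.nf.zR (mem_cent1.2 h.nf.comm) h.nf.oz).mono h.S_le

/-- Step 1: the centralizer of the central involution `z` normalizes `W` -/
theorem cent1_z_le : Cent1 z ≤ Nrm (W (four z u)) := by
  have nf := h.nf
  have hR : IsSylowOf 2 S (Cent1 z) := h.syl.of_le nf.zc le_top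
  refine le_of_Op'_of_nrm Nat.prime_two hR ((h.th_le h.good_z nf.z1).trans le_nrm_self) ?_
  set P := S ⊓ Op'p 2 (Cent1 z) with hPdef
  have hPS : P ≤ S := inf_le_left
  have hSP : S ≤ Nrm P := sylow_nrm_inf_Op'p Nat.prime_two hR.le
  rintro n ⟨hnz, hnP⟩
  by_contra hnM
  have key : ∀ X ≤ S, ⁅X, P⁆ ≤ zpowers z → X ≤ P := fun X hX =>
    le_inf_Op'p_of_commutator Nat.prime_two (h.hyp.con z nf.oz) hR
      (zpowers_le.2 (self_mem_cent1 z)) (cent_zpowers z).ge hX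
  have hU : four z u ≤ P := key _ nf.le ((commutator_mono le_rfl hPS).trans nf.commutator_le)
  have no8 : ∀ E, E8 E → ¬ E ≤ P := fun E h8 hE => hnM (h.nrm_le h8 hE (hPS.trans h.S_le) hnP)
  have hnz' : n * z * n⁻¹ = z := by rw [mem_cent1.1 hnz, mul_inv_cancel_right]
  have nf' := nf.cj n
  rw [hnz'] at nf'
  have hW' : cj n (W (four z u)) = W (four z (n * u * n⁻¹)) := by
    rw [h.hyp.cj_W nf.e4.1, cj_four, hnz']
  set u' := n * u * n⁻¹
  have hP' : P ≤ cj n S := (cj_of_mem_nrm hnP).ge.trans (cj_mono n hPS)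
  have huP : u ∈ P := hU (right_mem_four z u)
  have hu'P : u' ∈ P := conj_mem_of_mem_nrm hnP huP
  have hu' : u' ∉ Cent1 u := fun e => hnM (by
    rw [mem_nrm_iff_cj, hW']
    exact (h.hyp.W_eq_of_comm nf.e4 nf'.e4 (le_trans (four_le
      (mem_inf.2 ⟨nf.zR, mem_cent1.2 nf.comm⟩) (mem_inf.2 ⟨hPS hu'P, e⟩))
      (nf.inf_cent le_rfl))).symm)
  have hinv : ∀ t ∈ P, t ∈ Cent1 u → t * t = 1 → t ∈ four z u := fun t ht hu h2 => by
    by_contra htU
    exact no8 _ (nf.e4.sup_zp h2 (nf.inf_cent le_rfl ⟨hPS ht, hu⟩) htU)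
      (sup_le hU (zpowers_le.2 ht))
  have huu' : u ∉ Cent1 u' := fun e => hu' (mem_cent1_comm.1 e)
  have hzu : z ∈ Cent1 u := mem_cent1.2 nf.comm
  have hzu' : z ∈ Cent1 u' := mem_cent1.2 nf'.comm
  obtain ⟨y, hyP, hyu, hyz⟩ : ∃ y ∈ P, y ∈ Cent1 u ∧ y * y = z := by
    by_cases hc : P ⊓ Cent1 u ≤ four z u
    · exfalso
      obtain ⟨E, h8, hE⟩ := h.e8
      obtain ⟨F, hF8, hUF, hF⟩ := nf.exists_e8 hE h8
      obtain ⟨e, he, heU⟩ := hF8.exists_notMem nf.card.le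
      have heS : e ∈ S := (hF he).1
      have heu : e ∈ Cent1 u := (hF he).2
      have hd : e * u' * e⁻¹ * u'⁻¹ ∈ zpowers z := by
        have h1 : e * u' * e⁻¹ ∈ P := conj_mem_of_mem_nrm (hSP heS) hu'P
        have h2 : e * u' * e⁻¹ ∉ Cent1 u := fun e' => hu' (by
          simpa [mul_assoc] using mul_mem (mul_mem (inv_mem heu) e') heu)
        have h3 := hc (mem_inf.2 ⟨mul_mem h1 (inv_mem hu'P),
          nf.idx2 _ (hPS h1) _ (hPS (inv_mem hu'P)) h2 (by rwa [inv_mem_iff])⟩)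
        have h4 : ∀ d, NF S z d → u' ∉ Cent1 d → e * u' * e⁻¹ * u'⁻¹ ≠ d := fun d hd hd' e' => by
          have h5 : e * u' * e⁻¹ = d * u' := by rw [← e', inv_mul_cancel_right]
          refine nf.z1 ?_
          calc z = d * (u' * d * u'⁻¹) := by
                rw [hd.conj_of_notMem (hPS hu'P) hd', ← mul_assoc, hd.uu, one_mul]
            _ = d * u' * (d * u') := by rw [inv_of_sq nf'.uu]; group
            _ = e * (u' * u') * e⁻¹ := by rw [← h5]; group
            _ = 1 := by rw [nf'.uu]; group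
        rw [mem_zp2 nf.zz]
        rcases nf.mem.1 h3 with e' | e' | e' | e'
        · exact Or.inl e'
        · exact Or.inr e'
        · exact absurd e' (h4 u nf hu')
        · refine absurd e' (h4 _ nf.swap fun e'' => huu' ?_)
          exact (mul_mem_cancel_right hzu').1 (mem_cent1_comm.1 e'')
      refine heU (hc ⟨key (zpowers e) (zpowers_le.2 heS) ?_ (mem_zpowers e), heu⟩)
      rw [Subgroup.commutator_le]
      intro a ha x hx
      rcases (mem_zp2 (hF8.1 e he)).1 ha with rfl | rfl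
      · simp
      by_cases hxu : x ∈ Cent1 u
      · rw [commutatorElement_def, hF8.1.comm he (hUF (hc ⟨hx, hxu⟩))]
        simp
      · have h1 : u'⁻¹ * x ∈ four z u := hc (mem_inf.2 ⟨mul_mem (inv_mem hu'P) hx,
          nf.idx2 _ (hPS (inv_mem hu'P)) _ (hPS hx) (by rwa [inv_mem_iff]) hxu⟩)
        have h2 := hF8.1.comm he (hUF h1)
        have : ⁅a, x⁆ = a * u' * a⁻¹ * u'⁻¹ := by
          calc ⁅a, x⁆ = a * u' * a⁻¹ * (a * (u'⁻¹ * x)) * a⁻¹ * x⁻¹ := by
                rw [commutatorElement_def]; group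
            _ = _ := by rw [h2]; group
        rwa [this]
    · obtain ⟨c, hc, hcU⟩ := SetLike.not_le_iff_exists.1 hc
      obtain ⟨c, hc, hcu, hcu', hcU⟩ : ∃ c ∈ P, c ∈ Cent1 u ∧ c ∈ Cent1 u' ∧ c ∉ four z u := by
        by_cases e : c ∈ Cent1 u'
        · exact ⟨c, hc.1, hc.2, e, hcU⟩
        · exact ⟨c * u, mul_mem hc.1 huP, mul_mem hc.2 (self_mem_cent1 u),
            nf'.idx2 _ (hP' hc.1) _ (hP' huP) e huu',
            fun e' => hcU ((mul_mem_cancel_right (right_mem_four z u)).1 e')⟩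
      obtain ⟨y, hy, h2⟩ := exists_sq_inv (h.two.to_le hPS) hc fun e => hcU (hinv c hc hcu e)
      have hy1 := zpowers_le.2 hc hy
      have hy2 := zpowers_le.2 hcu hy
      have hy3 := zpowers_le.2 hcu' hy
      refine ⟨y, hy1, hy2, ?_⟩
      rcases nf.mem.1 (hinv _ (mul_mem hy1 hy1) (mul_mem hy2 hy2) (mul_self_of_two h2)) with
        e | e | e | e
      · exact absurd e (ne_one_of_two h2)
      · exact e
      · exact absurd (e ▸ mul_mem hy3 hy3) huu'
      · exact absurd ((mul_mem_cancel_right hzu').1 (e ▸ mul_mem hy3 hy3)) huu'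
  have hPW : P ≤ Nrm (cj n (W (four z u))) := by
    rw [← cj_nrm]; exact hP'.trans (cj_mono n h.S_le)
  have hz : cj n (W (four z u)) ⊓ Cent1 z ≤ th 2 z := by
    have := congrArg (cj n) (h.inf_cent1 h.good_z nf.z1)
    rw [cj_inf, cj_cent1, ← h.hyp.eqF.eqv z n nf.oz, hnz'] at this
    exact this.le
  refine hnM (mem_nrm_of_cj_le (H15.le_of_cent1 Nat.prime_two (H85.e2_iff.1 nf.e4.1) nf.e4.2
    (hU.trans hPW) (h.pi.cj n) fun v hv h1 => le_trans ?_ (le_sc hv h1)))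
  rcases nf.mem.1 hv with rfl | rfl | rfl | rfl
  · exact absurd rfl h1
  · exact hz
  · exact h.step1_core (h.pi.cj n) hz (hPW hyP) hyu hyz
  · refine h.swap.step1_core (h.pi.cj n) hz (hPW hyP) ?_ hyz
    exact mem_cent1_comm.1 (mul_mem (mem_cent1_comm.1 hyu) (mem_cent1_comm.1 (nf.zc (hPS hyP))))

theorem step2_core (hO2 : ∀ N : Subgroup G, N.Normal → N.index ≠ 2) (ha : a ∈ S)
    (h2 : orderOf a = 2) (hg : ¬ Good (Nrm (W (four z u))) a)
    (hD : IsSylowOf 2 (S ⊓ Cent1 a) (Nrm (W (four z u)) ⊓ Cent1 a)) : False := by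
  have nf := h.nf
  have aa := mul_self_of_two h2
  have hau : a ∉ Cent1 u := fun e => hg ((h.good_of_cent ha e h2).mono h.S_le)
  have hzu : z ∈ Cent1 u := mem_cent1.2 nf.comm
  obtain ⟨g, hgT⟩ : ∃ g : G, g * a * g⁻¹ ∈ S ⊓ Cent1 u := by
    by_contra hc
    push Not at hc
    obtain ⟨N, hN, hi, -⟩ := H8.thompson_transfer S (S ⊓ Cent1 u) (by
      have := h.syl.not_dvd Nat.prime_two
      rw [relIndex_top_right] at this
      exact Nat.odd_iff.2 (by omega)) (nf.idx2.inf.relIndex_eq_two ha fun e => hau e.2) a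
      (by rw [sq, aa]) hc
    exact hO2 N hN hi
  obtain ⟨F, hF8, -, haF⟩ := h.good_of_cent hgT.1 hgT.2 (by rw [orderOf_conj, h2])
  have haF' : a ∈ cj g⁻¹ F := by rw [mem_cj, inv_inv]; exact haF
  have hF8' := hF8.cj g⁻¹
  obtain ⟨R, hR, hDR⟩ := exists_sylow_ge Nat.prime_two (h.two.to_inf_left (K := Cent1 a))
    inf_le_right
  have hlt : S ⊓ Cent1 a < R := lt_of_le_of_ne hDR fun e => by
    obtain ⟨c, hc, hle⟩ := sylow_cj_le Nat.prime_two hR (e2_isPGroup hF8'.1)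
      (e2_le_cent1 hF8'.1 haF')
    refine hg ⟨_, hF8'.cj c, (hle.trans e.ge).trans (inf_le_left.trans h.S_le), ?_⟩
    have := (conj_mem_cj (g := c)).2 haF'
    rwa [mem_cent1.1 hc, mul_inv_cancel_right] at this
  obtain ⟨y, ⟨hyR, hyD⟩, hy⟩ := SetLike.exists_of_lt (nil_lt_inf_nrm hR.isPi.nil hlt)
  have hyz : y ∉ Cent1 z := fun e => hy (by
    rw [← hD.eq_of_le (L := R ⊓ Nrm (W (four z u))) hR.isPi.inf_left
      (le_inf hDR (inf_le_left.trans h.S_le)) (le_inf inf_le_right (inf_le_left.trans hR.le))]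
    exact ⟨hyR, h.cent1_z_le e⟩)
  have hza : z * a = a * z := (mem_cent1.1 (nf.zc ha)).symm
  have az : a ≠ z := fun e => hau (e ▸ hzu)
  have h4 := e4_four nf.zz aa hza nf.z1 (ne_one_of_two h2) az
  have hV : four z a ≤ S ⊓ Cent1 a := four_le ⟨nf.zR, mem_cent1.2 hza⟩ ⟨ha, self_mem_cent1 a⟩
  have hinv : ∀ t ∈ S ⊓ Cent1 a, t ∈ Cent1 u → orderOf t = 2 → t = z := fun t ht hu ht2 => by
    have : t ∈ four z a := by
      by_contra htV
      refine hg ⟨_, h4.sup_zp (mul_self_of_two ht2) ?_ htV, (sup_le (hV.trans inf_le_left)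
        (zpowers_le.2 ht.1)).trans h.S_le, mem_sup_left (right_mem_four z a)⟩
      rw [cent_four]; exact ⟨nf.zc ht.1, ht.2⟩
    rcases (mem_four nf.zz aa hza).1 this with e | e | e | e
    · exact absurd e (ne_one_of_two ht2)
    · exact e
    · exact absurd (e ▸ hu) hau
    · exact absurd ((mul_mem_cancel_right hzu).1 (e ▸ hu)) hau
  have hi : Idx2 (Cent1 u) (S ⊓ Cent1 a) := nf.idx2.of_le inf_le_left
  have hi' := hi.cj y
  rw [cj_of_mem_nrm hyD] at hi'
  have hbot : S ⊓ Cent1 a ⊓ Cent1 u ⊓ cj y (Cent1 u) = ⊥ := by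
    by_contra hne
    obtain ⟨t, ht, ht2⟩ := exists_inv_of_two (h.two.to_inf_left.to_inf_left.to_inf_left) hne
    have e1 := hinv t ht.1.1 ht.1.2 ht2
    have e2 := hinv _ (conj_mem_of_mem_nrm' hyD ht.1.1) (mem_cj.1 ht.2)
      (by have := orderOf_conj y⁻¹ t; rw [inv_inv] at this; rw [this, ht2])
    rw [e1, mul_assoc, inv_mul_eq_iff_eq_mul] at e2
    exact hyz (mem_cent1.2 e2.symm)
  have c1 := hi.card_le
  have c2 := (hi'.of_le (R := S ⊓ Cent1 a ⊓ Cent1 u) inf_le_left).card_le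
  rw [hbot, card_bot] at c2
  have c3 := h4.2.trans (card_le_of_le hV)
  obtain ⟨E, h8, hE⟩ := h.e8
  exact not_e8_of_card_cent1 h.two ha (by omega) hE h8

theorem good_of_no_index_two (hO2 : ∀ N : Subgroup G, N.Normal → N.index ≠ 2) :
    ∀ t ∈ S, orderOf t = 2 → Good (Nrm (W (four z u))) t := fun t ht h2 => by
  by_contra hg
  obtain ⟨D, hD, htD⟩ := exists_sylow_ge Nat.prime_two (two_zpowers h2)
    (K := Nrm (W (four z u)) ⊓ Cent1 t) (zpowers_le.2 ⟨h.S_le ht, self_mem_cent1 t⟩)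
  obtain ⟨m, hm, hle⟩ := sylow_cj_le Nat.prime_two h.sylM (hD.isPGroup Nat.prime_two)
    (hD.le.trans inf_le_left)
  have hD' := hD.cj m
  rw [cj_inf, cj_of_mem hm, cj_cent1] at hD'
  refine h.step2_core hO2 (hle (conj_mem_cj.2 (htD (mem_zpowers t)))) (by rw [orderOf_conj, h2])
    (fun e => hg ?_) (hD'.of_ge h.syl.isPi.inf_left (le_inf hle (hD'.le.trans inf_le_right))
      (inf_le_inf_right _ h.S_le))
  simpa [mul_assoc] using e.conj (inv_mem hm)

end Setup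

end H48
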