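/- the Dichotomy Theorem and related rows, conditional on SFT, FT and Bender -/
import Cfsg.Agent.H48.Two4
import Cfsg.Agent.S1292

open Cfsg hiding pRank
open Subgroup H46
open H85 (E2)

namespace H48

universe u
variable {G : Type u} [Group G] [Finite G] {A B E S V : Subgroup G} {a b t u z : G}

theorem sol_th_of_FT (hF : H84.FTThm.{u}) (t : G) : Group.IsSolvable (th 2 t) := by
  have : ¬ 2 ∣ Nat.card (th 2 t) :=
    (isPi_compl_singleton Nat.prime_two).1 (isPi_piCoreOf {2}ᶜ (Cent1 t))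
  exact hF (Nat.odd_iff.2 (by omega))

theorem hyp2_of_not_componentType (hS : SFT.{u}) (hF : H84.FTThm.{u}) (hc : ¬ IsComponentType G) :
    Hyp2 G :=
  ⟨hS, fun t _ => sol_th_of_FT hF t, fun t ht =>
    con_of_not_hasComponent Nat.prime_two fun e => hc ⟨t, ht, e⟩⟩

omit [Finite G] in
theorem nrm_zpowers_two (ht : orderOf t = 2) : Nrm (zpowers t) = Cent1 t := by
  refine le_antisymm (fun g hg => ?_) (cent1_le_nrm_zpowers t)
  rcases (mem_zp2 (mul_self_of_two ht)).1 (conj_mem_of_mem_nrm hg (mem_zpowers t)) with e | e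
  · exact absurd e (conj_ne_one (ne_one_of_two ht) g)
  · exact mem_cent1.2 (mul_inv_eq_iff_eq_mul.1 e)

theorem hyp2_of_locals (hS : SFT.{u}) (hF : H84.FTThm.{u})
    (h2c : ∀ T : Subgroup G, IsPGroup 2 T → T ≠ ⊥ → IsPConstrained 2 (Nrm T)) : Hyp2 G :=
  ⟨hS, fun t _ => sol_th_of_FT hF t, fun t ht => by
    rw [← nrm_zpowers_two ht]
    exact h2c _ (two_zpowers ht) (ne_bot_of_mem (mem_zpowers t) (ne_one_of_two ht))⟩

theorem hyp2_of_solvable (hS : SFT.{u})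
    (hs : ∀ t : G, orderOf t = 2 → Group.IsSolvable (Cent1 t)) : Hyp2 G :=
  ⟨hS, fun t ht => sol_of_le (hs t ht) (piCoreOf_le _ _), fun t ht =>
    con_of_solvable Nat.prime_two (hs t ht)⟩

theorem Hyp2.charTwo (h : Hyp2 G) (he : Even (Nat.card G))
    (h1 : ∀ t : G, orderOf t = 2 → th 2 t = ⊥) : IsCharacteristicTwoType G :=
  haveI : Fact (Nat.Prime 2) := ⟨Nat.prime_two⟩
  ⟨he, fun T hT hT1 => H14.fstar_eq_pCore_iff_centralizer.1 (Cfsg.Agent.S1292.result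
    (fun t ht => charP_of_con Nat.prime_two (h.con t ht) (h1 t ht)) T hT hT1)⟩

theorem sylow_top (S : Sylow 2 G) : IsSylowOf 2 (S : Subgroup G) ⊤ :=
  haveI : Fact (Nat.Prime 2) := ⟨Nat.prime_two⟩
  isSylowOf_top S

theorem s1296 (hS : SFT.{u}) (hF : H84.FTThm.{u}) (hB : BenderO.{u}) {G : Type u} [Group G] [Finite G] (heven : Even (Nat.card G)) (hO2 : ∀ N : Subgroup G, N.Normal → N.index ≠ 2) (hO : Cfsg.oddCore G = ⊥) : Cfsg.PRankLE 2 2 G ∨ Cfsg.IsComponentType G ∨ Cfsg.IsCharacteristicTwoType G := by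
  by_cases h3 : PRankLE 2 2 G
  · exact Or.inl h3
  by_cases hc : IsComponentType G
  · exact Or.inr (Or.inl hc)
  have h := hyp2_of_not_componentType hS hF hc
  obtain ⟨E, h8⟩ := exists_e8_of_not_pRankLE_top h3
  obtain ⟨S, hSy⟩ := exists_sylow Nat.prime_two (⊤ : Subgroup G)
  obtain ⟨z, u, hs⟩ := exists_setup h hSy h8
  exact Or.inr (Or.inr (h.charTwo heven fun t ht =>
    hs.th_eq_bot hB hO (hs.good_of_no_index_two hO2) ht))

theorem s0504 (hS' : SFT.{u}) (hF : H84.FTThm.{u}) (hB : BenderO.{u}) {G : Type u} [Group G] [Finite G]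
    (h3 : ¬ Cfsg.PRankLE 2 2 G) (hO : Cfsg.oddCore G = ⊥) (hc : ¬ Cfsg.IsComponentType G) (S : Sylow 2 G)
    (hS : Cfsg.IsFourConnected (S : Subgroup G)) : Cfsg.IsCharacteristicTwoType G := by
  have h := hyp2_of_not_componentType hS' hF hc
  obtain ⟨E, h8⟩ := exists_e8_of_not_pRankLE_top h3
  obtain ⟨z, u, hs⟩ := exists_setup h (sylow_top S) h8
  refine h.charTwo ?_ fun t ht => hs.th_eq_bot hB hO (hs.good_of_fourConnected hS) ht
  rw [even_iff_two_dvd, ← hs.nf.oz]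
  exact orderOf_dvd_natCard z

theorem exists_normal_e8 (hA : A ⊴ S) (hc : IsMulCommutative A) (h3 : ¬ PRankLE 2 2 A) :
    ∃ B, E8 B ∧ B ⊴ S := by
  obtain ⟨E, h8, hE⟩ := exists_e8_of_not_pRankLE h3
  exact ⟨omegaOne 2 A, h8.mono (H85.e2_iff.2 (elem_omegaOne_of_comm 2 hc))
    (elem_le_omegaOne hE (H85.e2_iff.1 h8.1)), hA.omegaOne 2⟩

theorem exists_normal_e8' (A : Subgroup S) (hAn : A.Normal) (hc : IsMulCommutative A)
    (h3 : ¬ PRankLE 2 2 A) : ∃ B, E8 B ∧ B ⊴ S := by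
  refine exists_normal_e8 (normalIn_map_subtype hAn) (Subgroup.map_isMulCommutative _ _) ?_
  rwa [← H50.lt_pRank_iff Nat.prime_two, H50.pRank_map_subtype, H50.lt_pRank_iff Nat.prime_two]

theorem s3109 (hS : SFT.{u}) (hF : H84.FTThm.{u}) (hB : BenderO.{u}) {G : Type u} [Group G] [Finite G] [IsSimpleGroup G]
    (h2c : ∀ T : Subgroup G, IsPGroup 2 T → T ≠ ⊥ → Cfsg.IsPConstrained 2 ↥(Subgroup.normalizer (T : Set G)))
    (S : Sylow 2 G) (A : Subgroup ↥(S : Subgroup G)) (hAn : A.Normal) (hAab : IsMulCommutative ↥A)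
    (hA3 : ¬ Cfsg.PRankLE 2 2 ↥A) :
    ∀ t : G, orderOf t = 2 → Cfsg.centralizerPPrimeCore 2 t = ⊥ := fun t ht => by
  obtain ⟨B, h8, hBS⟩ := exists_normal_e8' A hAn hAab hA3
  obtain ⟨z, u, hs⟩ := exists_setup (hyp2_of_locals hS hF h2c) (sylow_top S) h8
  rw [centralizerPPrimeCore_eq Nat.prime_two]
  exact hs.th_eq_bot hB (H84.oddCore_eq_bot_of_simple ht) (hs.good_of_normal_e8 h8 hBS) ht

theorem s3332 (hS : SFT.{u}) (hB : BenderO.{u}) {G : Type u} [Group G] [Finite G]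
    (hO : Cfsg.oddCore G = ⊥) (S : Sylow 2 G)
    (A : Subgroup G) (hAS : A ≤ S) (hAn : (A.subgroupOf S).Normal) (hAc : IsMulCommutative A)
    (hA3 : ¬ Cfsg.PRankLE 2 2 A)
    (hsol : ∀ t : G, orderOf t = 2 → Group.IsSolvable (Subgroup.centralizer ({t} : Set G))) :
    ∀ t : G, orderOf t = 2 → Cfsg.oddCore (Subgroup.centralizer ({t} : Set G)) = ⊥ := fun t ht => by
  obtain ⟨B, h8, hBS⟩ := exists_normal_e8 (normalIn_iff.2 ⟨hAS, hAn⟩) hAc hA3
  obtain ⟨z, u, hs⟩ := exists_setup (hyp2_of_solvable hS hsol) (sylow_top S) h8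
  have := hs.th_eq_bot hB hO (hs.good_of_normal_e8 h8 hBS) ht
  rwa [th, Op'_eq_pPrimeCore Nat.prime_two,
    Subgroup.map_eq_bot_iff_of_injective _ (Subgroup.subtype_injective _)] at this

theorem Hyp2.th_le_th (h : Hyp2 G) (hb : IsPGroup 2 (zpowers b)) (h1 : b ≠ 1) :
    ∃ t ∈ zpowers b, orderOf t = 2 ∧ th 2 b ≤ th 2 t := by
  obtain ⟨t, ht, h2⟩ := exists_inv_of_two hb (ne_bot_of_mem (mem_zpowers b) h1)
  have h3 := cent1_le_of_mem_zpowers ht
  have := Op'_inf_cent_of_con Nat.prime_two (h.con t h2) hb (zpowers_le.2 (h3 (self_mem_cent1 b)))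
  rw [cent_zpowers, inf_of_le_right h3] at this
  exact ⟨t, ht, h2, this.le.trans inf_le_left⟩

theorem s3110 (hS : SFT.{u}) (hF : H84.FTThm.{u}) {G : Type u} [Group G] [Finite G]
    (h2c : ∀ T : Subgroup G, IsPGroup 2 T → T ≠ ⊥ → Cfsg.IsPConstrained 2 ↥(Subgroup.normalizer (T : Set G)))
    (S : Sylow 2 G) (A : Subgroup ↥(S : Subgroup G)) (hAn : A.Normal) (hAab : IsMulCommutative ↥A)
    (hA3 : ¬ Cfsg.PRankLE 2 2 ↥A) (S' : Sylow 2 G) :
    ∃ W : Subgroup G, Odd (Nat.card ↥W) ∧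
      ∀ B : Subgroup G, B ≤ (S' : Subgroup G) → ¬ Cfsg.PRankLE 2 1 ↥B →
        W = (⨆ b : {b : G // b ∈ B ∧ b ≠ 1}, Cfsg.centralizerPPrimeCore 2 (b : G)) ∧
        Subgroup.normalizer (B : Set G) ≤ Subgroup.normalizer (W : Set G) := by
  obtain ⟨B, h8, hBS⟩ := exists_normal_e8' A hAn hAab hA3
  obtain ⟨g, -, hg⟩ := sylow_trans Nat.prime_two (sylow_top S) (sylow_top S')
  have hBS' := hBS.cj g
  rw [← hg] at hBS'
  obtain ⟨z, u, hs⟩ := exists_setup (hyp2_of_locals hS hF h2c) (sylow_top S') h8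
  have hall := hs.good_of_normal_e8 (h8.cj g) hBS'
  refine ⟨W (four z u), ?_, fun C hC h2 => ?_⟩
  · have := (isPi_compl_singleton Nat.prime_two).1 hs.pi
    exact Nat.odd_iff.2 (by omega)
  obtain ⟨V, h4, hV⟩ := exists_e4_of_not_pRankLE h2
  refine ⟨le_antisymm ?_ (iSup_le ?_), hs.nrm_le_of_good hall h4 hV (hC.trans hs.S_le)⟩
  · rw [← hs.W_e4 h4 fun v hv h1 => hall v (hC (hV hv)) (h4.1.ord hv h1), sc_le_iff]
    intro v hv h1
    rw [th, ← centralizerPPrimeCore_eq Nat.prime_two]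
    exact le_iSup (fun b : {b : G // b ∈ C ∧ b ≠ 1} => centralizerPPrimeCore 2 (b : G))
      ⟨v, hV hv, h1⟩
  · rintro ⟨b, hb, h1⟩
    have hbS := zpowers_le.2 (hC hb)
    obtain ⟨t, ht, h2, hle⟩ := hs.hyp.th_le_th (hs.two.to_le hbS) h1
    rw [centralizerPPrimeCore_eq Nat.prime_two]
    exact hle.trans (hs.th_le (hall t (hbS ht) h2) (ne_one_of_two h2))

end H48
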