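/- S3189 conditional on SFT and Bender's theorem S0222 -/
import Cfsg.Agent.H48.DichRows
import Cfsg.Agent.H87.Simple
import Cfsg.Agent.H4.ClassMisc
import Cfsg.Agent.S0280
import Cfsg.Agent.H88.Moebius
import Cfsg.Agent.H88.SE

open Cfsg hiding pRank
open Subgroup H46
open H85 (E2)

namespace H48

universe u

/-- the statement S0222 (Bender's theorem for simple groups) -/
def BenderS : Prop :=
  ∀ {G : Type u} [Group G] [Finite G] [IsSimpleGroup G] (_ : ∃ a b : G, a * b ≠ b * a) (H : Subgroup G) (_ : Cfsg.IsStronglyEmbedded H), (∃ (F : Type) (_ : Field F) (_ : Fintype F), CharP F 2 ∧ 4 ≤ Fintype.card F ∧ Nonempty (G ≃* Matrix.ProjectiveSpecialLinearGroup (Fin 2) F)) ∨ Cfsg.IsSuzuki G ∨ (∃ (F : Type) (_ : Field F) (_ : Fintype F) (q : ℕ), Fintype.card F = q ^ 2 ∧ Even q ∧ 4 ≤ q ∧ Nonempty (G ≃* Cfsg.PSU 3 F q))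

variable {G : Type u} [Group G] [Finite G] {A B E H S V : Subgroup G} {a b t u z : G}

theorem card_eq_504 (hB : BenderS.{u}) [IsSimpleGroup G] (hna : ¬ IsMulCommutative G)
    (hH : IsStronglyEmbedded H) (h8 : 8 ∣ Nat.card G) (h16 : ¬ 16 ∣ Nat.card G) :
    Nat.card G = 504 := by
  have hna' : ∃ a b : G, a * b ≠ b * a := by
    by_contra h
    push Not at h
    exact hna ⟨⟨h⟩⟩
  rcases hB hna' H hH with ⟨F, _, _, hc, h4, ⟨e⟩⟩ | ⟨-, m, hm, hc⟩ | ⟨F, _, _, q, hq, he, h4, ⟨e⟩⟩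
  · obtain ⟨n, -, hn⟩ := FiniteField.card F 2
    have hev : Even (Fintype.card F) := by rw [hn]; exact (Nat.even_pow.2 ⟨even_two, n.ne_zero⟩)
    rw [Nat.card_congr e.toEquiv, H88.card_psl_two_of_even hev] at h8 h16 ⊢
    have hodd : Odd (Fintype.card F ^ 2 - 1) :=
      Nat.Even.sub_odd (Nat.one_le_pow _ _ (by omega)) (Nat.even_pow.2 ⟨hev, two_ne_zero⟩) odd_one
    have h1 : 2 ^ 3 ∣ Fintype.card F := (Nat.Coprime.pow_left 3
      (Nat.coprime_two_left.2 hodd)).dvd_of_dvd_mul_right h8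
    have h2 : ¬ 2 ^ 4 ∣ Fintype.card F := fun h => h16 (h.mul_right _)
    rw [hn, Nat.pow_dvd_pow_iff_le_right one_lt_two] at h1 h2
    rw [hn, show (n : ℕ) = 3 by omega]
    norm_num
  · refine absurd ?_ h16
    rw [hc, ← pow_mul, mul_assoc]
    exact ((Nat.pow_dvd_pow 2 (by omega : 4 ≤ (2 * m + 1) * 2))).mul_right _
  · refine absurd ?_ h16
    obtain ⟨p, hp⟩ := CharP.exists F
    obtain ⟨n, hp', hn⟩ := FiniteField.card F p
    have h2 : p = 2 := by
      have : 2 ∣ p ^ (n : ℕ) := by rw [← hn, hq]; exact he.two_dvd.trans (dvd_pow_self q two_ne_zero)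
      exact ((Nat.prime_dvd_prime_iff_eq Nat.prime_two hp').1 (Nat.prime_two.dvd_of_dvd_pow this)).symm
    subst h2
    obtain ⟨j, -, rfl⟩ := (Nat.dvd_prime_pow Nat.prime_two).1
      (show q ∣ 2 ^ (n : ℕ) by rw [← hn, hq]; exact dvd_pow_self q two_ne_zero)
    have hj : 2 ≤ j := (Nat.pow_le_pow_iff_right one_lt_two).1 h4
    have h1 := Cfsg.Agent.S0280.result hq 3 (by norm_num)
    have hodd : Odd (2 ^ j + 1) := he.add_one
    have h3 : 2 ^ 4 ∣ Nat.gcd 3 (2 ^ j + 1) * ((2 ^ j + 1) * Nat.card (PSU 3 F (2 ^ j))) := by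
      rw [h1, ← pow_mul]
      exact (Nat.pow_dvd_pow 2 (by omega)).mul_right _
    rw [Nat.card_congr e.toEquiv]
    exact (Nat.Coprime.pow_left 4 (Nat.coprime_two_left.2 hodd)).dvd_of_dvd_mul_left
      ((Nat.Coprime.pow_left 4 (Nat.coprime_two_left.2
        (hodd.of_dvd_nat (Nat.gcd_dvd_right _ _)))).dvd_of_dvd_mul_left h3)

theorem Hyp2.cent1_le_nrm_of_comm (h : Hyp2 G) (hS : IsSylowOf 2 S ⊤) (hc : IsMulCommutative S)
    (ht : t ∈ S) (h2 : orderOf t = 2) (h1 : th 2 t = ⊥) : Cent1 t ≤ Nrm S := by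
  have hR : IsSylowOf 2 S (Cent1 t) :=
    hS.of_le ((comm_iff_le_cent.1 hc).trans (cent_le_cent1 ht)) le_top
  have e := Op'_sup_sylow Nat.prime_two (sylow_inf_Op'p Nat.prime_two hR)
  rw [show Op' 2 (Cent1 t) = ⊥ from h1, bot_sup_eq] at e
  have h3 : Op'p 2 (Cent1 t) ≤ S := e.ge.trans inf_le_left
  have h4 := con_le Nat.prime_two (h.con t h2) hR.le
    ((commutator_eq_bot_iff.2 ((comm_iff_le_cent.1 hc).trans (cent_anti h3))).le.trans bot_le)
  rw [le_antisymm h4 h3]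
  exact (Op'p_normalIn Nat.prime_two _).2

theorem Hyp2.se_nrm_of_comm (h : Hyp2 G) (hS : IsSylowOf 2 S ⊤) (hc : IsMulCommutative S)
    (hne : Nrm S ≠ ⊤) (hz : z ∈ S) (hz2 : orderOf z = 2)
    (h1 : ∀ t : G, orderOf t = 2 → th 2 t = ⊥) : IsStronglyEmbedded (Nrm S) := by
  have hS' : IsSylowOf 2 S (Nrm S) := hS.of_le le_nrm_self le_top
  have key : ∀ x ∈ Nrm S, orderOf x = 2 → x ∈ S := fun x hx h2 =>
    zpowers_le.1 (hS'.le_of_normal le_rfl (isPi_of_isPGroup Nat.prime_two (two_zpowers h2))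
      (zpowers_le.2 hx))
  refine (H88.isStronglyEmbedded_iff _).2 ⟨hne, ⟨z, le_nrm_self hz, hz2⟩, fun x hx h2 g hg => ?_⟩
  have h3 : orderOf (g * x * g⁻¹) = 2 := by rw [orderOf_conj, h2]
  refine mem_nrm_of_cj_le (hS'.le_of_normal le_rfl (hS.isPi.cj g) (le_trans ?_
    (h.cent1_le_nrm_of_comm hS hc (key _ hg h3) h3 (h1 _ h3))))
  rw [← cj_cent1]
  exact cj_mono g ((comm_iff_le_cent.1 hc).trans (cent_le_cent1 (key x hx h2)))

theorem s3189 (hS' : SFT.{u}) (hB : BenderS.{u}) {G : Type u} [Group G] [Finite G]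
    [IsSimpleGroup G] (hG : ¬ IsMulCommutative G) (S : Sylow 2 G)
    (hS : Cfsg.IsElementaryAbelian 2 (S : Subgroup G)) (hS8 : Nat.card ↥(S : Subgroup G) = 8)
    (hC : ∀ t : G, orderOf t = 2 → Group.IsSolvable ↥(Subgroup.centralizer ({t} : Set G))) :
    (Subgroup.centralizer ((S : Subgroup G) : Set G)).relIndex (Subgroup.normalizer ((S : Subgroup G) : Set G)) = 7 := by
  have : Fact (Nat.Prime 2) := ⟨Nat.prime_two⟩
  have h8 : E8 (S : Subgroup G) := ⟨H85.e2_iff.2 hS, hS8.ge⟩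
  have hSy := sylow_top S
  obtain ⟨z, u, hs⟩ := exists_setup (hyp2_of_solvable hS' hC) hSy h8
  have hall := hs.good_of_normal_e8 h8 (NormalIn.refl _)
  have hne : Nrm (S : Subgroup G) ≠ ⊤ := fun e => by
    rcases (normalizer_eq_top_iff.1 e).eq_bot_or_eq_top with e | e
    · exact hs.nf.z1 (by simpa [e] using hs.nf.zR)
    · exact hG ⟨⟨fun a b => h8.1.comm (by simp [e]) (by simp [e])⟩⟩
  obtain ⟨H, hH⟩ : ∃ H : Subgroup G, IsStronglyEmbedded H := by
    by_cases hM : Nrm (W (four z u)) = ⊤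
    · refine ⟨_, hs.hyp.se_nrm_of_comm hSy hS.1 hne hs.nf.zR hs.nf.oz fun t ht => ?_⟩
      obtain ⟨g, hg⟩ := hs.th_le_cj hall ht
      rcases (normalizer_eq_top_iff.1 hM).eq_bot_or_eq_top with e | e
      · rw [e, cj_bot] at hg
        exact eq_bot_iff.2 hg
      · have := hs.pi.elt (x := z) (by simp [e])
        exact absurd rfl (this 2 Nat.prime_two hs.nf.oz.symm.dvd)
    · exact ⟨_, hs.stronglyEmbedded hall hM⟩
  have hc := card_eq_504 hB hG hH (hS8 ▸ card_dvd_card_top _) fun h => by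
    have := hSy.dvd_card (n := 2 ^ 4) (pnat_singleton_pow Nat.prime_two 4) (by rwa [card_top])
    rw [hS8] at this
    norm_num at this
  have h7 : (Cent1 z).relIndex (Nrm (S : Subgroup G)) = 7 := by
    have : IsMulCommutative (S : Subgroup G) := hS.1
    rw [H4.relIndex_cent_eq_ncard]
    have e : (fun d => d * z * d⁻¹) '' (Nrm (S : Subgroup G) : Set G) = ((S : Subgroup G) : Set G) \ {1} := by
      ext x
      constructor
      · rintro ⟨d, hd, rfl⟩
        exact ⟨conj_mem_of_mem_nrm hd hs.nf.zR, conj_ne_one hs.nf.z1 d⟩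
      · rintro ⟨hx, hx1⟩
        obtain ⟨g, hg⟩ := isConj_iff.1 (H88.se_isConj hH hs.nf.oz (h8.1.ord hx hx1))
        obtain ⟨n, hn, e⟩ := S.conj_eq_normalizer_conj_of_mem z g⁻¹ hs.nf.zR
          (by rw [inv_inv, hg]; exact hx)
        exact ⟨n⁻¹, inv_mem hn, by rw [inv_inv, hg] at e; simp [e]⟩
    rw [e, Set.ncard_sdiff_singleton_of_mem (one_mem (S : Subgroup G))]
    have : ((S : Subgroup G) : Set G).ncard = 8 := by rw [← hS8]; rfl
    rw [this]
  have d1 : 7 ∣ (Cent (S : Subgroup G)).relIndex (Nrm (S : Subgroup G)) :=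
    h7 ▸ relIndex_dvd_of_le_left _ (cent_le_cent1 hs.nf.zR)
  have d2 : 8 ∣ Nat.card (Cent (S : Subgroup G)) := hS8 ▸ card_dvd_of_le h8.1.le_centralizer
  have d3 := card_mul_relIndex (cent_le_nrm (S : Subgroup G))
  have d4 := (Nrm (S : Subgroup G)).card_mul_index
  have d5 := H87.two_mul_card_dvd_factorial hG _ hne
  obtain ⟨r, hr⟩ := d1
  obtain ⟨c, hc'⟩ := d2
  change (Cent (S : Subgroup G)).relIndex (Nrm (S : Subgroup G)) = 7
  rw [hc] at d4 d5
  rw [hr, hc'] at d3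
  rw [← d3] at d4
  set k := (Nrm (S : Subgroup G)).index
  have d6 : c * r * k = 9 := by linarith [show 8 * c * (7 * r) * k = 56 * (c * r * k) by ring]
  have d7 : k ∣ 3 ^ 2 := Dvd.intro_left _ d6
  obtain ⟨i, hi, hk⟩ := (Nat.dvd_prime_pow Nat.prime_three).1 d7
  rw [hk] at d5 d6
  interval_cases i
  · norm_num at d5
  · norm_num [Nat.factorial] at d5
  · have : c * r = 1 := by omega
    rw [hr, Nat.eq_one_of_mul_eq_one_left this]

end H48
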