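/- HKS tower: the pure `2`-group lemma of chapter II. -/
import Cfsg.Agent.H7.HKSSpec2

set_option autoImplicit false
set_option linter.unusedSectionVars false

namespace H48.Hk

open Subgroup H7.HKS

universe u

section
variable {G : Type*} [Group G]

theorem odd_root {y : G} {n : ℕ} (hy : y ^ 2 ^ (n + 1) = 1) {a : ℤ} (ha : Odd a) :
    ∃ u : ℤ, Odd u ∧ (y ^ a) ^ u = y := by
  obtain ⟨u, v, e⟩ := (Int.isCoprime_two_right.2 ha).pow_right (n := n + 1)
  refine ⟨u, ?_, ?_⟩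
  · by_contra x
    obtain ⟨w, rfl⟩ := Int.not_odd_iff_even.1 x
    have : (2 : ℤ) ∣ 1 := ⟨w * a + v * 2 ^ n, by rw [← e]; ring⟩
    omega
  · have : y ^ ((2 : ℤ) ^ (n + 1)) = 1 := by exact_mod_cast hy
    conv_rhs => rw [← zpow_one y, ← e, zpow_add, mul_comm v, zpow_mul y _ v, this, one_zpow, mul_one]
    rw [← zpow_mul, mul_comm]

theorem inv_odd {k : G} (h : k * k = 1) {u : ℤ} (hu : Odd u) : k ^ u = k := by
  obtain ⟨w, rfl⟩ := hu
  rw [zpow_add, zpow_mul, zpow_two, h, one_zpow, one_mul, zpow_one]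

theorem inv_even {k : G} (h : k * k = 1) {u : ℤ} (hu : ¬ Odd u) : k ^ u = 1 := by
  obtain ⟨w, rfl⟩ := Int.not_odd_iff_even.1 hu
  rw [← two_mul, zpow_mul, zpow_two, h, one_zpow]

/-- A `2`-group with a cyclic subgroup of index two and small commutator group. -/
theorem quo {e y k z : G} {n : ℕ} {a d : ℤ} (hy : y ^ 2 ^ (n + 1) = 1) (k2 : k * k = 1) (k1 : k ≠ 1)
    (ek : e * k * e⁻¹ = k) (he : e * e = y ^ a) (hz : z = 1 ∨ z = k) (hc : e * y * e⁻¹ = y * z)
    (hk : k = y ^ d) (hno : ∀ c : ℤ, e * y ^ c * (e * y ^ c) ≠ 1) :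
    y ∈ zpowers e ∨ ∃ c : ℤ, e * y ^ c * (e * y ^ c) = k ∧ e * y ^ c * y * (e * y ^ c * y) = k ∧
      y * y = k := by
  have zy : Commute y z := by
    rcases hz with rfl | rfl
    · exact Commute.one_right _
    · exact hk ▸ Commute.self_zpow _ _
  have sq : ∀ c : ℤ, e * y ^ c * (e * y ^ c) = y ^ (a + 2 * c) * z ^ c := fun c => by
    calc e * y ^ c * (e * y ^ c) = (e * y * e⁻¹) ^ c * (e * e) * y ^ c := by rw [conj_zpow]; group
      _ = _ := by
        rw [hc, he, zy.mul_zpow, mul_assoc, mul_assoc, ← zpow_add, ← (zy.zpow_zpow _ _).eq]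
        group
  by_cases ha : Odd a
  · obtain ⟨u, -, hu⟩ := odd_root hy ha
    exact .inl (hu ▸ zpow_mem (he ▸ mul_mem (mem_zpowers e) (mem_zpowers e)) u)
  obtain ⟨b, rfl⟩ := Int.not_odd_iff_even.1 ha
  have h1 := hno (-b)
  rw [sq, show b + b + 2 * -b = 0 by ring, zpow_zero, one_mul] at h1
  obtain rfl : z = k := hz.resolve_left (by rintro rfl; simp at h1)
  have h2 : z ^ (-b) = z := inv_odd k2 (by_contra fun x => h1 (inv_even k2 x))
  have sq' : ∀ c : ℤ, e * y ^ (c + -b) * (e * y ^ (c + -b)) = y ^ (2 * c) * z ^ c * z := fun c => by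
    rw [sq, zpow_add z, h2, mul_assoc]
    congr 2
    ring
  by_cases hd : Odd d
  · obtain ⟨u, u1, hu⟩ := odd_root hy hd
    rw [← hk, inv_odd k2 u1] at hu
    rw [← hu, ek, k2] at hc
    exact absurd hc k1
  obtain ⟨d, rfl⟩ := Int.not_odd_iff_even.1 hd
  have h3 := hno (d + -b)
  rw [sq', two_mul, ← hk] at h3
  have h4 : Odd d := by_contra fun x => h3 (by rw [inv_even k2 x, mul_one, k2])
  obtain ⟨u, u1, hu⟩ := odd_root (y := y * y) (n := n) (by
    rw [(Commute.refl y).mul_pow, hy, one_mul]) h4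
  rw [(Commute.refl y).mul_zpow, ← zpow_add, ← hk, inv_odd k2 u1] at hu
  refine .inr ⟨-b, by simpa using sq' 0, ?_, hu.symm⟩
  have := sq' 1
  rw [mul_one, zpow_two, zpow_one, ← hu, k2, one_mul, add_comm, zpow_add, zpow_one, ← mul_assoc] at this
  simpa only [mul_assoc] using this

theorem exists_ext (D : Subgroup G) {f : G} (hn : f ∈ normalizer (D : Set G)) (h2 : f * f ∈ D) :
    ∃ T : Subgroup G, ∀ x, x ∈ T ↔ x ∈ D ∨ f * x ∈ D := by
  have c : ∀ x ∈ D, f * x * f⁻¹ ∈ D := fun x => (mem_normalizer_iff.1 hn x).1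
  refine ⟨⟨⟨⟨{x | x ∈ D ∨ f * x ∈ D}, ?_⟩, .inl D.one_mem⟩, ?_⟩, fun _ => Iff.rfl⟩
  · rintro a b (ha | ha) (hb | hb)
    · exact .inl (mul_mem ha hb)
    · exact .inr (by convert mul_mem (c a ha) hb using 1; group)
    · exact .inr (by rw [← mul_assoc]; exact mul_mem ha hb)
    · exact .inl (by convert mul_mem (mul_mem (inv_mem h2) (c _ ha)) hb using 1; group)
  · rintro a (ha | ha)
    · exact .inl (inv_mem ha)
    · exact .inr (by convert mul_mem (c _ (inv_mem ha)) h2 using 1; group)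

variable [Finite G] {S Q : Subgroup G} {h k s y : G} {m : ℕ} (X : SII S Q h k s y m)
include X

local notation "t" => h ^ 2 ^ (m - 1)

theorem h_pow : h ^ 2 ^ (m - 1 + 1) = 1 := by
  rw [Nat.sub_add_cancel (by have := X.hm; omega), ← X.ord, pow_orderOf_eq_one]

theorem t_sq : t * t = 1 := by rw [← pow_two, ← pow_mul, ← pow_succ, h_pow X]

theorem t_ne : t ≠ 1 := pow_ne_one_of_lt_orderOf (by positivity) (by
  rw [X.ord]; exact Nat.pow_lt_pow_right one_lt_two (by have := X.hm; omega))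

theorem t_cen {g : G} (hg : g ∈ S) : g * t * g⁻¹ = t := by
  obtain ⟨i, hi⟩ := X.nh g hg
  have e : g * t * g⁻¹ = t ^ (i : ℤ) := by
    rw [← conj_pow, hi, ← pow_mul, mul_comm i, pow_mul, zpow_natCast]
  by_cases x : Odd (i : ℤ)
  · rw [e, inv_odd (t_sq X) x]
  · rw [inv_even (t_sq X) x, mul_inv_eq_one, mul_eq_left] at e
    exact absurd e (t_ne X)

theorem hh_ne : h * h ≠ 1 := fun e => t_ne X (by
  obtain ⟨n, hn⟩ : ∃ n, m - 1 = n + 1 := ⟨m - 2, by have := X.hm; omega⟩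
  rw [hn, pow_succ', pow_mul, pow_two, e, one_pow])

theorem hh_ne_t (h3 : 3 ≤ m) : h * h ≠ t := fun e => by
  have : h ^ 4 = 1 := by rw [show h ^ 4 = h * h * (h * h) by simp only [pow_succ, pow_zero, one_mul, mul_assoc], e, t_sq X]
  have := Nat.le_of_dvd (by norm_num) (orderOf_dvd_of_pow_eq_one this)
  have h2 := Nat.pow_le_pow_right two_pos h3
  rw [X.ord] at this
  omega

theorem memQ {a b : G} (ha : a ∈ S) (hb : b ∈ S) : a * b ∈ Q ↔ (a ∈ Q ↔ b ∈ Q) :=
  mul_mem_iff_of_index_two (H := Q.subgroupOf S) X.idx (a := ⟨a, ha⟩) (b := ⟨b, hb⟩)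

theorem norm_h {g : G} (hg : g ∈ S) : g ∈ normalizer (zpowers h : Set G) :=
  mem_normalizer_fintype <| by
    rintro _ ⟨n, rfl⟩
    obtain ⟨i, hi⟩ := X.nh g hg
    rw [← conj_zpow, hi]
    exact zpow_mem (pow_mem (mem_zpowers h) i) n

theorem memD {x : G} (hx : x ∈ closure {h, s}) : x ∈ zpowers h ∨ s * x ∈ zpowers h := by
  obtain ⟨T, hT⟩ := exists_ext (zpowers h) (norm_h X X.sS) (X.s2 ▸ one_mem _)
  refine (hT x).1 ((closure_le T).2 ?_ hx)
  rintro _ (rfl | rfl)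
  · exact (hT _).2 (.inl (mem_zpowers _))
  · exact (hT _).2 (.inr (X.s2 ▸ one_mem _))

omit X [Finite G] in
theorem h_le : zpowers h ≤ closure {h, s} := zpowers_le.2 (subset_closure (by simp))

theorem D_le : closure {h, s} ≤ S := (closure_le S).2 <| by
  rintro _ (rfl | rfl)
  exacts [X.le X.hQ, X.sS]

theorem D_Q {x : G} (hx : x ∈ closure {h, s}) (hQ : x ∈ Q) : x ∈ zpowers h :=
  (memD X hx).resolve_right fun e => X.sQ ((mul_mem_cancel_right hQ).1 (zpowers_le.2 X.hQ e))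

theorem k_nD : k ∉ closure {h, s} := fun e => X.kn (D_Q X e X.kQ)

theorem norm_D {g : G} (hg : g ∈ S) : g ∈ normalizer (closure {h, s} : Set G) := by
  have hs : s ∈ closure {h, s} := subset_closure (by simp)
  have key : ∀ g ∈ Q, g ∈ normalizer (closure {h, s} : Set G) := fun g hg =>
    mem_normalizer_fintype fun x hx => by
      obtain ⟨i, hi, -⟩ := X.ns g hg
      have c := (mem_normalizer_iff.1 (norm_h X (X.le hg)))
      rcases memD X hx with e | e
      · exact h_le ((c x).1 e)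
      · have := mul_mem (inv_mem (mul_mem hs (h_le (pow_mem (mem_zpowers h) i)))) (h_le ((c _).1 e))
        rw [SetLike.mem_coe]
        convert this using 1
        rw [← hi]; group
  by_cases e : g ∈ Q
  · exact key g e
  · exact (mul_mem_cancel_left (le_normalizer hs)).1 (key _ ((memQ X X.sS hg).2 (iff_of_false X.sQ e)))

theorem concl_D {g : G} (hg : g ∈ S) (H : Q ≤ closure {h, s} ⊔ zpowers g) :
    ∃ T : Subgroup G, T ≤ S ∧ S ≤ normalizer (T : Set G) ∧ (∃ g ∈ S, T ⊔ zpowers g = S) ∧ k ∉ T ∧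
      ∀ g ∈ T, g * g = 1 → g ∈ closure {h, s} := by
  refine ⟨_, D_le X, fun _ => norm_D X, ⟨g, hg, le_antisymm (sup_le (D_le X) (zpowers_le.2 hg))
    fun x hx => ?_⟩, k_nD X, fun _ x _ => x⟩
  by_cases e : x ∈ Q
  · exact H e
  · exact (mul_mem_cancel_left (mem_sup_left (subset_closure (by simp)))).1
      (H ((memQ X X.sS hx).2 (iff_of_false X.sQ e)))

theorem conj_k {e : G} (he : e ∈ Q) (ek : e * k ≠ k * e) : e * k * e⁻¹ = k * t :=
  (X.nk e (X.le he)).resolve_left fun x => ek (mul_inv_eq_iff_eq_mul.1 x)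

theorem comm_k {e f : G} (he : e ∈ Q) (ek : e * k ≠ k * e) (hf : f ∈ Q) (fk : f * k ≠ k * f) :
    e * f * k = k * (e * f) := by
  rw [← mul_inv_eq_iff_eq_mul]
  calc e * f * k * (e * f)⁻¹ = e * (f * k * f⁻¹) * e⁻¹ := by group
    _ = e * k * e⁻¹ * (e * t * e⁻¹) := by rw [conj_k X hf fk]; group
    _ = k := by rw [conj_k X he ek, t_cen X (X.le he), mul_assoc, t_sq X, mul_one]

theorem se_sq {e : G} (he : e ∈ Q) (ek : e * k ≠ k * e) :
    ∃ i : ℤ, Odd i ∧ s * e * (s * e) = h ^ i * (e * e) := by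
  obtain ⟨i, hi, x⟩ := X.ns e he
  refine ⟨i, by exact_mod_cast x.resolve_left ek, ?_⟩
  calc s * e * (s * e) = s * (e * s * e⁻¹) * (e * e) := by group
    _ = _ := by rw [hi, ← mul_assoc s, X.s2, one_mul, zpow_natCast]

theorem un_s {e x : G} (H : s * e * h * (s * e)⁻¹ = x) : e * h * e⁻¹ = s * x * s := by
  have : s⁻¹ = s := inv_eq_of_mul_eq_one_right X.s2
  rw [← H, ← this]
  conv_rhs => rw [this]
  calc e * h * e⁻¹ = s⁻¹ * (s * e * h * (s * e)⁻¹) * s := by group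
    _ = _ := by rw [this]

/-- An element outside `C(k)` with square in `⟨h⟩` inverts `h`. -/
theorem inverts {e : G} (he : e ∈ Q) (ek : e * k ≠ k * e) (h2 : e * e ∈ zpowers h) :
    e * h * e⁻¹ = h⁻¹ ∧ (e * e = 1 ∨ e * e = t) := by
  obtain ⟨w, hw⟩ := h2
  dsimp only at hw
  have p : ∀ n : ℕ, e ^ 2 ^ (n + 1) = (h ^ 2 ^ n) ^ w := fun n => by
    rw [pow_succ', pow_mul, pow_two, ← hw, ← zpow_natCast, ← zpow_natCast, ← zpow_mul, ← zpow_mul,
      mul_comm]
  have h1 : ¬ Odd w := fun x => X.top e he (by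
    rw [← inv_odd (t_sq X) x, ← p, Nat.sub_add_cancel (by have := X.hm; omega)])
  obtain ⟨i, hi, e1⟩ := se_sq X he ek
  rw [← hw, ← zpow_add] at e1
  obtain ⟨u, -, hu⟩ := odd_root (h_pow X) (hi.add_even (Int.not_odd_iff_even.1 h1))
  have e2 : e * h * e⁻¹ = h⁻¹ := by
    rw [un_s X (x := h) (by rw [← hu, ← e1, ← conj_zpow]; group), X.sh]
  refine ⟨e2, ?_⟩
  have e3 : h ^ w * h ^ w = 1 := by
    have : e * h ^ w * e⁻¹ = (h ^ w)⁻¹ := by rw [← conj_zpow, e2, inv_zpow]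
    rw [← eq_inv_iff_mul_eq_one, ← this, hw]; group
  rw [← zpow_add, ← orderOf_dvd_iff_zpow_eq_one, X.ord] at e3
  obtain ⟨c, hc⟩ := e3
  have e4 : w = (2 ^ (m - 1) : ℕ) * c := by
    obtain ⟨n, rfl⟩ : ∃ n, m = n + 1 := ⟨m - 1, by have := X.hm; omega⟩
    simp only [Nat.add_sub_cancel, pow_succ] at hc ⊢
    push_cast at hc ⊢
    linarith
  rw [← hw, e4, zpow_mul, zpow_natCast]
  by_cases x : Odd c
  · exact .inr (inv_odd (t_sq X) x)
  · exact .inl (inv_even (t_sq X) x)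

theorem comm_h {a b : G} (ha : a ∈ S) (hb : b ∈ S) : a * b * a⁻¹ * b⁻¹ * h = h * (a * b * a⁻¹ * b⁻¹) := by
  obtain ⟨i, hi⟩ := X.nh a⁻¹ (inv_mem ha)
  obtain ⟨j, hj⟩ := X.nh b⁻¹ (inv_mem hb)
  have e : a⁻¹ * (b⁻¹ * h * b⁻¹⁻¹) * a⁻¹⁻¹ = b⁻¹ * (a⁻¹ * h * a⁻¹⁻¹) * b⁻¹⁻¹ := by
    rw [hi, hj, ← conj_pow, ← conj_pow, hi, hj, ← pow_mul, ← pow_mul, mul_comm]
  calc a * b * a⁻¹ * b⁻¹ * h = a * b * (a⁻¹ * (b⁻¹ * h * b⁻¹⁻¹) * a⁻¹⁻¹) * (a⁻¹ * b⁻¹) := by group
    _ = _ := by rw [e]; group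

theorem case_b {e : G} (he : e ∈ Q) (ek : e * k ≠ k * e) (h2 : e * e = 1) :
    ∃ T : Subgroup G, T ≤ S ∧ S ≤ normalizer (T : Set G) ∧ (∃ g ∈ S, T ⊔ zpowers g = S) ∧ k ∉ T ∧
      ∀ g ∈ T, g * g = 1 → g ∈ closure {h, s} := by
  have e1 := (inverts X he ek (h2 ▸ one_mem _)).1
  have e2 := conj_k X he ek
  have ei : e⁻¹ = e := inv_eq_of_mul_eq_one_right h2
  have hk : ∀ x ∈ zpowers h, x * k = k * x := by
    rintro _ ⟨n, rfl⟩
    exact (Commute.zpow_left X.hk n).eq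
  have c1 : ∀ g ∈ Q, g * h = h * g → g * k = k * g := fun g hg gh => by
    by_contra gk
    have a : g * e * h * (g * e)⁻¹ = h⁻¹ := by
      calc g * e * h * (g * e)⁻¹ = g * (e * h * e⁻¹) * g⁻¹ := by group
        _ = _ := by rw [e1, (show Commute g h from gh).inv_right.eq]; group
    obtain ⟨b1, b2⟩ := X.fld (g * e) (mul_mem hg he) (comm_k X hg gk he ek)
      (fun x => hh_ne X (by rw [x, mul_inv_cancel_right] at a; exact mul_eq_one_iff_eq_inv.2 a)) (by
        rw [← mul_inv_eq_iff_eq_mul]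
        calc g * e * (g * e) * h * (g * e * (g * e))⁻¹
            = g * e * (g * e * h * (g * e)⁻¹) * (g * e)⁻¹ := by group
          _ = (g * e * h * (g * e)⁻¹)⁻¹ := by
            conv_lhs => rw [a]
            group
          _ = h := by rw [a, inv_inv])
    refine hh_ne_t X b1 ?_
    rw [a] at b2
    rw [← inv_eq_of_mul_eq_one_right (t_sq X), eq_inv_iff_mul_eq_one, mul_assoc, ← b2, mul_inv_cancel]
  have hc : e * y * e⁻¹ * y⁻¹ ∈ Q := mul_mem (mul_mem (mul_mem he X.yQ) (inv_mem he)) (inv_mem X.yQ)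
  have c2 : e * y * e⁻¹ * y⁻¹ ∈ zpowers h := by
    have a := comm_h X (X.le he) (X.le X.yQ)
    obtain ⟨j, hj | hj⟩ := X.ch _ hc (c1 _ hc a) a
    · exact hj ▸ pow_mem (mem_zpowers h) j
    · refine absurd ?_ (t_ne X)
      have b : e * (e * y * e⁻¹ * y⁻¹) * e⁻¹ * (e * y * e⁻¹ * y⁻¹) = 1 := by
        calc _ = e * e * y * (e * e)⁻¹ * y⁻¹ := by group
          _ = 1 := by rw [h2]; group
      rw [hj, show e * (h ^ j * k) * e⁻¹ = (e * h * e⁻¹) ^ j * (e * k * e⁻¹) by rw [conj_pow]; group, e1,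
        e2, ← hk _ (pow_mem (mem_zpowers h) _), hk _ (pow_mem (mem_zpowers h) j)] at b
      calc t = (h ^ j)⁻¹ * (t * (k * k) * h ^ j) := by rw [X.k2]; group
        _ = 1 := by rw [← b]; group
  have fS : k * e ∈ S := X.le (mul_mem X.kQ he)
  have f2 : k * e * (k * e) = t := by
    calc k * e * (k * e) = k * (e * k * e⁻¹) * (e * e) := by group
      _ = t := by rw [e2, h2, ← mul_assoc, X.k2, one_mul, mul_one]
  obtain ⟨T, hT⟩ := exists_ext (closure {h, s}) (norm_D X fS) (f2 ▸ h_le (pow_mem (mem_zpowers h) _))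
  have TS : T ≤ S := fun x hx => ((hT x).1 hx).elim (fun a => D_le X a)
    fun a => (mul_mem_cancel_left fS).1 (D_le X a)
  have DT : closure {h, s} ≤ T := fun x hx => (hT x).2 (.inl hx)
  have fT : k * e ∈ T := (hT _).2 (.inr (f2 ▸ h_le (pow_mem (mem_zpowers h) _)))
  have Dk : ∀ x ∈ closure {h, s}, x * k = k * x := fun x hx =>
    ((closure_le (centralizer {k})).2 (by
      rintro _ (rfl | rfl) _ rfl
      exacts [X.hk.symm, X.sk.symm]) hx k rfl).symm
  have nk : ∀ x, k * e * x ∈ closure {h, s} → x * k ≠ k * x := fun x hx a => ek (by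
    have b : Commute (k * e * x) k := Dk _ hx
    have := ((Commute.refl k).inv_left.mul_left b).mul_left (show Commute x k from a).inv_left
    simpa [mul_assoc] using this.eq)
  have top : T ⊔ zpowers y = S := by
    refine le_antisymm (sup_le TS (zpowers_le.2 (X.le X.yQ))) fun x hx => ?_
    have P : ∀ g ∈ Q, g * k = k * g → g ∈ T ⊔ zpowers y := fun g hg gk => by
      obtain ⟨i, j, rfl⟩ := X.gen g hg gk
      exact mul_mem (mem_sup_right (pow_mem (mem_zpowers y) i))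
        (mem_sup_left (DT (h_le (pow_mem (mem_zpowers h) j))))
    have P' : ∀ g ∈ Q, g ∈ T ⊔ zpowers y := fun g hg => by
      by_cases gk : g * k = k * g
      · exact P g hg gk
      · exact (mul_mem_cancel_left (mem_sup_left fT)).1 (P _ (mul_mem (mul_mem X.kQ he) hg) (by
          rw [mul_assoc k, mul_assoc k, comm_k X he ek hg gk]))
    by_cases a : x ∈ Q
    · exact P' x a
    · exact (mul_mem_cancel_left (mem_sup_left (DT (subset_closure (by simp))))).1
        (P' _ ((memQ X X.sS hx).2 (iff_of_false X.sQ a)))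
  refine ⟨T, TS, top ▸ sup_le le_normalizer (zpowers_le.2 (mem_normalizer_fintype fun x hx => ?_)),
    ⟨y, X.le X.yQ, top⟩, fun a => ((hT k).1 a).elim (k_nD X) fun b => nk k b rfl, fun x hx x2 => ?_⟩
  · have c := mem_normalizer_iff.1 (norm_D X (X.le X.yQ))
    rcases (hT x).1 hx with a | a
    · exact DT ((c x).1 a)
    · have b : y * (k * e) * y⁻¹ ∈ T := by
        have := mul_mem (DT (h_le (inv_mem c2))) fT
        convert this using 1
        rw [← mul_assoc y k, X.yk, ← mul_assoc _ k e, hk _ (inv_mem c2)]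
        group
      have := mul_mem (inv_mem b) (DT ((c _).1 a))
      rw [SetLike.mem_coe]
      convert this using 1
      group
  · refine ((hT x).1 hx).resolve_right fun a => ?_
    by_cases b : x ∈ Q
    · obtain ⟨n, hn⟩ := D_Q X a (mul_mem (mul_mem X.kQ he) b)
      dsimp only at hn
      have c : k * e * h ^ n * (k * e)⁻¹ = (h ^ n)⁻¹ := by
        calc _ = k * (e * h * e⁻¹) ^ n * k⁻¹ := by rw [conj_zpow]; group
          _ = _ := by rw [e1, inv_zpow, ← hk _ (inv_mem (zpow_mem (mem_zpowers h) n))]; group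
      refine t_ne X (inv_eq_one.1 ?_)
      rw [← f2, ← x2, show x = (k * e)⁻¹ * h ^ n by rw [hn]; group]
      calc _ = (k * e)⁻¹ * ((k * e)⁻¹ * ((h ^ n)⁻¹ * h ^ n)) := by group
        _ = _ := by rw [← c]; group
    · exact nk x a (X.iv₂ x (TS hx) b x2)

theorem act_of_sq {e : G} (he : e ∈ Q) (ek : e * k ≠ k * e) (h2 : k * (e * e) ∈ zpowers h) :
    e * h * e⁻¹ = h * t ∨ e * h * e⁻¹ = h⁻¹ * t := by
  obtain ⟨w, hw⟩ := h2
  dsimp only at hw
  have key : ∀ (f : G) (j : ℤ), f * k * f⁻¹ = k * t → k * (f * f) = h ^ j → Odd j →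
      f * h * f⁻¹ = h * t := fun f j f1 f2 hj => by
    obtain ⟨u, u1, hu⟩ := odd_root (h_pow X) hj
    have a : f * h ^ j * f⁻¹ = h ^ j * t := by
      calc f * h ^ j * f⁻¹ = f * k * f⁻¹ * (f * f) := by rw [← f2]; group
        _ = k * t * (k⁻¹ * h ^ j) := by rw [f1, ← f2]; group
        _ = _ := by rw [← (Commute.pow_left X.hk _).eq]; group
    conv_lhs => rw [← hu, ← conj_zpow, a]
    rw [(((Commute.refl h).pow_right _).zpow_left j).mul_zpow, hu, inv_odd (t_sq X) u1]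
  by_cases x : Odd w
  · exact .inl (key e w (conj_k X he ek) hw.symm x)
  obtain ⟨i, hi, e1⟩ := se_sq X he ek
  refine .inr ?_
  rw [un_s X (key (s * e) (i + w) ?_ ?_ (hi.add_even (Int.not_odd_iff_even.1 x)))]
  · have := t_cen X X.sS
    rw [inv_eq_of_mul_eq_one_right X.s2] at this
    calc s * (h * t) * s = s * h * s * (s * t * s) := by
          rw [mul_assoc (s * h), ← mul_assoc s (s * t), ← mul_assoc s s, X.s2]; group
      _ = _ := by rw [X.sh, this]
  · calc s * e * k * (s * e)⁻¹ = s * (e * k * e⁻¹) * s⁻¹ := by group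
      _ = s * k * s⁻¹ * (s * t * s⁻¹) := by rw [conj_k X he ek]; group
      _ = _ := by rw [t_cen X X.sS, X.sk, mul_inv_cancel_right]
  · rw [e1, zpow_add, hw, ← mul_assoc k, ← (Commute.zpow_left X.hk i).eq, mul_assoc]

end

theorem jobIIg : JobIIg.{u} := by
  intro G _ _ S Q h k s y m X
  by_cases c0 : ∀ e ∈ Q, e * k = k * e
  · refine concl_D X (X.le X.yQ) fun g hg => ?_
    obtain ⟨i, j, rfl⟩ := X.gen g hg (c0 g hg)
    exact mul_mem (mem_sup_right (pow_mem (mem_zpowers y) i))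
      (mem_sup_left (h_le (pow_mem (mem_zpowers h) j)))
  by_cases c1 : ∃ e ∈ Q, e * k ≠ k * e ∧ e * e ∈ zpowers h
  · obtain ⟨e, he, ek, h2⟩ := c1
    rcases (inverts X he ek h2).2 with a | a
    · exact case_b X he ek a
    · refine case_b X (mul_mem he X.kQ) (fun x => ek (mul_right_cancel (x.trans (mul_assoc _ _ _).symm))) ?_
      calc e * k * (e * k) = e * k * e⁻¹ * (e * e) * k := by group
        _ = 1 := by rw [conj_k X he ek, a, mul_assoc k, t_sq X, mul_one, X.k2]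
  push Not at c0 c1
  obtain ⟨e, he, ek⟩ := c0
  have hk : ∀ x ∈ zpowers h, x * k = k * x := by
    rintro _ ⟨n, rfl⟩
    exact (Commute.zpow_left X.hk n).eq
  have ch : ∀ g ∈ Q, g * h = h * g → g * k = k * g := fun g hg gh => by
    by_contra gk
    have gh' : Commute g h := gh
    obtain ⟨j, hj | hj⟩ := X.ch _ (mul_mem hg hg) (comm_k X hg gk hg gk) (gh'.mul_left gh').eq
    · exact c1 g hg gk (hj ▸ pow_mem (mem_zpowers h) j)
    · have := (gh'.pow_right j).inv_right.mul_right ((Commute.refl g).mul_right (Commute.refl g))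
      rw [hj, inv_mul_cancel_left] at this
      exact gk this
  have nk : ∀ c : ℤ, e * y ^ c * k ≠ k * (e * y ^ c) := fun c x => ek (by
    have := (show Commute (e * y ^ c) k from x).mul_left (Commute.zpow_left X.yk c).inv_left
    simpa using this.eq)
  have eQ : ∀ c : ℤ, e * y ^ c ∈ Q := fun c => mul_mem he (zpow_mem X.yQ c)
  have nm : ((zpowers h).subgroupOf S).Normal :=
    (normal_subgroupOf_iff_le_normalizer (zpowers_le.2 (X.le X.hQ))).2 fun _ => norm_h X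
  let π := QuotientGroup.mk' ((zpowers h).subgroupOf S)
  have π1 : ∀ a b : S, π a = π b ↔ (a : G)⁻¹ * b ∈ zpowers h := fun a b => QuotientGroup.eq
  have π2 : ∀ a : S, π a = 1 ↔ (a : G) ∈ zpowers h := fun a => QuotientGroup.eq_one_iff a
  let e' : S := ⟨e, X.le he⟩
  let y' : S := ⟨y, X.le X.yQ⟩
  let k' : S := ⟨k, X.le X.kQ⟩
  have gen : ∀ g : S, (g : G) ∈ Q → g * k = k * g → ∃ a : ℤ, π g = π y' ^ a := fun g hg gk => by
    obtain ⟨i, j, x⟩ := X.gen g hg gk
    exact ⟨i, by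
      rw [← map_zpow, eq_comm, π1, x]
      simp [y']⟩
  obtain ⟨n, hn⟩ := X.two y'
  obtain ⟨a, ha⟩ := gen (e' * e') (mul_mem he he) (comm_k X he ek he ek)
  obtain ⟨d, hd⟩ := gen k' X.kQ rfl
  have hc : e * y * e⁻¹ * y⁻¹ ∈ Q := mul_mem (mul_mem (mul_mem he X.yQ) (inv_mem he)) (inv_mem X.yQ)
  have cm := comm_h X (X.le he) (X.le X.yQ)
  have ky : π k' * π y' = π y' * π k' := by
    rw [← map_mul, ← map_mul]; exact congrArg π (Subtype.ext X.yk.symm)
  have k2 : π k' * π k' = 1 := by rw [← map_mul, show k' * k' = 1 from Subtype.ext X.k2, map_one]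
  obtain ⟨z, hz, hz'⟩ : ∃ z, (z = 1 ∨ z = π k') ∧ π e' * π y' * (π e')⁻¹ = π y' * z := by
    obtain ⟨j, hj | hj⟩ := X.ch _ hc (ch _ hc cm) cm
    · refine ⟨1, .inl rfl, ?_⟩
      rw [mul_one, ← mul_inv_eq_one, ← map_mul, ← map_inv, ← map_inv, ← map_mul, ← map_mul, π2]
      change e * y * e⁻¹ * y⁻¹ ∈ _
      exact hj ▸ pow_mem (mem_zpowers h) j
    · refine ⟨_, .inr rfl, ?_⟩
      rw [← ky, ← mul_inv_eq_one, mul_inv_rev, ← mul_assoc, inv_eq_of_mul_eq_one_right k2, ← map_mul,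
        ← map_inv, ← map_inv, ← map_mul, ← map_mul, ← map_mul, π2]
      change e * y * e⁻¹ * y⁻¹ * k ∈ _
      rw [hj, mul_assoc, X.k2, mul_one]
      exact pow_mem (mem_zpowers h) j
  rcases quo (e := π e') (n := n) (by rw [← map_pow, pow_succ, pow_mul, hn, one_pow, map_one]) k2
    (fun x => X.kn ((π2 k').1 x)) (by
      rw [← map_mul, ← map_inv, ← map_mul, eq_comm, π1]
      change k⁻¹ * (e * k * e⁻¹) ∈ _
      rw [conj_k X he ek, inv_mul_cancel_left]
      exact pow_mem (mem_zpowers h) _) (by rw [← map_mul, ha]) hz hz' hd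
    (fun c x => c1 _ (eQ c) (nk c) (by
      rw [← map_zpow, ← map_mul, ← map_mul, π2] at x
      exact x)) with ⟨u, hu⟩ | ⟨c, a1, a2, a3⟩
  · refine concl_D X (X.le he) fun g hg => ?_
    have P : ∀ g ∈ Q, g * k = k * g → g ∈ closure {h, s} ⊔ zpowers e := fun g hg gk => by
      obtain ⟨i, j, rfl⟩ := X.gen g hg gk
      refine mul_mem (pow_mem ?_ i) (mem_sup_left (h_le (pow_mem (mem_zpowers h) j)))
      dsimp only at hu
      rw [← map_zpow, π1] at hu
      exact (mul_mem_cancel_left (inv_mem (mem_sup_right (zpow_mem (mem_zpowers e) u)))).1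
        (mem_sup_left (h_le hu))
    by_cases gk : g * k = k * g
    · exact P g hg gk
    · exact (mul_mem_cancel_left (mem_sup_right (mem_zpowers e))).1
        (P _ (mul_mem he hg) (comm_k X he ek hg gk))
  exfalso
  have ki : k⁻¹ = k := inv_eq_of_mul_eq_one_right X.k2
  rw [← map_zpow, ← map_mul, ← map_mul, eq_comm, π1] at a1
  rw [← map_zpow, ← map_mul, ← map_mul, ← map_mul, eq_comm, π1] at a2
  rw [← map_mul, eq_comm, π1] at a3
  replace a1 : k⁻¹ * (e * y ^ c * (e * y ^ c)) ∈ zpowers h := a1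
  replace a2 : k⁻¹ * (e * y ^ c * y * (e * y ^ c * y)) ∈ zpowers h := a2
  replace a3 : k⁻¹ * (y * y) ∈ zpowers h := a3
  rw [ki] at a1 a2
  obtain ⟨b1, b2⟩ := X.fld y X.yQ X.yk (fun x => by
    refine X.kn ?_
    obtain ⟨j, hj | hj⟩ := X.ch y X.yQ X.yk x
    · rw [hj] at a3
      simpa using (mul_mem_cancel_right (mul_mem (pow_mem (mem_zpowers h) j)
        (pow_mem (mem_zpowers h) j))).1 a3
    · rw [hj, mul_assoc (h ^ j), ← mul_assoc k, ← hk _ (pow_mem (mem_zpowers h) j), mul_assoc (h ^ j),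
        X.k2, mul_one] at a3
      simpa using (mul_mem_cancel_right (mul_mem (pow_mem (mem_zpowers h) j)
        (pow_mem (mem_zpowers h) j))).1 a3) (by
    obtain ⟨j, hj⟩ := a3
    dsimp only at hj
    rw [show y * y = k * h ^ j by rw [hj]; group]
    exact ((show Commute h k from X.hk).symm.mul_left (Commute.zpow_self h j)).eq)
  have b3 := act_of_sq X (eQ c) (nk c) a1
  have b4 := act_of_sq X (mul_mem (eQ c) X.yQ) (by
    have := nk (c + 1)
    rwa [zpow_add_one, ← mul_assoc e] at this) a2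
  have b5 : e * y ^ c * y * h * (e * y ^ c * y)⁻¹ =
      e * y ^ c * h * (e * y ^ c)⁻¹ * h ^ 2 ^ (m - 1) := by
    calc _ = e * y ^ c * (y * h * y⁻¹) * (e * y ^ c)⁻¹ := by group
      _ = e * y ^ c * h * (e * y ^ c)⁻¹ * (e * y ^ c * h ^ 2 ^ (m - 1) * (e * y ^ c)⁻¹) := by
        rw [b2]; group
      _ = _ := by rw [t_cen X (X.le (eQ c))]
  have ti : (h ^ 2 ^ (m - 1))⁻¹ = h ^ 2 ^ (m - 1) := inv_eq_of_mul_eq_one_right (t_sq X)
  rw [b5] at b4
  rcases b3 with x | x <;> rw [x, mul_assoc, t_sq X, mul_one] at b4 <;> rcases b4 with x | x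
  · exact t_ne X (by simpa using x)
  · exact hh_ne_t X b1 (by rw [← inv_mul_eq_iff_eq_mul.2 x]; simp)
  · exact hh_ne_t X b1 (by rw [← ti, eq_inv_iff_mul_eq_one, mul_assoc, ← x, mul_inv_cancel])
  · exact t_ne X (by simpa using x)

end H48.Hk
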