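import Cfsg.Agent.H63.KgvSpec

/-! Tensor induction of graded matrix representations from a normal subgroup of prime index. -/

set_option autoImplicit false
set_option linter.unusedSectionVars false

namespace H48.KgvTm

open Finset Cfsg H63.Kgv

universe u

section Gen

variable {κ C : Type*} [Fintype κ] [DecidableEq κ]

theorem diag_comm (D : κ → C) (f : C → ℂ) (M : Matrix κ κ ℂ) (hM : ∀ b a, D b ≠ D a → M b a = 0) :
    Matrix.diagonal (fun a => f (D a)) * M = M * Matrix.diagonal (fun a => f (D a)) := by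
  ext b a
  rw [Matrix.diagonal_mul, Matrix.mul_diagonal]
  by_cases h : D b = D a
  · rw [h, mul_comm]
  · rw [hM b a h, mul_zero, zero_mul]

theorem sum_conj (D : κ → C) (f : C → ℂ) (P X Q : Matrix κ κ ℂ) (hQ : ∀ b a, D b ≠ D a → Q b a = 0)
    (hQP : Q * P = 1) : ∑ a, f (D a) * (P * X * Q) a a = ∑ a, f (D a) * X a a := by
  have key : ∀ Y : Matrix κ κ ℂ, ∑ a, f (D a) * Y a a =
      Matrix.trace (Matrix.diagonal (fun a => f (D a)) * Y) := by
    intro Y
    simp only [Matrix.trace, Matrix.diag, Matrix.diagonal_mul]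
  rw [key, key, ← Matrix.mul_assoc, Matrix.trace_mul_comm, ← Matrix.mul_assoc,
    ← diag_comm D f Q hQ, Matrix.mul_assoc, ← Matrix.mul_assoc Q, hQP,
    Matrix.one_mul]

theorem block_char {E : Type u} [Group E] [DecidableEq C] (D : κ → C) (T : E →* Matrix κ κ ℂ)
    (hT : ∀ y b a, D b ≠ D a → T y b a = 0) (c : C) :
    IsCharacter E (fun y => ∑ a ∈ univ.filter (fun a => D a = c), T y a a) := by
  classical
  let e := (Fintype.equivFin {a // D a = c}).symm
  have hsum : ∀ f : κ → ℂ, ∑ a ∈ univ.filter (fun a => D a = c), f a = ∑ i, f (e i) := by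
    intro f
    rw [Finset.sum_subtype (univ.filter (fun a => D a = c)) (p := fun a => D a = c) (by simp) f]
    exact (Equiv.sum_comp e (fun a => f a)).symm
  let B : E →* Matrix (Fin (Fintype.card {a // D a = c})) (Fin (Fintype.card {a // D a = c})) ℂ :=
    { toFun := fun y => Matrix.of fun i j => T y (e i) (e j)
      map_one' := by
        ext i j
        simp only [map_one, Matrix.of_apply, Matrix.one_apply, Subtype.val_inj,
          EmbeddingLike.apply_eq_iff_eq]
      map_mul' := by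
        intro y z
        ext i j
        simp only [map_mul, Matrix.of_apply, Matrix.mul_apply]
        rw [← hsum (fun k => T y (e i) k * T z k (e j))]
        refine (Finset.sum_filter_of_ne ?_).symm
        intro k _ hk
        by_contra hne
        exact hk (by rw [hT y (e i) k (by rw [(e i).2]; exact fun h => hne h.symm), zero_mul]) }
  refine ⟨_, (Matrix.toLinAlgEquiv' (R := ℂ)).toMonoidHom.comp B, ?_⟩
  funext y
  rw [hsum (fun a => T y a a)]
  exact Matrix.trace_toLin'_eq (B y)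

end Gen

section W

variable {H : Type*} [Group H] {ι Ω : Type*} [Fintype ι] [DecidableEq ι] [Fintype Ω] [DecidableEq Ω]
  (ρ : H →* Matrix ι ι ℂ)

/-- the wreath product matrix -/
noncomputable def W (σ : Equiv.Perm Ω) (h : Ω → H) : Matrix (Ω → ι) (Ω → ι) ℂ :=
  Matrix.of fun b a => ∏ ω, ρ (h ω) (b (σ ω)) (a ω)

theorem sum_prod_pi (f : Ω → ι → ℂ) : ∑ c : Ω → ι, ∏ ω, f ω (c ω) = ∏ ω, ∑ j, f ω j := by
  rw [Finset.prod_univ_sum, Fintype.piFinset_univ]

theorem W_mul (σ τ : Equiv.Perm Ω) (h k : Ω → H) :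
    W ρ σ h * W ρ τ k = W ρ (σ * τ) (fun ω => h (τ ω) * k ω) := by
  ext b a
  simp only [W, Matrix.mul_apply, Matrix.of_apply, map_mul, Equiv.Perm.mul_apply]
  rw [← sum_prod_pi (fun ω j => ρ (h (τ ω)) (b (σ (τ ω))) j * ρ (k ω) j (a ω))]
  refine Fintype.sum_equiv (Equiv.arrowCongr τ.symm (Equiv.refl ι)) _ _ ?_
  intro c
  rw [← Equiv.prod_comp τ (fun ω => ρ (h ω) (b (σ ω)) (c ω)), ← Finset.prod_mul_distrib]
  rfl

theorem W_one : W ρ (1 : Equiv.Perm Ω) (fun _ => 1) = 1 := by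
  ext b a
  simp only [W, Matrix.of_apply, map_one, Matrix.one_apply, Equiv.Perm.one_apply,
    Fintype.prod_boole, funext_iff]

theorem W_gr {C : Type*} [AddCommMonoid C] (dg : ι → C) (hρ : ∀ h a b, dg a ≠ dg b → ρ h a b = 0)
    (σ : Equiv.Perm Ω) (h : Ω → H) (b a : Ω → ι) (hne : ∑ ω, dg (b ω) ≠ ∑ ω, dg (a ω)) :
    W ρ σ h b a = 0 := by
  by_contra h0
  apply hne
  rw [← Equiv.sum_comp σ (fun ω => dg (b ω))]
  refine Finset.sum_congr rfl fun ω _ => ?_
  by_contra hd
  exact h0 (Finset.prod_eq_zero (mem_univ ω) (hρ _ _ _ hd))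

theorem W_conj {C : Type*} [AddCommMonoid C] (dg : ι → C) (hρ : ∀ h a b, dg a ≠ dg b → ρ h a b = 0)
    (f : C → ℂ) (σ : Equiv.Perm Ω) (h k : Ω → H) :
    ∑ a : Ω → ι, f (∑ ω, dg (a ω)) * W ρ σ (fun ω => (k (σ ω))⁻¹ * h ω * k ω) a a =
      ∑ a : Ω → ι, f (∑ ω, dg (a ω)) * W ρ σ h a a := by
  rw [← sum_conj (fun a : Ω → ι => ∑ ω, dg (a ω)) f (W ρ 1 fun ω => (k ω)⁻¹) (W ρ σ h) (W ρ 1 k)
    (W_gr ρ dg hρ 1 k) (by rw [W_mul]; simpa using W_one ρ), W_mul, W_mul]
  simp only [one_mul, mul_one, Equiv.Perm.one_apply]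

end W

theorem ee_sum (p : ℕ) [Fact p.Prime] {Ω : Type*} (s : Finset Ω) (f : Ω → ZMod p) :
    ee p (∑ ω ∈ s, f ω) = ∏ ω ∈ s, ee p (f ω) := by
  classical
  induction s using Finset.induction_on with
  | empty => simp
  | insert a s ha ih => rw [Finset.sum_insert ha, Finset.prod_insert ha, ← ih]; exact AddChar.map_add_eq_mul _ _ _

section Co

variable {E : Type u} [Group E] (H : Subgroup E) [H.Normal]

/-- the cocycle of a transversal -/
def co (s : E ⧸ H → E) (hs : ∀ ω, (s ω : E ⧸ H) = ω) (y : E) (ω : E ⧸ H) : H :=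
  ⟨(s ((y : E ⧸ H) * ω))⁻¹ * (y * s ω), QuotientGroup.eq.1 (by rw [QuotientGroup.mk_mul, hs, hs])⟩

theorem exists_enum [Finite E] {r : ℕ} (hr : r.Prime) (hi : H.index = r) (g : E) (hg : g ∉ H) :
    ∃ e : Fin r ≃ E ⧸ H, ∀ j, e j = ((g ^ (j : ℕ) : E) : E ⧸ H) := by
  have hc : Nat.card (E ⧸ H) = r := hi
  have ho : orderOf (g : E ⧸ H) = r := by
    rcases (Nat.dvd_prime hr).1 (hc ▸ orderOf_dvd_natCard (g : E ⧸ H)) with h | h
    · exact absurd ((QuotientGroup.eq_one_iff g).1 (orderOf_eq_one_iff.1 h)) hg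
    · exact h
  have hb : Function.Bijective fun j : Fin r => ((g ^ (j : ℕ) : E) : E ⧸ H) := by
    refine (Nat.bijective_iff_injective_and_card _).2 ⟨?_, by rw [hc]; simp⟩
    intro i j hij
    simp only [QuotientGroup.mk_pow] at hij
    exact Fin.ext (pow_injOn_Iio_orderOf (by rw [ho]; exact i.2) (by rw [ho]; exact j.2) hij)
  exact ⟨Equiv.ofBijective _ hb, fun _ => rfl⟩

end Co

theorem job : H63.Kgv.TmSt.{u} := by
  intro p _ E _ _ H _ r n x ρ dg Γ hr hi hx hρ h1 h2
  classical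
  let s : E ⧸ H → E := Quotient.out
  have hs : ∀ ω, (s ω : E ⧸ H) = ω := fun ω => Quotient.out_eq ω
  let T : E →* Matrix (E ⧸ H → Fin n) (E ⧸ H → Fin n) ℂ :=
    { toFun := fun y => W ρ (Equiv.mulLeft (y : E ⧸ H)) (co H s hs y)
      map_one' := by
        rw [← W_one ρ]
        congr 1
        · ext ω; simp
        · funext ω; apply Subtype.ext; simp [co]
      map_mul' := by
        intro y z
        rw [W_mul]
        congr 1
        · ext ω; simp
        · funext ω; apply Subtype.ext; simp [co, mul_assoc] }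
  refine ⟨fun c y => ∑ a ∈ univ.filter (fun a : E ⧸ H → Fin n => ∑ ω, dg (a ω) = c), T y a a,
    fun c => ⟨_, 0, block_char _ T (fun y => W_gr ρ dg hρ _ _) c,
      ⟨0, 1, by funext g; simp [Representation.character]⟩, by simp⟩, ?_⟩
  intro t _ y
  have hA : ∑ c : ZMod p, ee p (t * c) *
      ∑ a ∈ univ.filter (fun a : E ⧸ H → Fin n => ∑ ω, dg (a ω) = c), T y a a =
      ∑ a : E ⧸ H → Fin n, ee p (t * ∑ ω, dg (a ω)) * T y a a := by
    rw [← Finset.sum_fiberwise univ (fun a : E ⧸ H → Fin n => ∑ ω, dg (a ω))]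
    refine Finset.sum_congr rfl fun c _ => ?_
    rw [Finset.mul_sum]
    refine Finset.sum_congr rfl fun a ha => ?_
    rw [(Finset.mem_filter.1 ha).2]
  have hB : ∀ (s' : E ⧸ H → E) (hs' : ∀ ω, (s' ω : E ⧸ H) = ω),
      ∑ a : E ⧸ H → Fin n, ee p (t * ∑ ω, dg (a ω)) * T y a a =
      ∑ a : E ⧸ H → Fin n, ee p (t * ∑ ω, dg (a ω)) *
        W ρ (Equiv.mulLeft (y : E ⧸ H)) (co H s' hs' y) a a := by
    intro s' hs'
    let k : E ⧸ H → H := fun ω => ⟨(s ω)⁻¹ * s' ω, QuotientGroup.eq.1 (by rw [hs, hs'])⟩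
    rw [show co H s' hs' y = fun ω => (k (Equiv.mulLeft (y : E ⧸ H) ω))⁻¹ * co H s hs y ω * k ω by
      funext ω; apply Subtype.ext; simp [co, k, mul_assoc]]
    exact (W_conj ρ dg hρ (fun c => ee p (t * c)) _ _ k).symm
  show Γ t y = _
  rw [hA]
  by_cases hy : y ∈ H
  · obtain ⟨e, he⟩ := exists_enum H hr hi x⁻¹ (by simpa using hx)
    have hs' : ∀ ω, ((x⁻¹ ^ (e.symm ω : ℕ) : E) : E ⧸ H) = ω := fun ω => by
      rw [← he, Equiv.apply_symm_apply]
    have hy1 : (y : E ⧸ H) = 1 := (QuotientGroup.eq_one_iff y).2 hy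
    rw [hB _ hs', h1 t ⟨y, hy⟩, Finset.prod_range]
    simp only [W, Matrix.of_apply, Equiv.coe_mulLeft, hy1, one_mul, Finset.mul_sum, ee_sum,
      ← Finset.prod_mul_distrib]
    rw [sum_prod_pi (fun ω j => ee p (t * dg j) * ρ (co H _ hs' y ω) j j), ← Equiv.prod_comp e]
    refine Finset.prod_congr rfl fun j _ => ?_
    rw [show co H _ hs' y (e j) = MulAut.conjNormal (x ^ (j : ℕ)) ⟨y, hy⟩ by
      apply Subtype.ext; rw [MulAut.conjNormal_apply]; simp [co, hy1, mul_assoc]]
  · obtain ⟨e, he⟩ := exists_enum H hr hi y hy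
    have hs' : ∀ ω, ((y ^ (e.symm ω : ℕ) : E) : E ⧸ H) = ω := fun ω => by
      rw [← he, Equiv.apply_symm_apply]
    have hyr : y ^ r ∈ H := hi ▸ H.pow_index_mem y
    have r0 : 0 < r := hr.pos
    have hσ : ∀ (j : ℕ) (hj : j + 1 < r),
        (y : E ⧸ H) * e ⟨j, by omega⟩ = e ⟨j + 1, hj⟩ := by
      intro j hj
      rw [he, he, ← QuotientGroup.mk_mul, pow_succ']
    have hc1 : ∀ (j : ℕ) (hj : j + 1 < r), co H _ hs' y (e ⟨j, by omega⟩) = 1 := by
      intro j hj
      apply Subtype.ext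
      simp [co, hσ j hj, pow_succ']
    have hσ' : (y : E ⧸ H) * e ⟨r - 1, by omega⟩ = e ⟨0, r0⟩ := by
      rw [he, he, ← QuotientGroup.mk_mul, ← pow_succ', pow_zero, QuotientGroup.mk_one,
        QuotientGroup.eq_one_iff]
      simpa [Nat.sub_add_cancel r0] using hyr
    have hc2 : co H _ hs' y (e ⟨r - 1, by omega⟩) = ⟨y ^ r, hyr⟩ := by
      apply Subtype.ext
      simp [co, hσ', ← pow_succ', Nat.sub_add_cancel r0]
    rw [hB _ hs', h2 t y ⟨y ^ r, hyr⟩ hy rfl]
    refine Fintype.sum_of_injective (fun (k : Fin n) (_ : E ⧸ H) => k)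
      (fun k k' h => congrFun h 1) _ _ ?_ ?_
    · intro a ha
      by_contra h0
      apply ha
      have h3 : ∀ (j : ℕ) (hj : j < r), a (e ⟨j, hj⟩) = a (e ⟨0, r0⟩) := by
        intro j
        induction j with
        | zero => intro _; rfl
        | succ j ih =>
          intro hj
          rw [← ih (by omega)]
          by_contra hne
          apply h0
          apply mul_eq_zero_of_right
          refine Finset.prod_eq_zero (mem_univ (e ⟨j, by omega⟩)) ?_
          show ρ (co H _ hs' y (e ⟨j, by omega⟩)) (a ((y : E ⧸ H) * e ⟨j, by omega⟩))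
            (a (e ⟨j, by omega⟩)) = 0
          rw [hc1 j hj, map_one, hσ j hj]
          exact Matrix.one_apply_ne hne
      refine ⟨a (e ⟨0, r0⟩), funext fun ω => ?_⟩
      rw [← e.apply_symm_apply ω]
      exact (h3 _ (e.symm ω).2).symm
    · intro k
      have hc : Fintype.card (E ⧸ H) = r := by rw [← Nat.card_eq_fintype_card]; exact hi
      simp only [W, Matrix.of_apply, Finset.sum_const, Finset.card_univ, hc, nsmul_eq_mul]
      rw [Finset.prod_eq_single (e ⟨r - 1, by omega⟩), hc2]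
      · congr 2; ring
      · intro ω _ hω
        obtain ⟨⟨j, hj⟩, rfl⟩ := e.surjective ω
        have : j + 1 < r := by
          by_contra hh
          exact hω (by congr 2; omega)
        rw [hc1 j this, map_one, Matrix.one_apply_eq]
      · simp

end H48.KgvTm
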