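/- Tower ON2: the case of odd order. -/
import Cfsg.Agent.H89.ON2Spec
import Cfsg.Agent.H1.CoprimeGen
import Cfsg.Agent.H42.OddOrder

set_option autoImplicit false
set_option linter.unusedSectionVars false

namespace H48.ON2

open MulAction Cfsg Subgroup H89.K H98 H65 H89.ON2
open scoped commutatorElement

universe u

variable {G Ω : Type u} [Group G] [Finite G] [MulAction G Ω] {N F : Ω → Subgroup G} {p : ℕ}
  {a b : Ω}

theorem mul_pow_mem {H K : Subgroup G} (hK : K ≤ H) (hd : ⁅H, H⁆ ≤ K) {x y : G} (hx : x ∈ H)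
    (hy : y ∈ H) {n : ℕ} (h1 : x ^ n ∈ K) (h2 : y ^ n ∈ K) : (x * y) ^ n ∈ K := by
  have := (normal_subgroupOf_iff_le_normalizer hK).2 (le_normalizer_of_commutator_le hd hK)
  let π := QuotientGroup.mk' (K.subgroupOf H)
  have k : ∀ z : H, π z = 1 ↔ (z : G) ∈ K := fun z => QuotientGroup.eq_one_iff z
  have c : Commute (π ⟨x, hx⟩) (π ⟨y, hy⟩) := commutatorElement_eq_one_iff_commute.1 (by
    rw [← map_commutatorElement, k]; exact hd (commutator_mem_commutator hx hy))
  refine (k ((⟨x, hx⟩ * ⟨y, hy⟩) ^ n)).1 ?_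
  rw [map_pow, map_mul, c.mul_pow, ← map_pow, ← map_pow, (k _).2 h1, (k _).2 h2, one_mul]

theorem card_dvd_of_cyc {Y : Subgroup G} (h : IsCyclic Y) (hp : ∀ y ∈ Y, y ^ p = 1) :
    Nat.card Y ∣ p :=
  IsCyclic.exponent_eq_card (α := Y) ▸
    Monoid.exponent_dvd_of_forall_pow_eq_one fun y => Subtype.ext (hp y y.2)

theorem ex_pow [Fact p.Prime] {K : Subgroup G} (h : Nat.card K = p) {k k' : G} (hk : k ∈ K)
    (h1 : k ≠ 1) (hk' : k' ∈ K) : ∃ i : ℕ, k ^ i = k' :=
  (mem_powers_of_prime_card h (g := ⟨k, hk⟩) (g' := ⟨k', hk'⟩)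
    fun e => h1 (congrArg Subtype.val e)).imp fun _ e => congrArg Subtype.val e

variable (B : Base N F) (ho : ∀ a, Odd (Nat.card (N a)))
include B

theorem nF {g : G} (hg : g • a = a) : g ∈ normalizer (F a : Set G) :=
  mem_normalizer_fintype fun u hu => by simpa [hg] using B.fconj g a u hu

theorem fpf (hab : a ≠ b) {l f : G} (hl : l ∈ X N b a) (h1 : l ≠ 1) (hf : f ∈ F a)
    (h : f * l = l * f) : f = 1 :=
  B.reg hab.symm f hf ((B.cent hab hl h1 (B.le a hf)).1 h)

include ho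

theorem der_ne (a : Ω) : ⁅N a, N a⁆ ≠ N a := fun e => by
  have := H42.odd_order (ho a)
  obtain ⟨x, hx, y, -, h⟩ := B.nab a
  have : Nontrivial (N a) := (nontrivial_iff_exists_ne_one _).2 ⟨x, hx, fun e => h (by simp [e])⟩
  refine (Group.IsSolvable.commutator_lt_top_of_nontrivial (N a)).ne
    (map_injective (N a).subtype_injective ?_)
  rw [map_subtype_commutator, e, ← MonoidHom.range_eq_map, range_subtype]

theorem der (a : Ω) : ⁅N a, N a⁆ ≤ F a :=
  (B.max a _ (commutator_le_of_le le_rfl le_rfl)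
    (le_normalizer_commutator (B.stab_le a) (B.stab_le a))).resolve_left (der_ne B ho a)

theorem fne (a : Ω) : F a ≠ ⊥ := fun e => by
  obtain ⟨x, hx, y, hy, h⟩ := B.nab a
  exact h (commutatorElement_eq_one_iff_mul_comm.1
    (mem_bot.1 (e ▸ der B ho a (commutator_mem_commutator hx hy))))

theorem comm_of (hab : a ≠ b) {x y : G} (hx : x ∈ N a) (hy : y ∈ N a) (h : ⁅x, y⁆ • b = b) :
    x * y = y * x :=
  commutatorElement_eq_one_iff_mul_comm.1
    (B.reg hab.symm _ (der B ho a (commutator_mem_commutator hx hy)) h)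

theorem commK (hab : a ≠ b) {x y : G} (hx : x ∈ X N a b) (hy : y ∈ X N a b) : x * y = y * x :=
  comm_of B ho hab hx.1 hy.1
    (mul_mem (mul_mem (mul_mem hx hy) (inv_mem hx)) (inv_mem hy)).2

variable [hp : Fact p.Prime]

theorem pw (hab : a ≠ b) (h : p ∣ Nat.card (X N a b)) {x : G} (hx : x ∈ N a) : x ^ p ∈ F a := by
  let M : Subgroup G :=
    { carrier := {x | x ∈ N a ∧ x ^ p ∈ F a}
      one_mem' := ⟨one_mem _, by simp⟩
      mul_mem' := fun h1 h2 =>
        ⟨mul_mem h1.1 h2.1, mul_pow_mem (B.le a) (der B ho a) h1.1 h2.1 h1.2 h2.2⟩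
      inv_mem' := fun h1 => ⟨inv_mem h1.1, by rw [inv_pow]; exact inv_mem h1.2⟩ }
  obtain ⟨k, hk⟩ := exists_prime_orderOf_dvd_card' p h
  rcases B.max a M (fun _ h => h.1) (fun g hg => mem_normalizer_fintype fun u hu =>
    ⟨B.conj_of_fix hg hu.1, by
      rw [conj_pow]; exact conj_mem_of_mem_normalizer (nF B hg) hu.2⟩) with e | e
  · exact (e.ge hx).2
  · have : (k : G) = 1 := B.reg hab.symm _ (e ⟨k.2.1, by
      rw [← coe_pow, ← hk, pow_orderOf_eq_one]; exact one_mem _⟩) k.2.2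
    exact absurd (hk.symm.trans (orderOf_eq_one_iff.2 (Subtype.ext this))) hp.out.one_lt.ne'

theorem pwK (hab : a ≠ b) (h : p ∣ Nat.card (X N a b)) {x : G} (hx : x ∈ X N a b) : x ^ p = 1 :=
  B.reg hab.symm _ (pw B ho hab h hx.1) (pow_mem hx p).2

theorem cardK (hab : a ≠ b) (h : p ∣ Nat.card (X N b a)) : Nat.card (X N b a) = p := by
  refine Nat.dvd_antisymm (card_dvd_of_cyc (by_contra fun hc => fne B ho a (eq_bot_iff.2 ?_))
    fun _ => pwK B ho hab.symm h) h
  have : IsMulCommutative (X N b a) := ⟨⟨fun x y => Subtype.ext (commK B ho hab.symm x.2 y.2)⟩⟩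
  exact H1.le_of_noncyclic_centralizer_le hc (fun g hg => nF B hg.2)
    (B.card_X hab hab.symm ▸ (B.cop hab).symm) ⊥ fun l hl h1 f hf =>
      fpf B hab hl h1 hf.1 (mem_centralizer_singleton_iff.1 hf.2)

theorem dec (hab : a ≠ b) (hK : Nat.card (X N a b) = p) (hL : Nat.card (X N b a) = p) :
    N a ≤ F a ⊔ X N a b := by
  have nK : X N b a ≤ normalizer (X N a b : Set G) :=
    le_normalizer_of_le_centralizer fun l hl k hk => B.comm hab hk hl
  have nH : X N b a ≤ normalizer (N a : Set G) := fun l hl => B.stab_le a hl.2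
  have mA := fun x => mem_sup_right_norm nK (x := x)
  have pA : ∀ x ∈ X N a b ⊔ X N b a, x ^ p = 1 := fun x hx => by
    obtain ⟨k, hk, l, hl, rfl⟩ := (mA x).1 hx
    rw [Commute.mul_pow (B.comm hab hk hl), pwK B ho hab hK.symm.dvd hk,
      pwK B ho hab.symm hL.symm.dvd hl, one_mul]
  have AH : ∀ x ∈ X N a b ⊔ X N b a, x ∈ N a → x ∈ X N a b := fun x hx h =>
    ⟨h, (sup_le inf_le_right (inf_le_left.trans (B.le_stab b)) : _ ≤ stabilizer G b) hx⟩
  have hA : IsPGroup p ↥(X N a b ⊔ X N b a) := isPGroup_iff_forall.2 fun x hx =>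
    ⟨1, by rw [pow_one, pA x hx]⟩
  obtain ⟨S, hS, h1⟩ := exists_isSyl_le hA (sup_le_sup_right inf_le_left (X N b a))
  have h2 := hS.inf_of_le_normalizer le_sup_left (hS.le.trans (sup_le le_normalizer nH))
  have h3 : N a ≤ F a ⊔ S ⊓ N a := le_of_forall_prime_pow_mem fun q hq _ x hx ⟨n, hn⟩ => by
    by_cases e : q = p
    · subst e
      obtain ⟨g, hg, h⟩ := h2.exists_cj_le (isPGroup_zpowers hn) (zpowers_le.2 hx)
      have := mul_mem_sup (der B ho a (commutator_mem_commutator hx hg))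
        (h (conj_mem_cj (mem_zpowers x)))
      simpa [commutatorElement_def, mul_assoc] using this
    · have h4 : (p.Coprime (orderOf x)) := (((Nat.coprime_primes hp.out hq).2
        (Ne.symm e)).pow_right n).coprime_dvd_right (orderOf_dvd_of_pow_eq_one hn)
      obtain ⟨m, hm⟩ := exists_pow_eq_self_of_coprime h4
      exact mem_sup_left (hm ▸ pow_mem (pw B ho hab hK.symm.dvd hx) m)
  refine h3.trans (sup_le_sup_left (by_contra fun h4 => ?_) _)
  obtain ⟨x, hx, h5⟩ := SetLike.exists_of_lt (lt_inf_normalizer hS.isPGroup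
    (h1.lt_of_ne fun e => h4 fun y hy => AH y (e ▸ hy.1) hy.2))
  obtain ⟨w, hw, l₀, hl₀, rfl⟩ := (mem_sup_right_norm nH).1 (hS.le hx.1)
  have w1 : w ∈ normalizer ((X N a b ⊔ X N b a : Subgroup G) : Set G) := by
    simpa using mul_mem hx.2 (le_normalizer (inv_mem (mem_sup_right hl₀)))
  have w2 : w • b ≠ b := fun e => h5 (mul_mem_sup ⟨hw, e⟩ hl₀)
  have w3 : ∀ y ∈ X N a b ⊔ X N b a, y • a = a → w * y * w⁻¹ * y⁻¹ ∈ X N a b := fun y hy h =>
    AH _ (mul_mem (conj_mem_of_mem_normalizer w1 hy) (inv_mem hy)) (by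
      simpa [mul_assoc] using mul_mem hw (B.conj_of_fix h (inv_mem hw)))
  have w4 : ∀ k ∈ X N a b, w * k = k * w := fun k hk =>
    comm_of B ho hab hw hk.1 (w3 k (mem_sup_left hk) (B.fix a k hk.1)).2
  have w5 : ∀ k ∈ X N a b, ∀ l ∈ X N b a, l ≠ 1 → ∀ f ∈ F a, f * (k * l) = k * l * f → f = 1 :=
    fun k hk l hl l1 f hf h => by
      have k1 := w3 l (mem_sup_right hl) hl.2
      obtain ⟨i, rfl⟩ := ex_pow hK k1 (fun e => w2 ((B.cent hab hl l1 hw).1 (by
        rwa [mul_inv_eq_one, mul_inv_eq_iff_eq_mul] at e))) hk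
      have k2 : ∀ i : ℕ, (w * l * w⁻¹ * l⁻¹) ^ i * l = w ^ i * l * (w ^ i)⁻¹ := fun i => by
        induction i with
        | zero => simp
        | succ i ih =>
          rw [show w ^ (i + 1) * l * (w ^ (i + 1))⁻¹ = w * (w ^ i * l * (w ^ i)⁻¹) * w⁻¹ by group,
            ← ih, ← mul_assoc w, w4 _ (pow_mem k1 i), pow_succ]
          simp only [mul_assoc, inv_mul_cancel, mul_one]
      have k3 := fpf B hab hl l1 (conj_mem_of_mem_normalizer' (nF B (B.fix a _ (pow_mem hw i))) hf)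
        (by
          rw [k2] at h
          calc _ = (w ^ i)⁻¹ * (f * (w ^ i * l * (w ^ i)⁻¹)) * w ^ i := by group
            _ = _ := by rw [h]; group)
      simpa [mul_assoc, inv_mul_eq_one] using k3
  obtain ⟨k, hk, k1⟩ := B.exists_ne hab
  have : IsMulCommutative ↥(X N a b ⊔ X N b a) := ⟨⟨fun x y => Subtype.ext (by
    obtain ⟨k, hk, l, hl, e⟩ := (mA x).1 x.2
    obtain ⟨k', hk', l', hl', e'⟩ := (mA y).1 y.2
    rw [coe_mul, coe_mul, e, e']
    exact (Commute.mul_left (Commute.mul_right (commK B ho hab hk hk') (B.comm hab hk hl'))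
      (Commute.mul_right (B.comm hab hk' hl).symm (commK B ho hab.symm hl hl'))).eq)⟩⟩
  obtain ⟨n, hn⟩ := IsPGroup.iff_card.1 hA
  have h6 := H1.le_of_noncyclic_centralizer_le (A := X N a b ⊔ X N b a) (K := F a) (fun hc => by
      obtain ⟨l, hl, l1⟩ := B.exists_ne hab.symm
      have := eq_of_le_of_card_ge (le_sup_left : X N a b ≤ X N a b ⊔ X N b a)
        (hK ▸ Nat.le_of_dvd hp.out.pos (card_dvd_of_cyc hc pA))
      exact l1 (B.ti hab l (this.ge (mem_sup_right hl)).1 hl.1))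
    (sup_le (fun g hg => nF B (B.fix a g hg.1)) fun g hg => nF B hg.2)
    (hn ▸ (hK ▸ (B.cop hab).symm : p.Coprime _).pow_left n) (centralizer {k})
    fun x hx x1 f hf => by
      obtain ⟨k', hk', l, hl, rfl⟩ := (mA x).1 hx
      have h7 := mem_centralizer_singleton_iff.1 hf.2
      by_cases e : l = 1
      · rw [e, mul_one] at x1 h7
        obtain ⟨i, rfl⟩ := ex_pow hK hk' x1 hk
        exact mem_centralizer_singleton_iff.2 (Commute.pow_right h7 i)
      · exact w5 k' hk' l hl e f hf.1 h7 ▸ one_mem _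
  exact k1 (B.reg hab.symm k ((B.cf a).resolve_right (fun h => der_ne B ho a h.2)
    ⟨hk.1, fun f hf => mem_centralizer_singleton_iff.1 (h6 hf)⟩) hk.2)

omit B ho hp in
theorem jobOdd : H89.ON2.JobOdd.{u} := by
  intro G Ω _ _ _ N F B ho
  obtain ⟨a₀, b₀, c₀, h0, -, -⟩ := B.t2.big
  obtain ⟨p, hp, h1⟩ := Nat.exists_prime_and_dvd (mt card_eq_one.1 (B.ne h0))
  have := Fact.mk hp
  have hc : ∀ {a b}, a ≠ b → Nat.card (X N a b) = p := fun h =>
    cardK B ho h.symm (B.card_X h0 h ▸ h1)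
  refine ⟨p, B.toTI, hp, hc, B.le, B.fconj, B.nil, B.reg,
    fun a => (ho a).of_dvd_nat (card_dvd_of_le (B.le a)), fun a => ?_, fne B ho,
    fun {a b} h x hx => (mem_sup_right_norm (H := X N a b) fun g hg => nF B (B.fix a g hg.1)).1
      (dec B ho h (hc h) (hc h.symm) hx)⟩
  obtain ⟨b, hb, -⟩ := B.t2.exists_third a a
  exact hp.coprime_iff_not_dvd.1 (hc hb.symm ▸ (B.cop hb.symm).symm)

end H48.ON2
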