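import Cfsg.Agent.H36.QFK0
import Cfsg.Agent.H63.OcFin
import Cfsg.Agent.H97.QTBig

/-! Tower QF, job `JobFF4`, part one: the two classes of involutions of a group with the coordinates of
`²F₄(q)`, and the centraliser of the involution that is not `2`-central. -/

set_option autoImplicit false
set_option linter.unusedSectionVars false
set_option linter.unusedSimpArgs false
set_option linter.unnecessarySeqFocus false

namespace H48.FF4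

open Cfsg Subgroup H14 H98 H97 H36.QE H36.QF
open H14.CO (cen cen1 nor cm Tw mem_cen mem_cen1)
open H63.Oc hiding Hy
open H4.Pa

universe u v

section Abs

variable {S : Type u} [Group S]

/-- the two facts that give `NI` with an `A_4` inside a good subgroup -/
def NB (w : S) (Q : Subgroup S) : Prop := ∀ c ∈ Q, c ∈ cen Q → CO.Inv c →
  (∀ h ∈ cen1 w, h ^ 3 = 1 → c * (h * c * h⁻¹) * (h⁻¹ * c * h) = 1 → ¬ IsSyl 2 Q (cen1 c)) ∧
    (¬ IsSyl 2 Q (cen1 c) → ∃ X : Subgroup S, c ∈ X ∧ X ≤ cen1 w ∧ Gd X ∧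
      ∃ h ∈ X, h ^ 3 = 1 ∧ c * (h * c * h⁻¹) * (h⁻¹ * c * h) = 1)

theorem mp_nb {S' : Type u} [Group S'] (e : S ≃* S') {w : S} {Q : Subgroup S} :
    NB (e w) (Q.map e.toMonoidHom) ↔ NB w Q := by
  unfold NB; tr_simp e

theorem ni_of_nb [Finite S]
    (h : ∀ w : S, CO.Inv w → ¬ ZI w → ∃ w0 Q0, IsConj w0 w ∧ IsSyl 2 Q0 (cen1 w0) ∧ NB w0 Q0) :
    NI S := by
  have k : ∀ w Q, CO.Inv w → ¬ ZI w → IsSyl 2 Q (cen1 w) → NB w Q := fun w Q h1 h2 h3 => by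
    obtain ⟨w0, Q0, a, b, c⟩ := h w h1 h2
    exact pair_ind (fun e _ _ => (mp_nb e).2) a b c h3
  intro w c Q h1 h2 h3 h4 h5 h6 h7 _
  obtain ⟨X, hc, a1, a2, y, hy, a3, a4⟩ := (k w Q h1 h2 h3 c h5 h6 h4).2 h7
  refine ⟨X, hc, a1, a2, fun φ w' Q' b1 b2 b3 b4 b5 b6 b7 => ?_⟩
  refine (k w' Q' b2 b3 b5 _ b6 b7 ⟨fun e => h4.1 (congrArg Subtype.val (b1 (e.trans (map_one φ).symm))),
    by rw [← map_mul, ← map_one φ]; exact congrArg φ (Subtype.ext h4.2)⟩).1 (φ ⟨y, hy⟩) (b4 ⟨_, rfl⟩) ?_ ?_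
  · rw [← map_pow, ← map_one φ]; exact congrArg φ (Subtype.ext a3)
  · simp only [← map_inv, ← map_mul]
    rw [← map_one φ]; exact congrArg φ (Subtype.ext a4)

theorem rank_of_pair [Finite S] {a b : S} (ha : a ^ 3 = 1) (hb : b ^ 3 = 1) (ha1 : a ≠ 1)
    (hab : Commute a b) (hn : b ∉ zpowers a) : ¬ PRankLE 3 1 S := fun h => by
  have : Fact (Nat.Prime 3) := ⟨Nat.prime_three⟩
  have hc : ∀ x ∈ ({a, b} : Set S), ∀ y ∈ ({a, b} : Set S), x * y = y * x := by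
    rintro _ (rfl | rfl) _ (rfl | rfl)
    exacts [rfl, hab, hab.symm, rfl]
  have hm := isMulCommutative_closure hc
  have h1 := h (closure {a, b}) hm fun x hx => by
    induction hx using closure_induction with
    | mem x hx => rcases hx with rfl | rfl <;> assumption
    | one => exact one_pow 3
    | mul x y hx hy ihx ihy =>
      rw [Commute.mul_pow (congrArg Subtype.val (hm.1.1 ⟨x, hx⟩ ⟨y, hy⟩)), ihx, ihy, mul_one]
    | inv x _ ih => rw [inv_pow, ih, inv_one]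
  refine hn ((eq_of_le_of_card_ge (zpowers_le.2 (subset_closure (by simp))) ?_).ge
    (subset_closure (by simp) : b ∈ closure {a, b}))
  rwa [Nat.card_zpowers, orderOf_eq_prime ha ha1]

theorem mem_of_a4 {X : Subgroup S} {c h : S} (hc : c * c = 1) (h1 : h ∈ X) (h2 : c * h * c⁻¹ ∈ X)
    (e : c * (h * c * h⁻¹) * (h⁻¹ * c * h) = 1) : c ∈ X := by
  have : c = (c * h * c⁻¹ * h⁻¹ * h⁻¹)⁻¹ * h⁻¹ := by
    rw [eq_mul_inv_iff_mul_eq, eq_inv_iff_mul_eq_one, inv_eq_of_mul_eq_one_right hc, ← mul_eq_one_comm, ← e]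
    group
  have k := mul_mem (inv_mem (mul_mem (mul_mem h2 (inv_mem h1)) (inv_mem h1))) (inv_mem h1)
  rwa [← this] at k

end Abs

section Co

variable {K : Type*} [Field K] [CharP K 2] {T : TF K}

theorem A_of_comm {c : Co T} (h1 : c * x1 T 1 = x1 T 1 * c) (h8 : c * x8 T 1 = x8 T 1 * c) :
    c ∈ sA T ∧ c.a6 = 0 := by
  have b8 : c.b8 = 0 := by simpa [x1] using congrArg Co.b2 h1
  have a1 : c.a1 = 0 := by simpa [x8] using congrArg Co.b6 h8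
  have b2 : c.b2 = 0 := by simpa [x8, a1] using congrArg Co.a7 h8
  have a2 : c.a2 = 0 := by simpa [x8, a1] using congrArg Co.a5 h8
  have a3 : c.a3 = 0 := by simpa [x8, a1, a2, b2, b8] using congrArg Co.a6 h8
  have a8 : c.a8 = 0 := by simpa [x1, b8] using congrArg Co.b6 h1
  have a7 : c.a7 = 0 := by simpa [x1, b8, a8] using congrArg Co.a5 h1
  have b6 : c.b6 = 0 := by simpa [x1, b8, a8, a7] using congrArg Co.a3 h1
  have b4 : c.b4 = 0 := by simpa [x1, b8, a8, b6] using congrArg Co.a2 h1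
  have a6 : c.a6 = 0 := by simpa [x1, b8, a8, a7, b6, b4] using congrArg Co.a4 h1
  exact ⟨⟨a1, b2, a2, a3, b4, b6, a7, b8, a8⟩, a6⟩

theorem a5_of_comm {c d : Co T} (hc : c ∈ sA T) (hd : d.b8 = 1) (h : c * d = d * c) : c.a5 = 0 := by
  obtain ⟨a1, b2, a2, a3, b4, b6, a7, b8, a8⟩ := hc
  simpa [a1, b2, a2, a3, b4, b6, a7, b8, a8, hd, add_comm] using congrArg Co.a6 h

theorem cj_a5 (s : Co T) {c : Co T} (hc : c ∈ sA T) : (s * c * s⁻¹).a5 = c.a5 := by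
  obtain ⟨a1, b2, a2, a3, b4, b6, a7, b8, a8⟩ := hc
  simp [a1, b2, a2, a3, b4, b6, a7, b8, a8, T.sq]
  grind

theorem mul_a5 {c d : Co T} (hc : c ∈ sA T) : (c * d).a5 = c.a5 + d.a5 := by
  obtain ⟨a1, b2, a2, a3, b4, b6, a7, b8, a8⟩ := hc
  simp [a1, b2, a2, a3, b4, b6, a7, b8, a8]

theorem x5_comm {c : Co T} (hc : c ∈ sT5 T) (a : K) : c * x5 T a = x5 T a * c := by
  ext <;> simp [x5, hc.1, hc.2] <;> grind

end Co

section G

variable {K : Type v} [Field K] [Finite K] [CharP K 2] {T : TF K} {G : Type u} [Group G] [Finite G]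

/-- the coordinates cover the whole group -/
structure Md (A : AD T G) : Prop where
  br : A.Braid
  top : A.G0 = ⊤
  syl : ∀ P : Subgroup G, IsPGroup 2 P → ∃ g, ∀ x ∈ P, g * x * g⁻¹ ∈ A.S

/-- `g` normalises `A` and centralises `A / W` -/
def Sc (A : AD T G) (g : G) : Prop :=
  ∀ c ∈ sA T, ∃ c' ∈ sA T, g * A.ι c * g⁻¹ = A.ι c' ∧ c'.a5 = c.a5

variable {A : AD T G}

theorem Sc.mul {g g' : G} (h : Sc A g) (h' : Sc A g') : Sc A (g * g') := fun c hc => by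
  obtain ⟨d, hd, e, e'⟩ := h' c hc
  obtain ⟨f, hf, e1, e2⟩ := h d hd
  exact ⟨f, hf, by rw [conj_mul', e, e1], e2.trans e'⟩

theorem sc_ι (s : Co T) : Sc A (A.ι s) := fun c hc =>
  ⟨_, H19.ParTY.nrm_A s hc, ι_c _ s c, cj_a5 s hc⟩

theorem sc_n1 : Sc A A.n1 := fun c hc =>
  ⟨_, by simp_all [mem_sA, Co.nu1], n1_c A hc.1, by simp_all [mem_sA, Co.nu1]⟩

theorem sc_h (r : Kˣ) : Sc A (A.h (r ^ 2, r⁻¹)) := fun c hc =>
  ⟨_, by simp_all [mem_sA, dg], A.tor.h_conj _ c, by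
    have hs : T.σ r ≠ 0 := (map_ne_zero _).2 r.ne_zero
    simp [dg]
    field_simp⟩

theorem h_x5 (r : Kˣ) (a : K) : A.h (r ^ 2, r⁻¹) * A.ι (x5 T a) * (A.h (r ^ 2, r⁻¹))⁻¹ = A.ι (x5 T a) := by
  have hs : T.σ r ≠ 0 := (map_ne_zero _).2 r.ne_zero
  rw [A.tor.h_conj]
  congr 1
  ext <;> simp [dg, x5]
  field_simp

theorem h_x4 (r : Kˣ) (a : K) :
    A.h (r ^ 2, r⁻¹) * A.ι (x4 T a) * (A.h (r ^ 2, r⁻¹))⁻¹ = A.ι (x4 T (r * a)) := by
  rw [A.tor.h_conj, Asm.dg_x4, Asm.chi4_sl]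

theorem h_x1 (p : Kˣ × Kˣ) (a : K) : A.h p * A.ι (x1 T a) * (A.h p)⁻¹ = A.ι (x1 T (p.1 * a)) := by
  rw [A.tor.h_conj]
  congr 1
  ext <;> simp [dg, x1]

theorem trans_A {c : Co T} (hc : c ∈ sW T) (h1 : c ≠ 1) :
    ∃ m, m * A.ι (x5 T 1) * m⁻¹ = A.ι (x5 T 1) ∧ Sc A m ∧ m * A.τ * m⁻¹ = A.ι c := by
  have k : ∀ r : K, r ≠ 0 → ∃ m, m * A.ι (x5 T 1) * m⁻¹ = A.ι (x5 T 1) ∧
      Sc A m ∧ m * A.τ * m⁻¹ = A.ι (x4 T r) := fun r hr =>
    ⟨_, h_x5 (Units.mk0 r hr) 1, sc_h _, by rw [CS.τ, h_x4]; simp⟩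
  obtain ⟨g1, g2, g3, g4, g5, g6, g7, g8, g9, g10⟩ := id hc
  by_cases h6 : c.a6 = 0
  · obtain ⟨m, m1, m2, m3⟩ := k c.a4 fun e => h1 (by ext <;> simp [*])
    exact ⟨m, m1, m2, m3.trans (congrArg _ (by ext <;> simp [x4, *]))⟩
  · obtain ⟨m, m1, m2, m3⟩ := k c.a6 h6
    refine ⟨A.ι (x1 T (c.a4 / c.a6)) * A.n1 * m, ?_, ((sc_ι _).mul sc_n1).mul m2, ?_⟩
    · rw [conj_mul', m1, conj_mul', n1_c A (by rfl), nu1_x5, ι_c]
      congr 1
      rw [mul_inv_eq_iff_eq_mul]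
      ext <;> simp [x1, x5]
    · rw [conj_mul', m3, conj_mul', n1_c A (by rfl), nu1_x4, ι_c, W_conj _ (by simp [mem_sW, x6])]
      congr 1
      ext <;> simp [x1, x6, ww, *]

theorem pS (X : Subgroup (Co T)) : IsPGroup 2 (A.im X) := (Asm.isPGroup_Co.to_subgroup X).map _

variable (M : Md A)
include M

theorem Md.cen {g : G} (h : g * A.τ = A.τ * g) : g ∈ A.C :=
  H78.Par.cen_le A M.br (M.top ▸ mem_top g) h

theorem Md.sylS : IsSyl 2 A.S ⊤ := by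
  obtain ⟨P, hP⟩ := exists_isSyl 2 (⊤ : Subgroup G)
  obtain ⟨g, hg⟩ := M.syl P hP.isPGroup
  refine hP.of_card_ge (Asm.isPGroup_Co.of_surjective _ A.ι.rangeRestrict_surjective) le_top ?_
  rw [← card_cj g]
  exact card_le_of_le (by rintro _ ⟨x, hx, rfl⟩; exact hg x hx)

theorem Md.loc : Loc A.toCS := by
  have bc := H14.Oc.jobBC K T G A.toCS
  have e : centralizer ({A.τ} : Set G) = A.C := le_antisymm (fun g hg => M.cen (mem_cen1.1 hg))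
    fun g hg => mem_cen1.2 (bc.cenZ g hg 1)
  refine Asm.jobs.loc ⟨fun g hg => le_normalizer (M.cen hg), ?_, ?_⟩
  · have h := M.sylS.not_dvd_relIndex
    rw [relIndex_top_right] at h
    exact (Nat.odd_iff.2 (Nat.two_dvd_ne_zero.1 h)).of_dvd_nat
      (index_dvd_of_le (by rintro _ ⟨c, rfl⟩; exact A.ι_mem c))
  · rw [e, ← map_eq_bot_iff_of_injective _ A.C.subtype_injective]
    have ho : Odd (Nat.card ((oddCore A.C).map A.C.subtype)) := by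
      rw [card_map_of_injective A.C.subtype_injective]; exact H2.odd_card_oddCore _
    have k : ∀ x ∈ (oddCore A.C).map A.C.subtype, Tw x → x = 1 := fun x hx h =>
      h.eq_one_of_odd (ho.of_dvd_nat (orderOf_dvd_natCard _ hx))
    by_cases h : (oddCore A.C).map A.C.subtype ≤ A.im (sZ T)
    · exact eq_bot_iff.2 fun x hx => k x hx (CO.tw_of_mem (pS _) (h hx))
    · refine absurd (k _ (bc.nsub _ (map_subtype_le _) ?_ h ⟨x4 T 1, by simp [mem_sV, x4], rfl⟩)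
        (CO.tw_of_sq (τ_sq A.toCS))) (τ_ne A.toCS)
      refine (normal_subgroupOf_iff_le_normalizer (map_subtype_le _)).1 ?_
      rw [subgroupOf, comap_map_eq_self_of_injective A.C.subtype_injective]
      infer_instance

theorem Md.norW {g : G} (h : g ∈ cen1 (A.ι (x5 T 1))) : g ∈ nor (A.im (sW T)) :=
  H4.Pa.ce M.loc g (mem_cen1.1 h)

theorem Md.sc {g : G} (h : g ∈ cen1 (A.ι (x5 T 1))) : Sc A g := by
  obtain ⟨c, hc, e⟩ := nor_apply (M.norW h) (Asm.sZ_le_sW (Asm.x4_mem 1))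
  obtain ⟨m, m1, m2, m3⟩ := trans_A (A := A) hc fun e1 => τ_ne A.toCS (by
    rwa [e1, map_one, conj_eq_one_iff] at e)
  have h1 : m⁻¹ * g ∈ A.C := M.cen (comm_of_conj (by
    rw [conj_mul', CS.τ, e, ← m3, CS.τ]; group))
  obtain ⟨s, -, hs⟩ := (M.loc.ty.c5 _ h1).1 (comm_of_conj (by
    rw [conj_mul', conj_of_comm (mem_cen1.1 h)]
    nth_rewrite 1 [← m1]; group))
  have := m2.mul (sc_ι s)
  rwa [hs, mul_inv_cancel_left] at this

theorem Md.no_a4 {g : G} (h : g ∈ cen1 (A.ι (x5 T 1))) {c : Co T} (hc : c ∈ sA T)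
    (e : A.ι c * (g * A.ι c * g⁻¹) * (g⁻¹ * A.ι c * g) = 1) : c.a5 = 0 := by
  obtain ⟨d, hd, e1, e2⟩ := M.sc h c hc
  obtain ⟨f, hf, e3, e4⟩ := M.sc (inv_mem h) c hc
  rw [inv_inv] at e3
  rw [e1, e3, ← map_mul, ← map_mul, map_eq_one_iff _ A.inj] at e
  have := congrArg Co.a5 e
  rwa [mul_a5 (mul_mem hc hd), mul_a5 hc, e2, e4, CharTwo.add_self_eq_zero, zero_add] at this

theorem Md.syl5 : IsSyl 2 (A.im (sT5 T)) (cen1 (A.ι (x5 T 1))) := by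
  have h0 : A.im (sT5 T) ≤ cen1 (A.ι (x5 T 1)) := by
    rintro _ ⟨c, hc, rfl⟩
    rw [mem_cen1, ← map_mul, ← map_mul, x5_comm hc]
  refine isSyl_of_isSyl_normalizer ⟨le_inf h0 le_normalizer, pS _, fun P hP h1 h2 =>
    le_antisymm (fun g hg => ?_) h1⟩
  obtain ⟨c, hc, e⟩ := nor_apply (M.norW (h2 hg).1) (Asm.sZ_le_sW (Asm.x4_mem 1))
  obtain ⟨d, -, e'⟩ := nor_apply (inv_mem (h2 hg).2) (c := x1 T 1) ⟨rfl, rfl⟩
  have h3 : x1 T 1 * c * (x1 T 1)⁻¹ = c := A.inj (by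
    rw [← ι_c, ← e]
    calc _ = g * ((g⁻¹ * A.ι (x1 T 1) * g⁻¹⁻¹) * A.ι (x4 T 1) * (g⁻¹ * A.ι (x1 T 1) * g⁻¹⁻¹)⁻¹) * g⁻¹ := by
          group
      _ = _ := by rw [e', ι_c, H14.Oc.x4_comm, mul_inv_cancel_right])
  rw [W_conj _ hc] at h3
  have h4 : c.a6 = 0 := by simpa [ww, x1] using congrArg Co.a4 h3
  have h5 : g ∈ A.C := M.loc.bh.two g (M.loc.bh.nz g ⟨c, by simp_all [mem_sW, mem_sZ], e.symm⟩)
    (CO.tw_of_mem hP hg)
  exact (M.loc.ty.c5 g h5).1 (mem_cen1.1 (h2 hg).1)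

omit M in
theorem cj1 {c : Co T} (hc : c ∈ sQ1 T) : IsConj (A.ι c) (A.ι c.nu1) := isConj_iff.2 ⟨_, n1_c A hc⟩

omit M in
theorem cj8 {c : Co T} (hc : c ∈ sQ T) : IsConj (A.ι c) (A.ι c.nu8) := isConj_iff.2 ⟨_, n8_c _ hc⟩

omit M in
theorem cjZ {a : K} (ha : a ≠ 0) : IsConj A.τ (A.ι (x4 T a)) :=
  isConj_iff.2 ⟨_, by rw [CS.τ, h_x4 (Units.mk0 a ha)]; simp⟩

theorem Md.cls {w : G} (hw : CO.Inv w) : IsConj A.τ w ∨ IsConj (A.ι (x5 T 1)) w := by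
  obtain ⟨k, hk⟩ := M.syl _ hw.tw.zp
  obtain ⟨c, hc⟩ := hk w (mem_zpowers w)
  have h0 : IsConj (k * w * k⁻¹) w := (isConj_iff.2 ⟨k, rfl⟩).symm
  have h6 : IsConj A.τ (A.ι (x6 T 1)) := nu1_x4 (T := T) 1 ▸ cj1 rfl
  obtain ⟨g, -, h⟩ := M.loc.ty.cls _ (hc ▸ A.ι_mem c) (hw.cj k).2
  have h1 : IsConj (g * (k * w * k⁻¹) * g⁻¹) w := (isConj_iff.2 ⟨g, rfl⟩).symm.trans h0
  rcases h with ⟨a, h⟩ | h | h | h | ⟨v, h⟩ <;> rw [h] at h1
  · refine .inl ((cjZ fun e => hw.1 ?_).trans h1)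
    rw [e, show x4 T 0 = 1 from rfl, map_one] at h1
    exact isConj_one_right.1 h1
  · exact .inl (h6.trans h1)
  · exact .inr h1
  · refine .inr (IsConj.trans (IsConj.symm ?_) h1)
    have e : (x7 T 1).nu1.nu8 = x5 T 1 := by ext <;> simp [Co.nu1, Co.nu8, x7, x5]
    exact e ▸ (cj1 rfl).trans (cj8 (by simp [mem_sQ, Co.nu1, x7]))
  · have e : (x4 T v * x8 T 1).nu1 = x2 T 1 * x6 T v := by ext <;> simp [Co.nu1, x4, x8, x2, x6]
    have h2 := (e ▸ cj1 (A := A) (c := x4 T v * x8 T 1) (by simp [mem_sQ1, x4, x8])).symm.trans h1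
    by_cases hv : v = 0
    · rw [hv, show x6 T 0 = 1 from rfl, mul_one] at h2
      exact .inl (h6.trans ((nu8_x6 (T := T) 1 ▸ cj8 (A := A) (c := x6 T 1) ⟨rfl, rfl⟩ :).trans h2))
    · obtain ⟨g, -, e⟩ := M.loc.ty.cls26 v hv
      exact .inr ((isConj_iff.2 ⟨g, e⟩).symm.trans h2)

omit M

theorem n1_x5 (a : K) : Commute A.n1 (A.ι (x5 T a)) := comm_of_conj (by rw [n1_c A rfl, nu1_x5])

theorem x1_x5 (a b : K) : Commute (A.ι (x1 T a)) (A.ι (x5 T b)) := by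
  rw [Commute, SemiconjBy, ← map_mul, ← map_mul, x5_comm ⟨rfl, rfl⟩]

theorem a4_x4 (b : K) : A.ι (x4 T b) * (A.n1 * A.ι (x1 T 1) * A.ι (x4 T b) * (A.n1 * A.ι (x1 T 1))⁻¹) *
    ((A.n1 * A.ι (x1 T 1))⁻¹ * A.ι (x4 T b) * (A.n1 * A.ι (x1 T 1))) = 1 := by
  have e : (A.n1 * A.ι (x1 T 1))⁻¹ * A.ι (x4 T b) * (A.n1 * A.ι (x1 T 1)) =
      A.ι (x1 T 1)⁻¹ * (A.n1 * A.ι (x4 T b) * A.n1⁻¹) * (A.ι (x1 T 1)⁻¹)⁻¹ := by
    rw [mul_inv_rev, n1_inv]; simp [mul_assoc]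
  rw [e, conj_mul', ι_c, H14.Oc.x4_comm, mul_inv_cancel_right, n1_c A rfl, ι_c, ← map_mul, ← map_mul,
    map_eq_one_iff _ A.inj]
  ext <;> simp [Co.nu1, x4, x1] <;> grind

theorem h3_ne : A.n1 * A.ι (x1 T 1) ≠ 1 := fun e => by
  have h := a4_x4 (A := A) 1
  rw [e] at h
  simp only [one_mul, inv_one, mul_one] at h
  exact τ_ne A.toCS (by rwa [show A.ι (x4 T 1) * A.ι (x4 T 1) = 1 from τ_sq A.toCS, one_mul] at h)

/-- two commuting elements of order three -/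
theorem exists_pair (hb : A.Braid) : ∃ a b : G, a ^ 3 = 1 ∧ b ^ 3 = 1 ∧ a ≠ 1 ∧ Commute a b ∧ b ∉ zpowers a := by
  obtain ⟨g, hg⟩ : ∃ g, g = A.n8 * A.n1 * A.n8 := ⟨_, rfl⟩
  have n1 := A.n1_sq
  have n8 := A.n8_sq
  have gg : g * g = 1 := by
    rw [hg]; simp only [mul_assoc]
    rw [← mul_assoc A.n8 A.n8, n8, one_mul, ← mul_assoc A.n1, n1, one_mul, n8]
  have gi : g⁻¹ = g := inv_eq_of_mul_eq_one_right gg
  have e1 : g * A.ι (x1 T 1) * g⁻¹ = A.ι (x5 T 1) := by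
    rw [hg, conj_mul', conj_mul', n8_c _ ⟨rfl, rfl⟩, n1_c A (by simp [mem_sQ1, Co.nu8, x1]),
      n8_c _ (by simp [mem_sQ, Co.nu1, Co.nu8, x1])]
    congr 1
    ext <;> simp [Co.nu1, Co.nu8, x1, x5]
  have e5 : g * A.ι (x5 T 1) * g⁻¹ = A.ι (x1 T 1) := by
    rw [← e1, ← conj_mul', gg]; simp
  have c1 : Commute A.n1 (g * A.n1 * g⁻¹) := by
    have h : (A.n1 * (g * A.n1 * g⁻¹)) * (A.n1 * (g * A.n1 * g⁻¹)) = 1 := by
      rw [← (hb : _ = _), gi, hg]; simp only [pow_succ, pow_zero, one_mul, mul_assoc]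
    have h2 : g * A.n1 * g⁻¹ * (g * A.n1 * g⁻¹) = 1 := by rw [conj_mul, n1]; simp
    rw [Commute, SemiconjBy, ← inv_eq_of_mul_eq_one_right h, mul_inv_rev, inv_eq_of_mul_eq_one_right h2,
      n1_inv]
  have c2 : Commute (A.ι (x1 T 1)) (g * A.n1 * g⁻¹) := e5 ▸ ((n1_x5 (A := A) 1).symm.map (MulAut.conj g) :)
  have e : g * (A.n1 * A.ι (x1 T 1)) * g⁻¹ = g * A.n1 * g⁻¹ * A.ι (x5 T 1) := by rw [← e1]; group
  refine ⟨A.n1 * A.ι (x1 T 1), g * (A.n1 * A.ι (x1 T 1)) * g⁻¹, A.rank1, by rw [conj_pow, A.rank1]; simp,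
    h3_ne, e ▸ (c1.mul_left c2).mul_right ((n1_x5 1).mul_left (x1_x5 1 1)), fun ⟨k, hk⟩ => ?_⟩
  have c3 : Commute (g * (A.n1 * A.ι (x1 T 1)) * g⁻¹) (g * A.ι (x1 T 1) * g⁻¹) := by
    rw [← hk, e1]; exact ((n1_x5 1).mul_left (x1_x5 1 1)).zpow_left k
  have c4 : Commute (A.n1 * A.ι (x1 T 1)) (A.ι (x1 T 1)) := by
    simpa [mul_assoc] using c3.map (MulAut.conj g⁻¹)
  have c5 : Commute A.n1 (A.ι (x1 T 1)) := by simpa using c4.mul_left (Commute.refl _).inv_left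
  have h2 : (A.n1 * A.ι (x1 T 1)) ^ 2 = 1 := by
    rw [c5.mul_pow, sq, sq, n1, ← map_mul, Asm.x1_sq, map_one, one_mul]
  have h3 := A.rank1
  rw [pow_succ, h2, one_mul] at h3
  exact h3_ne h3

end G

end H48.FF4
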