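import Cfsg.Agent.H48.QPCU
import Cfsg.Agent.H5.QTU
import Cfsg.Agent.H11.QTC2
import Cfsg.Agent.H83.BSWD8
import Cfsg.Agent.S0255

/-! Quasithin tower, phase 2 (`blueprints/QP.md`): rows S1832 and S1833 from `T1821` and `TJM`. -/

set_option autoImplicit false

namespace H48.QP

open Cfsg Subgroup H98 H97 H97.NG H48.NG H97.QP H97.QT

universe u

section
variable {G : Type*} [Group G] [Finite G] {S : Subgroup G}

omit [Finite G] in
theorem comm_of_conj {y a c : G} (hy : Odd (orderOf y)) (h1 : y * a * y⁻¹ = c * a)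
    (h2 : Commute y c) (h3 : c ^ 4 = 1) : y ∈ centralizer ({a} : Set G) := by
  have key : ∀ n : ℕ, y ^ n * a = c ^ n * a * y ^ n := fun n => by
    induction n with
    | zero => simp
    | succ n ih =>
      rw [pow_succ', mul_assoc, ih, ← mul_assoc, ← mul_assoc, (h2.pow_right n).eq, mul_assoc (c ^ n),
        mul_inv_eq_iff_eq_mul.1 h1, pow_succ c]
      simp only [mul_assoc]
  refine mem_of_pow_mem_of_coprime (n := 4) (mem_centralizer_singleton_iff.2 ?_)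
    (Nat.Coprime.pow_right 2 (Nat.coprime_two_right.2 hy))
  rw [key, h3, one_mul]

theorem d8_data (h : PH S) (d : D8 S) :
    ∃ z x, H31.D8Data z x ∧ centralizer ({z} : Set G) = S := by
  obtain ⟨c8, W, W', f, f', hW, hW', hc⟩ := d
  obtain ⟨w, hw, hc⟩ := SetLike.not_le_iff_exists.1 hc
  obtain ⟨w', hw', hc⟩ : ∃ w' ∈ W', w' * w ≠ w * w' := by
    by_contra! e
    exact hc e
  have i1 : W.relIndex S = 2 := by
    have := H12.card_mul_relIndex hW
    rw [c8, f.card] at this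
    omega
  have n1 := (normal_subgroupOf_iff_le_normalizer hW).1 (normal_of_index_eq_two i1)
  have e1 := H32.NP.f_inv f hw
  have e2 := H32.NP.f_inv f' hw'
  obtain ⟨x, hx⟩ : ∃ x, x = w * w' := ⟨_, rfl⟩
  have hxS : x ∈ S := hx ▸ mul_mem (hW hw) (hW' hw')
  have e3 : x⁻¹ = w' * w := by rw [hx, mul_inv_rev, e1, e2]
  have m1 : x ^ 2 ∈ W := by
    have := mul_mem hw (conj_mem_of_mem_normalizer (n1 (hW' hw')) hw)
    rwa [e2, ← mul_assoc, ← mul_assoc, ← hx, mul_assoc, ← hx, ← sq] at this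
  have e4 : x ^ 4 = 1 := by rw [← H32.NP.f_sq f m1, ← pow_add]
  have e5 : x ^ 2 ≠ 1 := fun e => hc (by rw [← e3, ← hx]; exact inv_eq_of_mul_eq_one_left (sq x ▸ e))
  have o4 : orderOf x = 4 := orderOf_eq_prime_pow (p := 2) (n := 1) e5 e4
  have i2 : (zpowers x).relIndex S = 2 := by
    have := H12.card_mul_relIndex (zpowers_le.2 hxS)
    rw [c8, Nat.card_zpowers, o4] at this
    omega
  have two : ∀ a ∈ S, ∀ b ∈ S, a ∉ zpowers x → b ∉ zpowers x → a * b ∈ zpowers x :=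
    fun a ha b hb h1 h2 => (mul_mem_iff_of_index_two (H := (zpowers x).subgroupOf S) i2
      (a := ⟨a, ha⟩) (b := ⟨b, hb⟩)).2 (iff_of_false h1 h2)
  have e6 : w * x * w⁻¹ = x⁻¹ := by rw [e3, hx, ← mul_assoc, H32.NP.f_sq f hw, one_mul, e1]
  have hwx : w ∉ zpowers x := by
    rintro ⟨k, e⟩
    rw [← e, ((Commute.refl x).zpow_left k).eq, mul_inv_cancel_right] at e6
    exact e5 (by rw [sq]; nth_rw 1 [e6]; exact inv_mul_cancel x)
  have out : ∀ s ∈ S, s ∉ zpowers x → s * x * s⁻¹ = x⁻¹ ∧ s * s = 1 := fun s hs h1 => by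
    obtain ⟨k, e⟩ := two s hs w (hW hw) h1 hwx
    obtain rfl : s = x ^ k * w⁻¹ := eq_mul_inv_of_mul_eq e.symm
    have e7 : w * x ^ k * w⁻¹ = x⁻¹ ^ k := by rw [← e6, conj_zpow]
    rw [e1] at e6 e7 ⊢
    constructor
    · rw [mul_inv_rev, e1]
      calc _ = x ^ k * (w * x * w) * (x ^ k)⁻¹ := by group
        _ = _ := by rw [e6]; group
    · calc _ = x ^ k * (w * x ^ k * w) := by group
        _ = _ := by rw [e7]; group
  have hSC : S ≤ centralizer ({x ^ 2} : Set G) := fun s hs => mem_centralizer_singleton_iff.2 (by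
    by_cases h1 : s ∈ zpowers x
    · obtain ⟨k, rfl⟩ := h1
      exact ((Commute.refl x).zpow_left k).pow_right 2
    · rw [← mul_inv_eq_iff_eq_mul, ← conj_pow, (out s hs h1).1, inv_pow, inv_eq_iff_mul_eq_one,
        ← pow_add, e4])
  have hO := core_cent_ne_bot (z := x ^ 2) (by rw [← pow_add, e4]) e5
  have hT := h.syl.of_le hSC le_top
  have e : centralizer ({x ^ 2} : Set G) = S := by
    refine le_antisymm (hT.sup_res.ge.trans (sup_le le_rfl (res_le_of_forall fun y hy ho => ?_))) hSC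
    have ho := Nat.coprime_two_right.1 ho
    have hn := self_le_normalizer_pCoreOf (p := 2) _ hy
    have cz : Commute y (x ^ 2) := mem_centralizer_singleton_iff.1 hy
    have c1 : x ∈ pCoreOf 2 (centralizer ({x ^ 2} : Set G)) → Commute y x := fun hx => by
      have a1 : (y * x * y⁻¹) ^ 2 = x ^ 2 := by rw [conj_pow, cz.eq, mul_inv_cancel_right]
      have a2 : y * x * y⁻¹ ∈ zpowers x := by_contra fun c =>
        e5 (by rw [← a1, sq, (out _ (hT.pCoreOf_le (conj_mem_of_mem_normalizer hn hx)) c).2])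
      refine mem_centralizer_singleton_iff.1 ?_
      rcases H31.mem_zpowers_order_four o4 a2 with a | a | a | a
      · exact absurd (by rw [← a1, a, one_pow]) e5
      · exact comm_of_conj ho (c := 1) (by rw [a, one_mul]) (Commute.one_right y) (one_pow 4)
      · exact absurd (by rw [← a1, a, ← pow_mul, e4]) e5
      · exact comm_of_conj ho (a.trans (pow_succ x 2)) cz (by
          rw [← pow_mul, mul_comm, pow_mul, e4, one_pow])
    have c2 : ∀ a ∈ pCoreOf 2 (centralizer ({x ^ 2} : Set G)), a ∈ zpowers x → Commute y a :=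
      fun a ha h1 => by
        rcases H31.mem_zpowers_order_four o4 h1 with b | b | b | b
        · exact b ▸ Commute.one_right y
        · exact b ▸ c1 (b ▸ ha)
        · exact b ▸ cz
        · refine b ▸ (c1 ?_).pow_right 3
          have := pow_mem ha 3
          rwa [b, ← pow_mul, show 3 * 3 = 4 * 2 + 1 from rfl, pow_succ x (4 * 2), pow_mul, e4, one_pow,
            one_mul] at this
    refine hT.pCoreOf_le ((h.chr _ hSC hO).le_pCoreOf (zpowers_le.2 hy) (zpowers_le.2 fun a ha => ?_)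
      (mem_zpowers y))
    by_cases h1 : a ∈ zpowers x
    · exact (c2 a ha h1).eq.symm
    have m2 := conj_mem_of_mem_normalizer hn ha
    have m3 : y * a * y⁻¹ * a⁻¹ ∈ zpowers x := two _ (hT.pCoreOf_le m2) _
      (inv_mem (hT.pCoreOf_le ha)) (fun c => h1 (by
        have := (c2 _ m2 c).eq
        rw [mul_assoc y, mul_assoc y, mul_right_inj, inv_mul_cancel_right] at this
        rwa [mul_assoc, this] at c)) (by rwa [inv_mem_iff])
    refine (mem_centralizer_singleton_iff.1 (comm_of_conj ho (inv_mul_cancel_right _ a).symm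
      (c2 _ (mul_mem m2 (inv_mem ha)) m3) ?_)).symm
    obtain ⟨k, hk⟩ := m3
    rw [← hk, ← zpow_natCast, ← zpow_mul, mul_comm, zpow_mul, zpow_natCast, e4, one_zpow]
  exact ⟨_, x, ⟨o4, rfl, e ▸ c8, fun s hs h1 => (out s (e ▸ hs) h1).1,
    fun s hs h1 => (out s (e ▸ hs) h1).2⟩, e⟩

end

variable {G : Type u} [Group G] [Finite G] [IsSimpleGroup G]

theorem ph (h21 : T1821.{u}) (hG : ¬ IsMulCommutative G) (hQ : IsQTKE G) (T : Sylow 2 G)
    (hE : calLf (T : Subgroup G) = ∅) {M₁ M₂ : Subgroup G}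
    (h1 : M₁ ∈ maxTwoLocalsContaining (Cs (T : Subgroup G)))
    (h2 : M₂ ∈ maxTwoLocalsContaining (Cs (T : Subgroup G))) (hne : M₁ ≠ M₂) :
    PH (T : Subgroup G) := by
  have hT := isSyl_sylow T
  have cH : ∀ {H : Subgroup G}, pCoreOf 2 H ≠ ⊥ → pCore 2 H ≠ ⊥ := fun hO e =>
    hO (pCoreOf_eq_bot_iff.2 e)
  refine ⟨hT, fun e => ?_, res_eq_self_of_perfect (H14.quasi_of_simple hG).1.commutator_eq_top,
    fun H hH hO => calH_charP hQ.2.2 T ⟨cH hO, hH⟩, fun H hH hO => by_contra fun hs => ?_,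
    fun H _ hO => (H11.QT.sqtk_of_calH hG hQ (cH hO)).1 3 Nat.prime_three (by decide)⟩
  · obtain ⟨Q, q1, q2, -⟩ := h1.1.1
    obtain ⟨g, -, hg⟩ := hT.exists_cj_le q1 le_top
    exact q2 (cj_eq_bot_iff.1 (le_bot_iff.1 (e ▸ hg)))
  obtain ⟨L, hL, -⟩ := H11.QT.C.exists_le (K := (⊤ : Subgroup H)) IsSubnormal.top
    fun e => hs (Group.isSolvable_of_surjective (f := (⊤ : Subgroup H).subtype)
      fun x => ⟨⟨x, trivial⟩, rfl⟩)
  have a2 : SubN (L.map H.subtype) H := subN_map_subtype (H11.QT.C.subnormal hL)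
  have a3 : L.map H.subtype ⊔ T ≤ H := sup_le a2.le hH
  obtain ⟨K, hK, hm⟩ := (Set.toFinite (calL (T : Subgroup G))).exists_maximal
    ⟨_, (H5.QT.mem_calL_iff hT).2 ⟨(H5.QT.intr_of_calC hL).map H.subtype_injective,
      a2.of_le le_sup_left a3, H5.QT.pCore_ne_bot_of_le hT (cH hO) le_sup_right a3⟩⟩
  obtain ⟨k1, k2, k3⟩ := (H5.QT.mem_calL_iff hT).1 hK
  have c := calH_charP hQ.2.2 T (H := K ⊔ T) ⟨k3, le_sup_right⟩
  have e1 : ⁅oz 2 (pCoreOf 2 (K ⊔ T)), K⁆ = ⊥ := by_contra fun e => Set.notMem_empty K (hE ▸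
    ⟨hK, ⟨k1.1, by rw [oddGenerated_eq, res_eq_self_of_perfect k1.2.1],
      H14.charP_iff_fstar.1 (H5.QT.calL_charP hQ.2.2 T hK)⟩,
      H5.QT.not_cent_down (p := 2) k1.2.1 k2 e⟩)
  have e2 : K ⊔ T ≤ Cs (T : Subgroup G) := sup_le (le_centralizer_iff.1
    ((c.oz_le_oz_pCoreOf (hT.of_le le_sup_right le_top).pCoreOf_le le_sup_right).trans
      (commutator_eq_bot_iff_le_centralizer.1 e1))) (le_Cs _)
  have e3 := (h21 hG hQ T K ⟨hK, fun K' h3 h4 => le_antisymm (hm h3 h4) h4⟩).2.2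
  exact hne ((e3.le ⟨h1.1, e2.trans h1.2⟩).trans (e3.le ⟨h2.1, e2.trans h2.2⟩).symm)

theorem main (h21 : T1821.{u}) (hJ : TJM.{u}) (hG : ¬ IsMulCommutative G) (hQ : IsQTKE G)
    (T : Sylow 2 G) (hE : calLf (T : Subgroup G) = ∅)
    (hZ : ∃ M₁ M₂ : Subgroup G, M₁ ∈ maxTwoLocalsContaining (Cs (T : Subgroup G)) ∧
      M₂ ∈ maxTwoLocalsContaining (Cs (T : Subgroup G)) ∧ M₁ ≠ M₂) :
    PH (T : Subgroup G) ∧ ∃ z x, H31.D8Data z x ∧ centralizer ({z} : Set G) = T := by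
  obtain ⟨M₁, M₂, h1, h2, hne⟩ := hZ
  have p := ph h21 hG hQ T hE h1 h2 hne
  refine ⟨p, (hJ G _ p).elim (d8_data p) fun ⟨M, d⟩ => (hne ?_).elim⟩
  obtain ⟨N, hN, h⟩ : ∃ N : Subgroup G, IsMaximalTwoLocal N ∧
      ∀ H : Subgroup G, Cs (T : Subgroup G) ≤ H → pCoreOf 2 H ≠ ⊥ → H ≤ N := by
    by_cases hC : Cs (T : Subgroup G) ≤ M
    · exact ⟨M, d.max, fun H hH hO => (d.fac H ((le_Cs _).trans hH) hO).trans
        (sup_le (inf_le_right.trans ((cent_ZH_le _ H).trans hC)) inf_le_right)⟩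
    · exact jobCU G _ M d hC
  exact (h1.1.2 N hN.1 (h _ h1.2 (H12.core_ne_bot_of_local h1.1.1))).symm.trans
    (h2.1.2 N hN.1 (h _ h2.2 (H12.core_ne_bot_of_local h2.1.1)))

theorem s1833 (h21 : T1821.{u}) (hJ : TJM.{u}) (hG : ¬ IsMulCommutative G) (hQ : IsQTKE G)
    (T : Sylow 2 G) (hE : calLf (T : Subgroup G) = ∅)
    (hZ : ∃ M₁ M₂ : Subgroup G, M₁ ∈ maxTwoLocalsContaining (Cs (T : Subgroup G)) ∧
      M₂ ∈ maxTwoLocalsContaining (Cs (T : Subgroup G)) ∧ M₁ ≠ M₂) : Cs (T : Subgroup G) = T := by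
  obtain ⟨-, z, x, d, e⟩ := main h21 hJ hG hQ T hE hZ
  refine le_antisymm (le_trans (Cs_le_cent (mem_oZ.2 ⟨?_, fun t ht => ?_, ?_⟩)) e.le) (le_Cs _)
  · exact e ▸ mem_centralizer_singleton_iff.2 rfl
  · exact mem_centralizer_singleton_iff.1 (e ▸ ht)
  · rw [sq, d.t_mul_self]

theorem s1832 (h21 : T1821.{u}) (hJ : TJM.{u}) (hG : ¬ IsMulCommutative G) (hQ : IsQTKE G)
    (T : Sylow 2 G) (hE : calLf (T : Subgroup G) = ∅)
    (hZ : ∃ M₁ M₂ : Subgroup G, M₁ ∈ maxTwoLocalsContaining (Cs (T : Subgroup G)) ∧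
      M₂ ∈ maxTwoLocalsContaining (Cs (T : Subgroup G)) ∧ M₁ ≠ M₂) :
    (∃ (F : Type) (_ : Field F) (_ : Fintype F), Fintype.card F = 2 ∧
        Nonempty (G ≃* Matrix.ProjectiveSpecialLinearGroup (Fin 3) F)) ∨
      Nonempty (G ≃* ↥(alternatingGroup (Fin 6))) := by
  obtain ⟨p, z, x, d, -⟩ := main h21 hJ hG hQ T hE hZ
  rcases H83.alt6_or_psl7_of_d8Data d fun N _ => p.index_ne_two N with h | ⟨F, _, _, hF, ⟨e⟩⟩
  · exact Or.inr h
  · obtain ⟨e'⟩ := Cfsg.Agent.S0255.result (F := F) (K := ZMod 2) hF (ZMod.card 2)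
    exact Or.inl ⟨ZMod 2, inferInstance, inferInstance, ZMod.card 2, ⟨e.trans e'⟩⟩

end H48.QP
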