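import Cfsg.Agent.H98.NoOv
import Cfsg.Agent.H97.QTPU
import Cfsg.Agent.H83.BaerSuzuki
import Cfsg.Agent.H48.QRSpec

/-! The qrc-lemma (S1824): indices, offenders, Stellmacher's descent. -/

set_option autoImplicit false

namespace H48.QR

open Subgroup Cfsg H98 H96
open scoped commutatorElement

variable {G : Type*} [Group G]

/-- The centralizer of a subgroup. -/
abbrev cn (X : Subgroup G) : Subgroup G := centralizer (X : Set G)

/-- The normalizer of a subgroup. -/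
abbrev nr (X : Subgroup G) : Subgroup G := normalizer (X : Set G)

/-- `|V : C_V(B)|`. -/
noncomputable abbrev ix (B V : Subgroup G) : ℕ := (cn B).relIndex V

/-- `q ≤ 2`, realized inside `T`. -/
def Qd (T V : Subgroup G) : Prop :=
  ∃ B ≤ T, ¬ B ≤ cn V ∧ ⁅⁅V, B⁆, B⁆ = ⊥ ∧ ix B V ≤ ix V B ^ 2

/-- `q̂ ≤ 2`, realized inside `T`. -/
def Cb (T V : Subgroup G) : Prop :=
  ∃ B ≤ T, IsElementaryAbelian 2 B ∧ ¬ B ≤ cn V ∧ ⁅⁅⁅V, B⁆, B⁆, B⁆ = ⊥ ∧ ix B V ≤ ix V B ^ 2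

theorem bot_iff {A B : Subgroup G} : ⁅A, B⁆ = ⊥ ↔ A ≤ cn B := commutator_eq_bot_iff_le_centralizer

theorem le_bot_of {A B : Subgroup G} (h : A ≤ cn B) : ⁅A, B⁆ ≤ ⊥ := (bot_iff.2 h).le

theorem cn_of_le_bot {A B : Subgroup G} (h : ⁅A, B⁆ ≤ ⊥) : A ≤ cn B := bot_iff.1 (le_bot_iff.1 h)

theorem ix_cj (g : G) (B V : Subgroup G) : ix (cj g B) (cj g V) = ix B V := by
  rw [ix, cn, ← cj_centralizer, H97.QT.relIndex_cj]

theorem Cb.param {T V M : Subgroup G} (h : Cb T V) (hT : T ≤ M) : CubicParamLE M V 2 := by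
  obtain ⟨B, h1, h2, h3, h4, h5⟩ := h
  refine ⟨B, h1.trans hT, ⟨h3, fun b hb => ?_, fun b hb c hc => ?_⟩, h4, by rwa [inf_relIndex_left]⟩
  · rw [h2.2 b hb]; exact one_mem _
  · rw [H12.ea_comm h2 hb hc]; simp

theorem Qd.param {T V M : Subgroup G} (h : Qd T V) (hT : T ≤ M) (hV : IsElementaryAbelian 2 V)
    (hn : T ≤ nr V) : QuadParamLE M V 2 := by
  obtain ⟨B, h1, h3, h4, h5⟩ := h
  refine ⟨B, h1.trans hT, ⟨h3, fun b hb v hv => ?_, fun b hb c hc => ?_⟩, h4,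
    by rwa [inf_relIndex_left]⟩
  · have e1 := bot_iff.1 h4 (commutator_mem_commutator hv hb) b hb
    have e2 := hV.2 _ (commutator_le_left' (h1.trans hn) (commutator_mem_commutator hv hb))
    have e3 : v * b = ⁅v, b⁆ * b * v := by simp [commutatorElement_def]
    generalize ⁅v, b⁆ = c at e1 e2 e3
    rw [pow_two] at e2 ⊢
    rw [← mul_assoc, e3, mul_assoc, e3, ← mul_assoc, ← mul_assoc, mul_assoc c b c, e1,
      ← mul_assoc c c b, e2, one_mul]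
  · exact cn_of_le_bot (three_subgroups (le_normalizer_bot B) (le_normalizer_bot B)
      (le_normalizer_bot V) (by rw [commutator_comm B V, h4]) h4.le)
      (commutator_mem_commutator hb hc)

variable [Finite G]

theorem rpos (A B : Subgroup G) : 0 < A.relIndex B := Nat.pos_of_ne_zero FiniteIndex.index_ne_zero

theorem rl {A B : Subgroup G} (h : A ≤ B) (C : Subgroup G) : B.relIndex C ≤ A.relIndex C :=
  relIndex_le_of_le_left h (rpos _ _).ne'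

theorem rr (A : Subgroup G) {B C : Subgroup G} (h : B ≤ C) : A.relIndex B ≤ A.relIndex C :=
  relIndex_le_of_le_right h (rpos _ _).ne'

theorem rl' {A B C : Subgroup G} (h : A ⊓ C ≤ B) : B.relIndex C ≤ A.relIndex C := by
  rw [← inf_relIndex_right A]; exact rl h C

theorem two_le {A B : Subgroup G} (h : ¬ B ≤ A) : 2 ≤ A.relIndex B := by
  have := rpos A B
  have := mt relIndex_eq_one.1 h
  omega

omit [Finite G] in
theorem rmul {A B : Subgroup G} (h : A ≤ B) (C : Subgroup G) :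
    A.relIndex (B ⊓ C) * B.relIndex C = A.relIndex C := by
  rw [relIndex_inf_mul_relIndex, inf_eq_left.2 h]

omit [Finite G] in
theorem qd_of_le {T V B : Subgroup G} (h1 : B ≤ T) (h2 : ¬ B ≤ cn V) (h3 : ⁅⁅V, B⁆, B⁆ = ⊥)
    (h4 : ix B V ≤ ix V B) : Qd T V :=
  ⟨B, h1, h2, h3, h4.trans (Nat.le_self_pow two_ne_zero _)⟩

theorem lemS {U B : Subgroup G} (h1 : ¬ B ≤ cn U) (h2 : ix B U ≤ ix U B ^ 2) :
    ∃ B' ≤ B, ¬ B' ≤ cn U ∧ ∀ V ≤ U, ¬ B' ≤ cn V → ix B' V ≤ ix V B' ^ 2 := by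
  obtain ⟨D, ⟨d1, d2, d3⟩, hm⟩ := (wellFounded_lt (α := Subgroup G)).has_min
    {D | D ≤ B ∧ ¬ D ≤ cn U ∧ ix D U ≤ ix U D ^ 2} ⟨B, le_rfl, h1, h2⟩
  refine ⟨D, d1, d2, fun V hV hD => ?_⟩
  have k1 : ix U (cn V ⊓ D) ^ 2 ≤ ix (cn V ⊓ D) U := by
    by_cases e : cn V ⊓ D ≤ cn U
    · rw [ix, relIndex_eq_one.2 e]; exact rpos _ _
    · exact le_of_not_ge fun e' => hm _ ⟨inf_le_right.trans d1, e, e'⟩ (inf_lt_right.2 hD)
  have k2 := rmul (centralizer_anti (inf_le_right : cn V ⊓ D ≤ D)) U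
  have k3 := rmul (centralizer_anti hV) D
  have k4 := rr (cn D) (le_inf (le_centralizer_iff.1 (inf_le_left : cn V ⊓ D ≤ cn V)) hV)
  refine Nat.le_of_mul_le_mul_right ?_ (rpos (cn (cn V ⊓ D)) U)
  calc _ ≤ _ := Nat.mul_le_mul_right _ k4
    _ ≤ ix U D ^ 2 := k2.le.trans d3
    _ = ix U (cn V ⊓ D) ^ 2 * ix V D ^ 2 := by rw [← mul_pow]; exact congrArg (· ^ 2) k3.symm
    _ ≤ _ := by rw [mul_comm]; exact Nat.mul_le_mul_left _ k1

theorem qd_of_ncl {T H Q V B : Subgroup G} (hQ : H ≤ nr Q) (hT : Q ≤ T) (hB : B ≤ Q)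
    (h1 : ¬ B ≤ cn (ncl H V)) (hq : ⁅⁅ncl H V, B⁆, B⁆ = ⊥)
    (h2 : ix B (ncl H V) ≤ ix (ncl H V) B ^ 2) : Qd T V := by
  obtain ⟨D, d1, d2, d3⟩ := lemS h1 h2
  rw [le_centralizer_iff, ncl_le_iff] at d2
  push Not at d2
  obtain ⟨g, hg, d2⟩ := d2
  rw [le_centralizer_iff] at d2
  refine ⟨cj g⁻¹ D, (cj_le_of_le (d1.trans hB) (hQ (inv_mem hg))).trans hT,
    fun e => d2 (by rwa [← cj_centralizer, le_cj_iff]), ?_, ?_⟩
  · rw [← cj_inv_cj g V, ← cj_commutator, ← cj_commutator, cj_eq_bot_iff, ← le_bot_iff, ← hq]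
    exact commutator_mono (commutator_mono (cj_le_ncl hg) d1) d1
  · rw [← cj_inv_cj g V, ix_cj, ix_cj]
    exact d3 _ (cj_le_ncl hg) d2

theorem ix_of_best {p : ℕ} {U B : Subgroup G} (h : IsBestOffenderOn p U B) : ix B U ≤ ix U B := by
  have k := h.1 _ (inf_le_left : B ⊓ cn U ≤ B)
  rw [inf_eq_left.2 (le_centralizer_iff.1 inf_le_right),
    ← H7.relIndex_mul_card (inf_le_left : B ⊓ cn U ≤ B), inf_relIndex_left,
    ← H7.relIndex_mul_card (inf_le_left : U ⊓ cn B ≤ U), inf_relIndex_left, mul_comm (ix U B),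
    mul_assoc] at k
  exact Nat.le_of_mul_le_mul_right (Nat.le_of_mul_le_mul_left k Nat.card_pos) Nat.card_pos

theorem exists_quad {P U A : Subgroup G} (hU : IsElementaryAbelian 2 U) (hP : U ≤ P)
    (hA : A ∈ H12.maxEA 2 P) (hn : A ≤ nr U) (h : ¬ A ≤ cn U) :
    ∃ B ≤ A, ¬ B ≤ cn U ∧ ⁅⁅U, B⁆, B⁆ = ⊥ ∧ ix B U ≤ ix U B := by
  obtain ⟨h1, -, -, h2⟩ := H12.timmesfeld hU hn (H12.bestOffender_of_mem_maxEA hU hP hA) le_rfl
  refine ⟨_, inf_le_left, fun e => h2 (fun e' => h (le_centralizer_iff.1 (bot_iff.1 e')))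
    (bot_iff.2 (le_centralizer_iff.1 e)), bot_iff.2 (le_centralizer_iff.1 ?_), ix_of_best h1⟩
  exact inf_le_right.trans (centralizer_anti (commutator_mono le_rfl inf_le_left))

theorem bs {L : Subgroup G} {v : G} (hv : v ∈ L)
    (h : ∀ g ∈ L, ∃ P : Subgroup G, IsPGroup 2 P ∧ v ∈ P ∧ g * v * g⁻¹ ∈ P) : v ∈ pCoreOf 2 L :=
  ⟨⟨v, hv⟩, H83.mem_pCore_of_baer_suzuki fun g => by
    obtain ⟨P, h1, h2, h3⟩ := h g g.2
    refine (isPGroup_subgroupOf h1 L).to_le ((closure_le _).2 ?_)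
    rintro _ (rfl | rfl)
    exacts [h2, h3], rfl⟩

/-- A pairing into a group of order two. -/
theorem pairing {V B F : Subgroup G} (hB : B ≤ nr F) (hV : V ≤ nr F)
    (h : ∀ b ∈ B, (stab (zpowers b) F).relIndex V ≤ 2) : (stab B F).relIndex V ≤ ix V B := by
  obtain ⟨D, ⟨d1, d2, d3⟩, hm⟩ := (wellFounded_gt (α := Subgroup G)).has_min
    {D | cn V ⊓ B ≤ D ∧ D ≤ B ∧ (stab D F).relIndex V ≤ ix V D}
    ⟨cn V ⊓ B, le_rfl, inf_le_right, (relIndex_eq_one.2 (le_stab_iff.2 ⟨hV,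
      (le_bot_of inf_le_left).trans bot_le⟩)).le.trans (rpos _ _)⟩
  by_cases e : B ≤ D
  · rwa [le_antisymm e d2]
  obtain ⟨b, hb, hD⟩ := SetLike.not_le_iff_exists.1 e
  have k0 : ¬ D ⊔ zpowers b ≤ D := fun e => hD (e (mem_sup_right (mem_zpowers b)))
  have k1 : D ⊔ zpowers b ≤ B := sup_le d2 (zpowers_le.2 hb)
  refine absurd (lt_of_le_not_ge le_sup_left k0) (hm _ ⟨d1.trans le_sup_left, k1, ?_⟩)
  calc _ ≤ (stab D F ⊓ stab (zpowers b) F).relIndex V := rl' (le_stab_iff.2 ⟨inf_le_right.trans hV,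
        commutator_sup_left_le (d2.trans hB) (zpowers_le.2 (hB hb))
          (le_stab_iff.1 (inf_le_left.trans inf_le_left)).2
          (le_stab_iff.1 (inf_le_left.trans inf_le_right)).2⟩)
    _ ≤ ix V D * D.relIndex (D ⊔ zpowers b) :=
        relIndex_inf_le.trans (Nat.mul_le_mul d3 ((h b hb).trans (two_le k0)))
    _ = (cn V ⊓ D).relIndex (D ⊔ zpowers b) := by
        rw [← relIndex_inf_mul_relIndex, inf_eq_left.2 le_sup_left]
    _ ≤ _ := rl' (le_inf inf_le_left ((inf_le_inf_left _ k1).trans d1))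

end H48.QR
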