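import Cfsg.Agent.H48.QR1
import Cfsg.Agent.H98.YMin

/-! The qrc-lemma (S1824): chief factors. -/

set_option autoImplicit false

namespace H48.QR

open Subgroup Cfsg H98 H96
open scoped commutatorElement

section Mod

variable {M : Type*} [AddCommGroup M] [Finite M]

omit [Finite M] in
theorem index_fx (a : Au M) : (fx M (zpowers a)).index = Nat.card (dl a : M →+ M).range := by
  rw [← AddSubgroup.index_ker]; congr 1
  exact AddSubgroup.ext fun m => ⟨fun h => dl_eq_zero.2 (h a (mem_zpowers a)),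
    fun h => le_fx_iff.2 (zpowers_le.2 fun u (hu : u ∈ AddSubgroup.zmultiples m) => by
      obtain ⟨k, rfl⟩ := hu
      exact (smul_comm a k m).trans (congrArg _ (dl_eq_zero.1 h))) (AddSubgroup.mem_zmultiples m)⟩

theorem modI {D R V : Subgroup (Au M)} {W : AddSubgroup M} (hD : Irr D) (hV : V ≠ ⊥) (hVD : V ≤ D)
    (h1 : cm ⊤ V ≤ W) (h2 : W ≤ fx M R) (h3 : cm ⊤ R ≤ fx M V)
    (h4 : ∀ v ∈ V, v ≠ 1 → ∃ g ∈ D, R ⊔ cj g (zpowers v) = D) :
    Nat.card V ≤ Nat.card W ∧ ∃ g ∈ D, W ⊓ fx M (cj g V) = ⊥ := by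
  have d0 : D ≠ ⊥ := fun e => hV (le_bot_iff.1 (e ▸ hVD))
  have d1 : fx M D = ⊥ := (hD.fx le_normalizer).resolve_right d0
  have d2 : cm (⊤ : AddSubgroup M) D = ⊤ := (hD _ (le_nrm_of_cm_le le_rfl)).resolve_left fun e =>
    d0 (fx_eq_top (V := M) (top_le_iff.1 fun m _ a ha =>
      dl_eq_zero.1 (AddSubgroup.mem_bot.1 (e ▸ dl_mem_cm ha (AddSubgroup.mem_top m)))))
  have k1 : ∀ v ∈ V, ∀ g, R ⊔ cj g (zpowers v) = D → W ⊓ fx M (cj g (zpowers v)) = ⊥ :=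
    fun v hv g e => le_bot_iff.1 (by rw [← d1, ← e, fx_sup]; exact inf_le_inf_right _ h2)
  have k3 : ∀ v ∈ V, v ≠ 1 → fx M V = fx M (zpowers v) := fun v hv v1 => by
    obtain ⟨g, -, e⟩ := h4 v hv v1
    refine eq_of_le_of_index_le (fx_anti (zpowers_le.2 hv)) ?_
    have e1 : (dl (g * v * g⁻¹) : M →+ M).range ⊔ fx M V = ⊤ := by
      rw [eq_top_iff, ← d2, ← e, cm_top_sup, H98.cj_zpowers]
      refine sup_le (h3.trans le_sup_right) (le_trans ?_ le_sup_left)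
      refine cm_top_le_iff_stb.2 (zpowers_le.2 ⟨mem_nrm_of_dl fun u _ => ⟨u, rfl⟩, fun u _ => ⟨u, rfl⟩⟩)
    rw [← relIndex_eq_index e1, ← index_fx_cj g, H98.cj_zpowers, index_fx]
    exact Nat.le_of_dvd Nat.card_pos (AddSubgroup.relIndex_dvd_card _ _)
  obtain ⟨⟨v, hv⟩, v1⟩ := ne_bot_iff_exists_ne_one.1 hV
  have v1 : v ≠ 1 := fun e => v1 (Subtype.ext e)
  obtain ⟨g, hg, e⟩ := h4 v hv v1
  refine ⟨?_, g, hg, le_bot_iff.1 ((inf_le_inf_left W
    (fx_anti (cj_mono g (zpowers_le.2 hv)))).trans (k1 v hv g e).le)⟩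
  obtain ⟨u, -, hu⟩ := SetLike.not_le_iff_exists.1 fun e : ⊤ ≤ fx M V => hV (fx_eq_top (top_le_iff.1 e))
  refine Nat.card_le_card_of_injective (fun a : V => (⟨dl a.1 u, h1 (dl_mem_cm a.2 trivial)⟩ : W))
    fun a b e => by_contra fun ne => hu ?_
  have e : a.1 • u = b.1 • u := sub_left_inj.1 (congrArg Subtype.val e)
  rw [k3 _ (mul_mem (inv_mem a.2) b.2) fun e => ne (Subtype.ext (inv_mul_eq_one.1 e))]
  exact le_fx_iff.2 (zpowers_le.2 fun w (hw : w ∈ AddSubgroup.zmultiples u) => by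
    obtain ⟨k, rfl⟩ := hw
    exact (smul_comm _ k u).trans (congrArg _ (by rw [mul_smul, ← e, inv_smul_smul])))
    (AddSubgroup.mem_zmultiples u)

end Mod

variable {G : Type*} [Group G]

/-- A noncentral chief factor. -/
structure CF (H X Y : Subgroup G) : Prop where
  le : Y ≤ X
  pg : IsPGroup 2 X
  XH : X ≤ H
  nX : H ≤ nr X
  nY : H ≤ nr Y
  irr : ∀ Z, Y ≤ Z → Z ≤ X → H ≤ nr Z → Z = Y ∨ Z = X
  nc : ¬ ⁅X, res 2 H⁆ ≤ Y

variable [Finite G] {T H M X Y U P : Subgroup G}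

theorem exists_cf (hU : IsPGroup 2 U) (hH : U ≤ H) (h0 : Y ≤ U) (nU : H ≤ nr U) (nY : H ≤ nr Y)
    (h : ¬ ⁅U, res 2 H⁆ ≤ Y) : ∃ X, Y ≤ X ∧ X ≤ U ∧ CF H X (X ⊓ stab (res 2 H) Y) ∧
      ∀ Z, Y ≤ Z → Z ≤ X → H ≤ nr Z → Z ≠ X → ⁅Z, res 2 H⁆ ≤ Y := by
  obtain ⟨X, ⟨d1, d2, d3, d4⟩, hm⟩ := (wellFounded_lt (α := Subgroup G)).has_min
    {X | Y ≤ X ∧ X ≤ U ∧ H ≤ nr X ∧ ¬ ⁅X, res 2 H⁆ ≤ Y} ⟨U, h0, le_rfl, nU, h⟩
  have k : ∀ Z, Y ≤ Z → Z ≤ X → H ≤ nr Z → Z ≠ X → ⁅Z, res 2 H⁆ ≤ Y := fun Z z1 z2 z3 z4 =>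
    by_contra fun e => hm Z ⟨z1, z2.trans d2, z3, e⟩ (lt_of_le_of_ne z2 z4)
  have k0 : Y ≤ X ⊓ stab (res 2 H) Y := le_inf d1 (le_stab_iff.2 ⟨le_normalizer,
    commutator_le_right' ((res_le H).trans nY)⟩)
  refine ⟨X, d1, d2, ⟨inf_le_left, hU.to_le d2, d2.trans hH, d3, le_normalizer_inf d3
    (le_normalizer_stab (self_le_normalizer_res H) nY), fun Z z1 z2 z3 => ?_, fun e => d4 ?_⟩, k⟩
  · exact or_iff_not_imp_right.2 fun e => le_antisymm (le_inf z2 (le_stab_iff.2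
      ⟨z2.trans (d2.trans (hH.trans nY)), commutator_comm Z _ ▸ k Z (k0.trans z1) z2 z3 e⟩)) z1
  · rw [← commutator_res_res (hU.to_le d2) d3, commutator_comm]
    exact (le_stab_iff.1 (e.trans inf_le_right)).2

namespace CF

variable (c : CF H X Y)
include c

omit [Finite G] in
theorem nn : H ≤ nn X Y := le_inf c.nX c.nY

theorem comm_le (hP : IsPGroup 2 P) (hH : P ≤ H) (hn : H ≤ nr P) : ⁅X, P⁆ ≤ Y := by
  rcases c.irr (⁅X, P⁆ ⊔ Y) le_sup_right (sup_le (commutator_le_left' (hH.trans c.nX)) c.le)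
    (le_normalizer_sup (le_normalizer_commutator c.nX hn) c.nY) with e | e
  · exact le_sup_left.trans e.le
  · exact (commutator_le_left' (hH.trans c.nX)).trans (le_of_le_commutator_sup c.pg hP
      (hH.trans c.nX) (c.XH.trans c.nY) (hH.trans c.nY) e.ge)

theorem comm_self : ⁅X, X⁆ ≤ Y := c.comm_le c.pg c.XH c.nX

theorem le_stab (hP : IsPGroup 2 P) (hH : P ≤ H) (hn : H ≤ nr P) : P ≤ stab X Y :=
  le_stab_iff.2 ⟨hH.trans c.nY, c.comm_le hP hH hn⟩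

omit [Finite G] in
theorem nstab : H ≤ nr (stab X Y) := le_normalizer_stab c.nX c.nY

omit [Finite G] in
theorem res_not_le : ¬ res 2 H ≤ stab X Y := fun e => c.nc (le_stab_iff.1 e).2

variable {W : Type*} [AddCommGroup W] (s : Sec W X Y)

omit [Finite G] in
theorem irr' : Irr (s.bar H) := fun Z hZ => by
  rcases c.irr (s.pre Z) (s.le_pre Z) (s.pre_le Z)
    (fun g hg => s.mem_normalizer_pre (c.nn hg) (hZ (s.α_mem c.nn hg))) with e | e
  · refine Or.inl (le_bot_iff.1 fun m hm => ?_)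
    obtain ⟨x, hx, rfl⟩ := s.surj m
    exact (s.ker x hx).2 (e.le ⟨hx, hm⟩)
  · refine Or.inr (top_le_iff.1 fun m _ => ?_)
    obtain ⟨x, hx, rfl⟩ := s.surj m
    exact (e.ge hx).2

end CF

omit [Finite G] in
theorem inf_le_max (hT : IsSyl 2 T H) (hM : UMax T M H) {C : Subgroup G} (hn : H ≤ nr C)
    (h : ¬ res 2 H ≤ C) : H ⊓ C ≤ M := by_contra fun e => h ((hM.res_le hT.isPGroup inf_le_left e
  (hT.le.trans (le_normalizer_inf le_normalizer hn))).trans inf_le_right)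

theorem inf_le_core (hT : IsSyl 2 T H) (hM : UMax T M H) {C : Subgroup G} (hn : H ≤ nr C)
    (h : ¬ res 2 H ≤ C) : T ⊓ C ≤ pCoreOf 2 H :=
  (le_inf inf_le_left (inf_le_inf_right C hT.le)).trans
    (hM.inf_le_pCoreOf hT (inf_le_max hT hM hn h) (le_normalizer_inf le_normalizer hn))

namespace CF

variable (c : CF H X Y) (hT : IsSyl 2 T H) (hM : UMax T M H) (hX : IsElementaryAbelian 2 X)
  {W : Type*} [AddCommGroup W] (s : Sec W X Y)
include c hT hM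

theorem umax : UMax (s.bar T) (s.bar M) (s.bar H) := by
  refine UMax.map _ (UMax.of_map_injective (H98.nn X Y).subtype_injective ?_) fun x hx => ?_
  · rwa [map_subgroupOf_eq_of_le (hT.le.trans c.nn), map_subgroupOf_eq_of_le (hM.le'.trans c.nn),
      map_subgroupOf_eq_of_le c.nn]
  · exact inf_le_max hT hM c.nstab c.res_not_le
      ⟨hx.1, (s.α_eq_one' x.2).1 ((s.α_coe x).trans hx.2)⟩

include hX

omit [Finite G] c hT hM in
theorem two (s : Sec W X Y) (m : W) : 2 • m = 0 := by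
  obtain ⟨x, hx, rfl⟩ := s.surj m
  rw [← s.pow hx, hX.2 x hx, s.one]

omit hT hM in
theorem core : pCoreOf 2 (s.bar H) = ⊥ :=
  haveI := s.finite
  (c.irr' s).eq_bot (two hX s) (isPGroup_pCoreOf _) (self_le_normalizer_pCoreOf _)

theorem cZ : s.bar H ⊓ ctr (Au W) (fx W (s.bar T)) ≤ s.bar M := by
  have := s.finite
  have hb : s.bar H ≠ ⊥ := fun e => c.res_not_le ((res_le H).trans ((s.bar_eq_bot' c.nn).1 e))
  refine (c.umax hT hM s).inf_le_of_not_le le_ctr_fx fun e => ?_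
  obtain ⟨w, -, h1, h2⟩ := exists_fixed_mod (D := (⊥ : AddSubgroup W)) (W := ⊤) (two hX s)
    (s.isPGroup_bar hT.isPGroup) (nrm_bot (G := Au W) (V := W) ▸ le_top)
    (nrm_top (G := Au W) (V := W) ▸ le_top)
    fun e => hb (fx_eq_top (V := W) (top_le_iff.1 (e.trans bot_le)))
  exact h1 ((((c.irr' s).fx le_normalizer).resolve_right hb).le
    (le_fx_iff.2 e fun x hx => dl_eq_zero.1 (h2 x hx)))

omit s in
/-- No over-offenders. -/
theorem noOver {A : Subgroup G} (hA : IsElementaryAbelian 2 A) (hAT : A ≤ T) :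
    (pCoreOf 2 H).relIndex A ≤ (stab A Y).relIndex X := by
  obtain ⟨W, _, ⟨s⟩⟩ := exists_sec c.le c.comm_self
  have := s.finite
  have hn := (hAT.trans hT.le).trans c.nn
  have := noOver_of (fun A hA' h => MinOff.tv (s.isSyl_bar hT c.nn) (c.umax hT hM s) (c.core hX s)
    (c.cZ hT hM hX s) h hA') _ (s.bar_mono (hAT.trans hT.le)) (s.ea_bar' hn hA)
  rw [s.card_bar hn, s.index_eq] at this
  exact (rl' ((le_inf (inf_le_right.trans hAT) inf_le_left).trans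
    (inf_le_core hT hM c.nstab c.res_not_le))).trans (this.trans (rl' fun x hx =>
      ⟨hx.2, (s.mem_fx_bar hn hx.2).2 hx.1.2⟩))

theorem mp : MP 2 W ((s.bar T).subgroupOf (s.bar H)) ((s.bar M).subgroupOf (s.bar H)) where
  h0 := two hX s
  syl := (s.isSyl_bar hT c.nn).subgroupOf_top
  um := (c.umax hT hM s).subgroupOf
  op := pCoreOf_top.trans (pCoreOf_eq_bot_iff.1 (c.core hX s))
  cZ := fun g hg => c.cZ hT hM hX s ⟨g.2, fun u hu => hg u fun a ha => hu a ha⟩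

end CF

end H48.QR
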