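import Cfsg.Agent.H48.QR2

/-! The qrc-lemma (S1824): the case `V ≰ O₂(H)`. -/

set_option autoImplicit false

namespace H48.QR

open Subgroup Cfsg H98 H96
open scoped commutatorElement

variable {G : Type*} [Group G] [Finite G] {T H L R V : Subgroup G}

theorem key_i (hL : CharP 2 L) (hR : IsPGroup 2 R) (RL : R ≤ L)
    (VR : V ≤ R) (Vc : V ≤ cn R) (hO : ¬ V ≤ pCoreOf 2 L) (nO : pCoreOf 2 L ≤ nr V)
    (hm : ∀ L', R ⊔ pCoreOf 2 L ≤ L' → L' ≤ L → L' ≠ L → V ≤ pCoreOf 2 L') :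
    ∃ g ∈ L, (pCoreOf 2 L).relIndex V ≤ ix (cj g V) (V ⊓ pCoreOf 2 L) := by
  have VL := VR.trans RL
  obtain ⟨X, -, XO, c, -⟩ := exists_cf (isPGroup_pCoreOf L) (pCoreOf_le L) bot_le
    (self_le_normalizer_pCoreOf L) (le_normalizer_bot L) fun e => hO (VL.trans (pCoreOf_eq_self
      (hL.isPGroup_of_res_le le_rfl (le_centralizer_iff.1 (cn_of_le_bot e)))).ge)
  generalize X ⊓ stab (res 2 L) ⊥ = Y at c
  have PL : R ⊔ pCoreOf 2 L ≤ L := sup_le RL (pCoreOf_le L)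
  have hP : IsPGroup 2 ↥(R ⊔ pCoreOf 2 L) :=
    hR.to_sup_of_normal_right' (isPGroup_pCoreOf L) (le_normalizer_pCoreOf_of_le RL)
  have nC : L ≤ nr (L ⊓ stab X Y) := le_normalizer_inf le_normalizer c.nstab
  have hC : stab X Y ⊓ V ≤ pCoreOf 2 L := (le_inf (inf_le_right.trans (hm _ le_sup_left
    (sup_le PL inf_le_left) fun e => c.res_not_le ((res_mono e.ge).trans
      ((res_sup_le_right hP (PL.trans nC)).trans inf_le_right))))
    (le_inf (inf_le_right.trans VL) inf_le_left)).trans ((pCoreOf_inf_le_of_le le_sup_right).trans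
      (pCoreOf_le_pCoreOf_of_normal inf_le_left nC))
  obtain ⟨W, _, ⟨s⟩⟩ := exists_sec c.le c.comm_self
  have := s.finite
  have Os := c.le_stab (isPGroup_pCoreOf L) (pCoreOf_le L) (self_le_normalizer_pCoreOf L)
  have XV : ⁅X, V⁆ ≤ V := commutator_le_right' (XO.trans nO)
  obtain ⟨k1, _, hg', k2⟩ := modI (R := s.bar R) (V := s.bar V) (W := s.im V) (c.irr' s)
    (fun e => hO ((le_inf ((s.bar_eq_bot' (VL.trans c.nn)).1 e) le_rfl).trans hC)) (s.bar_mono VL)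
    (cm_top_le.2 fun a ha m => by
      obtain ⟨v, hv, h, rfl⟩ := s.mem_bar.1 ha
      obtain ⟨x, hx, rfl⟩ := s.surj m
      rw [s.dl_ψ h hx]
      exact s.ψ_mem_im (Sec.cmem h hx) (commutator_comm X V ▸ XV <| commutator_mem_commutator hv hx))
    (by
      rintro _ ⟨x, hx, hx', rfl⟩
      refine (s.mem_fx_bar (RL.trans c.nn) hx).2 fun r hr => ?_
      rw [commutatorElement_eq_one_iff_mul_comm.2 (Vc hx' r hr)]; exact one_mem _)
    (cm_top_le.2 fun a ha m => by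
      obtain ⟨r, hr, h, rfl⟩ := s.mem_bar.1 ha
      obtain ⟨x, hx, rfl⟩ := s.surj m
      rw [s.dl_ψ h hx]
      refine (s.mem_fx_bar (VL.trans c.nn) (Sec.cmem h hx)).2 fun v hv => ?_
      rw [commutatorElement_eq_one_iff_mul_comm.2 (cn_of_le_bot (three_subgroups
        (le_normalizer_bot R) (le_normalizer_bot X) (le_normalizer_bot V) (le_bot_of (XV.trans Vc))
        (by rw [bot_iff.2 Vc, commutator_bot_left])) (commutator_mem_commutator hr hx) v hv)]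
      exact one_mem _)
    fun a ha a1 => by
      obtain ⟨v, hv, h, rfl⟩ := s.mem_bar.1 ha
      by_contra! hne
      refine a1 ((s.α_eq_one' h).2 (Os (bs (VL hv) fun g hg => ?_)))
      have hz : cj g (zpowers v) ≤ L := cj_le_of_le_of_mem (zpowers_le.2 (VL hv)) hg
      refine ⟨cj g (zpowers v) ⊔ pCoreOf 2 (R ⊔ pCoreOf 2 L ⊔ cj g (zpowers v)),
        (isPGroup_cj g (hR.to_le (zpowers_le.2 (VR hv)))).to_sup_of_normal_right'
          (isPGroup_pCoreOf _) (le_normalizer_pCoreOf_of_le le_sup_right),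
        mem_sup_right (hm _ le_sup_left (sup_le PL hz) (fun e => hne _ (s.α_mem c.nn hg) ?_) hv),
        mem_sup_left (conj_mem_cj (mem_zpowers v))⟩
      rw [← e, s.bar_sup (PL.trans c.nn) (hz.trans c.nn), s.bar_sup (RL.trans c.nn)
        ((pCoreOf_le L).trans c.nn), (s.bar_eq_bot' ((pCoreOf_le L).trans c.nn)).2 Os, sup_bot_eq,
        s.bar_cj (c.nn hg), s.bar_zpowers h]
  obtain ⟨g, hg, h, rfl⟩ := s.mem_bar.1 hg'
  rw [s.card_bar (VL.trans c.nn)] at k1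
  refine ⟨g, hg, (rl' hC).trans (k1.trans ?_)⟩
  choose f f1 f2 f3 using fun w : s.im V => w.2
  refine Nat.card_le_card_of_injective (fun w => ((⟨f w, f2 w, XO (f1 w)⟩ : ↥(V ⊓ pCoreOf 2 L)) :
    _ ⧸ (cn (cj g V)).subgroupOf _)) fun a b e => Subtype.ext ?_
  have e : (f a)⁻¹ * f b ∈ cn (cj g V) := (QuotientGroup.eq (α := ↥(V ⊓ pCoreOf 2 L))).1 e
  have m := mul_mem (inv_mem (f1 a)) (f1 b)
  rw [← f3, ← f3, s.eq_iff (f1 a) (f1 b), ← s.ker _ m, ← AddSubgroup.mem_bot, ← k2, ← s.bar_cj h]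
  refine ⟨s.ψ_mem_im m (mul_mem (inv_mem (f2 a)) (f2 b)),
    (s.mem_fx_bar ((cj_le_of_le_of_mem VL hg).trans c.nn) m).2 fun v hv => ?_⟩
  rw [commutatorElement_eq_one_iff_mul_comm.2 (e v hv)]; exact one_mem _

theorem case_i (hT : IsSyl 2 T H) (hH : CharP 2 H) (hW : WC 2 R H) (nR : T ≤ nr R)
    (hV : IsElementaryAbelian 2 V) (VR : V ≤ R) (Vc : V ≤ cn R) (hn : nr R ≤ nr V)
    (hQ : ¬ V ≤ pCoreOf 2 H) : Cb T V := by
  obtain ⟨L, ⟨l1, l2, l3⟩, hm⟩ := (wellFounded_lt (α := Subgroup G)).has_min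
    {L | L ≤ H ∧ R ⊔ pCoreOf 2 H ≤ L ∧ ¬ V ≤ pCoreOf 2 L}
    ⟨H, le_rfl, sup_le hW.le (pCoreOf_le H), hQ⟩
  have RL := le_sup_left.trans l2
  have nO := hW.pCoreOf_le_normalizer l1 (le_normalizer_of_le RL)
  obtain ⟨g, hg, k⟩ := key_i (hH.of_pCoreOf_le (le_sup_right.trans l2) l1) hW.isPGroup RL VR Vc l3
    (nO.trans hn) fun L' h1 h2 h3 => by_contra fun e => hm L' ⟨h2.trans l1, (sup_le_sup_left
      (pCoreOf_le_pCoreOf l1 (le_sup_right.trans l2)) R).trans h1, e⟩ (lt_of_le_of_ne h2 h3)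
  have nL := self_le_normalizer_pCoreOf (p := 2) L
  have pO := isPGroup_pCoreOf (p := 2) L
  have OH := (pCoreOf_le (p := 2) L).trans l1
  generalize pCoreOf 2 L = O at *
  have sym : ∀ x ∈ L, ix (cj x V) (V ⊓ O) = ix V (cj x⁻¹ V ⊓ O) := fun x hx => by
    rw [← ix_cj x⁻¹, cj_inv_cj, cj_inf, cj_eq_self (nL (inv_mem hx))]
  obtain ⟨x, hx, k1, k2⟩ : ∃ x ∈ L, O.relIndex V ≤ ix V (cj x V ⊓ O) ∧
      ix (cj x V) (V ⊓ O) ≤ ix V (cj x V ⊓ O) := by
    rcases le_total (ix (cj g V) (V ⊓ O)) (ix V (cj g V ⊓ O)) with e | e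
    · exact ⟨g, hg, k.trans e, e⟩
    · exact ⟨g⁻¹, inv_mem hg, sym g hg ▸ k, by rwa [sym _ (inv_mem hg), inv_inv, ← sym g hg]⟩
  obtain ⟨n, hn', e⟩ := (hT.of_le (le_inf hT.le nR) inf_le_left).exists_cj_le pO (le_inf OH nO)
  have eV := cj_eq_self (hn hn'.2)
  have nx : O ≤ nr (cj x V) := by
    rw [nr, ← cj_normalizer, ← cj_eq_self (nL hx)]; exact cj_mono x (nO.trans hn)
  refine ⟨cj n (cj x V ⊓ O), (cj_mono n inf_le_right).trans e,
    ea_cj (H12.ea_mono (ea_cj hV x) inf_le_left) n, fun h => ?_, ?_, ?_⟩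
  · have h : cj x V ⊓ O ≤ cn V := by rw [← cj_le_cj_iff (g := n), cj_centralizer, eV]; exact h
    exact absurd ((two_le l3).trans (k1.trans (relIndex_eq_one.2 h).le)) (by decide)
  · nth_rw 1 [← eV]
    rw [← cj_commutator, ← cj_commutator, ← cj_commutator, cj_eq_bot_iff, bot_iff]
    exact ((commutator_mono (commutator_mono le_rfl inf_le_right) inf_le_left).trans
      (commutator_le_right' ((commutator_le_right' (VR.trans (RL.trans nL))).trans nx))).trans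
      ((H12.ea_le_centralizer (ea_cj hV x)).trans (centralizer_anti inf_le_left))
  · nth_rw 2 [← eV]
    nth_rw 3 [← eV]
    rw [ix_cj, ix_cj, pow_two]
    calc _ ≤ (cn (cj x V) ⊓ O).relIndex V := rl (inf_le_left.trans (centralizer_anti inf_le_left)) V
      _ = ix (cj x V) (V ⊓ O) * O.relIndex V := by rw [← relIndex_inf_mul_relIndex, inf_comm]
      _ ≤ _ := Nat.mul_le_mul k2 k1

end H48.QR
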