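import Cfsg.Agent.H48.QR3

/-! The qrc-lemma (S1824): the case `V ≤ O₂(H)`. -/

set_option autoImplicit false

namespace H48.QR

open Subgroup Cfsg H98 H96
open scoped commutatorElement

universe u

variable {G : Type u} [Group G] [Finite G] {T H M U V X Y A N R : Subgroup G}

theorem case_iii (hT : IsSyl 2 T H) (hM : UMax T M H) (hU : IsElementaryAbelian 2 U) {X' Y' B : Subgroup G}
    (c : CF H X Y) (c' : CF H X' Y') (h1 : X ≤ Y') (h2 : X' ≤ U) (hB : IsElementaryAbelian 2 B)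
    (hBT : B ≤ T) (hc : T ⊓ cn U ≤ pCoreOf 2 H) (hn : ¬ B ≤ cn U) (ho : ix B U ≤ ix U B) :
    ¬ pCoreOf 2 H ⊓ B ≤ cn U ∧ ix (pCoreOf 2 H ⊓ B) U ≤ ix U (pCoreOf 2 H ⊓ B) ^ 2 := by
  have a1 := c.noOver hT hM (H12.ea_mono hU (h1.trans (c'.le.trans h2))) hB hBT
  have a2 := c'.noOver hT hM (H12.ea_mono hU h2) hB hBT
  have st : ∀ {X Y : Subgroup G}, CF H X Y → cn B ⊓ X ≤ stab B Y := fun c => le_stab_iff.2
    ⟨inf_le_right.trans (c.XH.trans c.nY), (le_bot_of (le_centralizer_iff.1 inf_le_left)).trans bot_le⟩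
  have e1 : (cn U).relIndex (pCoreOf 2 H ⊓ B) * (pCoreOf 2 H).relIndex B = ix U B := by
    rw [relIndex_inf_mul_relIndex, ← inf_relIndex_right, ix, ← inf_relIndex_right (cn U) B]
    congr 1
    exact le_antisymm (inf_le_inf_right _ inf_le_left) (le_inf (le_inf inf_le_left
      ((le_inf (inf_le_right.trans hBT) inf_le_left).trans hc)) inf_le_right)
  have e2 : (pCoreOf 2 H).relIndex B * (pCoreOf 2 H).relIndex B ≤ ix B U :=
    calc _ ≤ (cn B).relIndex (stab B Y' ⊓ X') * (stab B Y').relIndex X' :=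
        Nat.mul_le_mul (a1.trans ((rl' (st c)).trans (rr _ (h1.trans (le_inf (le_stab_iff.2
          ⟨le_normalizer, commutator_le_right' (hBT.trans (hT.le.trans c'.nY))⟩) c'.le))))) a2
      _ = (cn B ⊓ stab B Y').relIndex X' := relIndex_inf_mul_relIndex _ _ _
      _ ≤ ix B X' := rl' (le_inf inf_le_left (st c'))
      _ ≤ _ := rr _ h2
  have e3 := Nat.le_of_mul_le_mul_right (e2.trans (ho.trans e1.ge)) (rpos _ _)
  refine ⟨fun e => hn ?_, (rl (centralizer_anti inf_le_right) U).trans (ho.trans (e1.ge.trans ?_))⟩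
  · rw [relIndex_eq_one.2 e] at e3
    exact (le_inf (relIndex_eq_one.1 (le_antisymm e3 (rpos _ _))) le_rfl).trans e
  · rw [pow_two]; exact Nat.mul_le_mul_left _ e3

theorem exists_hyper {D : Subgroup G} (hD : IsElementaryAbelian 2 D) (hT : IsPGroup 2 T)
    (hn : T ≤ nr D) (h : D ≠ ⊥) :
    ∃ F < D, ⁅D, T⁆ ≤ F ∧ ∀ a ∈ D, ∀ b ∈ D, a ∉ F → b ∉ F → a * b ∈ F := by
  obtain ⟨F, ⟨f1, f2⟩, hm⟩ := (wellFounded_gt (α := Subgroup G)).has_min {F | F < D ∧ ⁅D, T⁆ ≤ F}
    ⟨_, commutator_lt_of_isPGroup (H12.ea_isPGroup hD) hT hn h, le_rfl⟩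
  refine ⟨F, f1, f2, fun a ha b hb a1 b1 => ?_⟩
  have e : zpowers a ⊔ F = D := by_contra fun e => hm _ ⟨lt_of_le_of_ne
    (sup_le (zpowers_le.2 ha) f1.le) e, f2.trans le_sup_right⟩
    (lt_of_le_not_ge le_sup_right fun e => a1 (e (mem_sup_left (mem_zpowers a))))
  obtain ⟨_, ⟨k, rfl⟩, f, hf, rfl⟩ := (mem_sup_left_norm (le_normalizer_of_le_centralizer
    ((zpowers_le.2 ha).trans ((H12.ea_le_centralizer hD).trans (centralizer_anti f1.le))))).1 (e.ge hb)
  have a2 : a ^ (2 : ℤ) = 1 := by exact_mod_cast hD.2 a ha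
  obtain ⟨j, rfl | rfl⟩ := Int.even_or_odd' k
  · simp [zpow_mul, a2, hf] at b1
  · rwa [← mul_assoc, ← zpow_one_add, show 1 + (2 * j + 1) = 2 * (j + 1) by ring, zpow_mul, a2,
      one_zpow, one_mul]

theorem case_iv (hT : IsSyl 2 T H) (hU : IsElementaryAbelian 2 U) (nU : H ≤ nr U) (UH : U ≤ H)
    (hV : V ≤ U) (nX : H ≤ nr X) (hX : ⁅U, res 2 H⁆ ≤ X) (eX : X ≤ ⁅X, res 2 H⁆)
    (XU : X ≤ U) (hm : ∀ Z ≤ X, H ≤ nr Z → Z ≠ X → Z ≤ cn (res 2 H))
    (hQ : ⁅U, pCoreOf 2 H⁆ ≤ cn (res 2 H)) (hU' : U ≤ ncl H V) (h : ¬ X ≤ cn (pCoreOf 2 H)) :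
    Qd T V := by
  have nK := self_le_normalizer_res (p := 2) H
  have nQ := self_le_normalizer_pCoreOf (p := 2) H
  have KH := res_le (p := 2) H
  have QH := pCoreOf_le (p := 2) H
  have eB := commutator_res_res (isPGroup_pCoreOf (p := 2) H) nQ
  have eK := hT.sup_res
  have cc := fun {Z : Subgroup G} (h : Z ≤ U) (h' : H ≤ nr Z) =>
    commutator_res_res ((H12.ea_isPGroup hU).to_le h) h'
  have BQ := commutator_le_left' (KH.trans nQ)
  have BT := BQ.trans hT.pCoreOf_le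
  generalize res 2 H = K at *
  generalize pCoreOf 2 H = Q at *
  have nB := le_normalizer_commutator nQ nK
  have b0 : ∀ Z ≤ U, Z ≤ cn K → ⁅Q, K⁆ ≤ cn Z := fun Z z1 z2 => cn_of_le_bot (three_subgroups
    (le_normalizer_bot _) (le_normalizer_bot _) (le_normalizer_bot _)
    (by rw [commutator_comm K, bot_iff.2 z2, commutator_bot_left])
    (le_bot_of ((commutator_mono z1 le_rfl).trans hQ)))
  have b1 : ¬ X ≤ cn ⁅Q, K⁆ := fun e => h (eX.trans (commutator_comm K X ▸ cn_of_le_bot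
    (three_subgroups (le_normalizer_bot _) (le_normalizer_bot _) (le_normalizer_bot _)
      (le_bot_of ((commutator_mono XU le_rfl).trans hQ)) (le_bot_of (le_centralizer_iff.1 e)))))
  generalize ⁅Q, K⁆ = B at *
  have BH := BQ.trans QH
  have DU : ⁅U, B⁆ ≤ U := commutator_le_left' (BH.trans nU)
  have DK : ⁅U, B⁆ ≤ cn K := (commutator_mono le_rfl BQ).trans hQ
  obtain ⟨F, f1, f2, f3⟩ := exists_hyper (H12.ea_mono hU DU) hT.isPGroup
    (hT.le.trans (le_normalizer_commutator nU nB))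
    fun e => b1 (XU.trans (bot_iff.1 e))
  have nF : H ≤ nr F := eK ▸ sup_le (le_normalizer_of_commutator_le f2 f1.le)
    (le_normalizer_of_le_centralizer (le_centralizer_iff.1 (f1.le.trans DK)))
  have nS : H ≤ nr (U ⊓ stab B F) := le_normalizer_inf nU (le_normalizer_stab nB nF)
  have k1 : U ⊓ stab B F ⊓ X ≤ cn K := hm _ inf_le_right (le_normalizer_inf nS nX) fun e => by
    refine f1.not_ge (commutator_comm B U ▸ eB ▸ three_subgroups (BH.trans nF) (KH.trans nF)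
      (UH.trans nF) ?_ ((le_bot_of DK).trans bot_le))
    rw [commutator_comm K, commutator_comm]
    exact (le_stab_iff.1 (hX.trans (e.ge.trans (inf_le_left.trans inf_le_right)))).2
  have k2 : U ⊓ stab B F ≤ cn K := cn_of_le_bot (cc inf_le_left nS ▸ le_bot_of ((le_inf
    (commutator_le_left' (KH.trans nS)) ((commutator_mono inf_le_left le_rfl).trans hX)).trans k1))
  refine qd_of_le BT (fun e => b1 (XU.trans (hU'.trans (ncl_le_centralizer (le_centralizer_iff.1 e) nB))))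
    (bot_iff.2 ((commutator_mono hV le_rfl).trans (le_centralizer_iff.1 (b0 _ DU DK))))
    ((rl' ((le_inf (inf_le_right.trans hV) inf_le_left).trans (le_centralizer_iff.1
      (b0 _ inf_le_left k2)))).trans (pairing (BH.trans nF) (hV.trans (UH.trans nF)) fun b hb => ?_))
  have m : ∀ v ∈ V, v ∈ stab (zpowers b) F ↔ ⁅b, v⁆ ∈ F := fun v hv =>
    ⟨fun h => h.2 b (mem_zpowers b), fun h => ⟨nF (UH (hV hv)), fun c hc => by
      obtain ⟨n, rfl⟩ := (mem_powers_iff_mem_zpowers.2 hc :)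
      induction n with
      | zero => simp
      | succ n ih =>
        simp only [pow_succ', commutatorElement_mul_left_eq_conj_mul]
        exact mul_mem (conj_mem_of_mem_normalizer (nF (BH hb)) (ih (npow_mem_zpowers b n))) h⟩⟩
  refine Nat.le_of_dvd two_pos (index_dvd_two_iff.2 ?_)
  by_cases e : V ≤ stab (zpowers b) F
  · exact ⟨1, fun v => Or.inr (e v.2)⟩
  obtain ⟨a, ha, a1⟩ := SetLike.not_le_iff_exists.1 e
  refine ⟨⟨a, ha⟩, fun v => or_iff_not_imp_right.2 fun v1 => (m _ (mul_mem v.2 ha)).2 ?_⟩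
  have d : ∀ v ∈ V, ⁅b, v⁆ ∈ ⁅U, B⁆ := fun v hv =>
    commutator_comm B U ▸ commutator_mem_commutator hb (hV hv)
  rw [commutatorElement_mul_right_eq_mul_conj, mul_assoc ⁅b, v.1⁆,
    H12.ea_comm hU (hV v.2) (DU (d a ha)), ← mul_assoc, mul_inv_cancel_right]
  exact f3 _ (d v v.2) _ (d a ha) (mt (m _ v.2).2 v1) (mt (m _ ha).2 a1)

theorem central_le {K S D : Subgroup G} (hS : IsSyl 2 S K) (hK : res 2 K = K) (nD : K ≤ nr D)
    {z : G} (hz : z ∈ S) (hc : ∀ k ∈ K, ⁅z, k⁆ ∈ D) : z ∈ ⁅S, S⁆ ⊔ D := by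
  have := normal_subgroupOf' nD
  have h1 := hS.subgroupOf_top.map (QuotientGroup.mk' (D.subgroupOf K))
  have h2 := map_res (p := 2) (QuotientGroup.mk' (D.subgroupOf K)) ⊤
  rw [res_top, ← res_subgroupOf, hK, subgroupOf_self] at h2
  rw [map_top_of_surjective _ (QuotientGroup.mk'_surjective _)] at h1 h2
  have h3 := mem_commutator_of_central h1 (mem_map_of_mem _ (show ⟨z, hS.le hz⟩ ∈ S.subgroupOf K from hz))
    (mem_center_iff.2 fun q => by
      obtain ⟨k, rfl⟩ := QuotientGroup.mk'_surjective _ q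
      rw [eq_comm, ← commutatorElement_eq_one_iff_mul_comm, ← map_commutatorElement]
      exact (QuotientGroup.eq_one_iff _).2 (hc k k.2)) (by rw [← res_top, ← h2]; trivial)
  rw [← map_commutator] at h3
  obtain ⟨y, hy, e⟩ := h3
  have h4 := mem_map_of_mem K.subtype hy
  rw [map_commutator, map_subgroupOf_eq_of_le hS.le] at h4
  simpa using mul_mem_sup h4 (show (y : G)⁻¹ * z ∈ D from
    (QuotientGroup.eq (s := D.subgroupOf K)).1 e)

theorem case_v (jv : JobV.{u}) (hT : IsSyl 2 T H) (hM : UMax T M H) (c : CF H X Y)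
    (hX : IsElementaryAbelian 2 X) (XQ : X ≤ cn (pCoreOf 2 H)) (hA : A ∈ H12.maxEA 2 R)
    (AQ : ¬ A ≤ pCoreOf 2 H) (XR : X ≤ R) (nR : T ≤ nr R) (nN : M ≤ nr N) (eN : T ⊓ N = R)
    (hQ : H ≤ nr (R ⊓ pCoreOf 2 H)) : T ⊓ res 2 H ≤ R := by
  have RT : R ≤ T := eN ▸ inf_le_left
  have QT := hT.pCoreOf_le
  have nK := self_le_normalizer_res (p := 2) H
  have nQ := self_le_normalizer_pCoreOf (p := 2) H
  have KH := res_le (p := 2) H
  have a : ⁅pCoreOf 2 H, res 2 H⁆ ≤ R := (le_stab_iff.1 (by_contra fun e => AQ (hA.1.trans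
    ((le_inf RT (le_stab_iff.2 ⟨RT.trans (hT.le.trans hQ), le_inf (commutator_le_right' (QT.trans nR))
      (commutator_le_left' (RT.trans (hT.le.trans nQ)))⟩)).trans
      (inf_le_core hT hM (le_normalizer_stab nQ hQ) e))))).2.trans inf_le_left
  obtain ⟨W, _, ⟨s⟩⟩ := exists_sec c.le c.comm_self
  have := s.finite
  have AT := hA.1.trans RT
  have An := AT.trans (hT.le.trans c.nn)
  have hs := inf_le_core hT hM c.nstab c.res_not_le
  have mp := c.mp hT hM hX s
  have sub : ∀ {B C : Subgroup G}, B ≤ C → (s.bar B).subgroupOf (s.bar H) ≤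
    (s.bar C).subgroupOf (s.bar H) := fun h _ hx => s.bar_mono h hx
  have ho : Off 2 W ((s.bar A).subgroupOf (s.bar H)) := ⟨H12.ea_subgroupOf (s.ea_bar' An hA.2.1) _, by
    have e : fx W ((s.bar A).subgroupOf (s.bar H)) = fx W (s.bar A) := AddSubgroup.ext fun m =>
      ⟨fun h a ha => h ⟨a, s.bar_mono (AT.trans hT.le) ha⟩ ha, fun h a ha => h a ha⟩
    rw [e, Nat.card_congr (subgroupOfEquivOfLe (s.bar_mono (AT.trans hT.le))).toEquiv,
      s.card_bar An, s.index_eq]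
    refine (rl' (A := cn A) fun x hx => s.mem_pre.2
      ⟨hx.2, (s.mem_fx_bar An hx.2).2 fun a ha => ?_⟩).trans ((ix_of_best
      (H12.bestOffender_of_mem_maxEA hX XR hA)).trans (rl' ((le_inf (inf_le_right.trans AT)
        inf_le_left).trans (hs.trans (le_centralizer_iff.1 XQ)))))
    rw [commutatorElement_eq_one_iff_mul_comm.2 (hx.1 a ha)]; exact one_mem _⟩
  have hne : (s.bar A).subgroupOf (s.bar H) ≠ ⊥ := fun e => AQ ((le_inf AT ((s.bar_eq_bot' An).1
    (by rw [← map_subgroupOf_eq_of_le (s.bar_mono (AT.trans hT.le)), e, Subgroup.map_bot]))).trans hs)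
  have k1 := map_mono (f := (s.bar H).subtype) ((jv mp ho hne).trans (commutator_mono le_rfl
    (mp.om_le_of (comap_le_normalizer_comap _ (s.bar_le_normalizer (hT.le.trans c.nn) nR)) ho hne
      (sub AT) (sub hA.1))))
  rw [res_top, ← res_subgroupOf, ← s.bar_res c.nn, map_commutator] at k1
  have MK : M ⊓ res 2 H ≤ H := inf_le_left.trans hM.le'
  have k2 : s.bar (T ⊓ res 2 H) ≤ s.bar ⁅M ⊓ res 2 H, R⁆ := by
    rw [s.bar_commutator (MK.trans c.nn) (RT.trans (hT.le.trans c.nn))]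
    refine s.bar_le fun t ht => commutator_mono ?_ (by rintro _ ⟨x, hx, rfl⟩; exact hx)
      (k1 ⟨⟨_, s.α_mem c.nn (hT.le ht.1)⟩, ⟨s.α_mem (hT.le.trans c.nn) ht.1,
        s.α_mem (KH.trans c.nn) ht.2⟩, rfl⟩)
    rintro _ ⟨x, ⟨h1, h2⟩, rfl⟩
    obtain ⟨m, hm, e1⟩ := s.exists_α h1
    obtain ⟨k, hk, h, e2⟩ := s.mem_bar.1 h2
    refine s.mem_bar.2 ⟨k, ⟨?_, hk⟩, h, e2⟩
    simpa using mul_mem hm (inf_le_max hT hM c.nstab c.res_not_le ⟨H.mul_mem (H.inv_mem (hM.le' hm))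
      (KH hk), (s.α_eq_iff (c.nn (hM.le' hm)) h).1 (e1.trans e2.symm)⟩)
  have k3 : ⁅M ⊓ res 2 H, R⁆ ≤ N ⊓ res 2 H := le_inf
    ((commutator_mono inf_le_left (eN.ge.trans inf_le_right)).trans (commutator_le_right' nN))
    ((commutator_mono inf_le_right le_rfl).trans (commutator_le_left' (RT.trans (hT.le.trans nK))))
  have CM : res 2 H ⊓ stab X Y ≤ M :=
    (inf_le_inf_right _ KH).trans (inf_le_max hT hM c.nstab c.res_not_le)
  have k4 : T ⊓ res 2 H ≤ R ⊔ pCoreOf 2 H ⊓ res 2 H := by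
    refine le_trans (le_inf (fun t ht => ?_) inf_le_left) ((inf_sup_le_of_normal (A := N ⊓ res 2 H)
      hT.isPGroup (hT.inf_of_le_normalizer (CM.trans hM.le') (hT.le.trans (le_normalizer_inf nK c.nstab)))
      (le_normalizer_inf (CM.trans nN) (le_normalizer_of_le inf_le_left))).trans (sup_le_sup
        ((le_inf inf_le_right (inf_le_left.trans inf_le_left)).trans eN.le)
        (le_inf ((le_inf inf_le_right (inf_le_left.trans inf_le_right)).trans hs)
          (inf_le_left.trans inf_le_left))))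
    obtain ⟨y, hy, e⟩ := s.le_sup_of_bar_le (inf_le_left.trans (hT.le.trans c.nn))
      ((k3.trans (inf_le_right.trans KH)).trans c.nn) k2 ht
    simpa using mul_mem_sup (k3 hy) (show y⁻¹ * t ∈ res 2 H ⊓ stab X Y from
      ⟨(res 2 H).mul_mem ((res 2 H).inv_mem (k3 hy).2) ht.2, e⟩)
  refine k4.trans (sup_le le_rfl fun z hz => sup_le ?_ a (central_le
    (hT.inf_of_le_normalizer KH (hT.le.trans nK)) (res_res H)
    (KH.trans (le_normalizer_commutator nQ nK)) ⟨QT hz.1, hz.2⟩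
    fun k hk => commutator_mem_commutator hz.1 hk))
  exact (commutator_mono k4 le_rfl).trans (commutator_sup_left_le le_normalizer
    (inf_le_left.trans (QT.trans nR)) (commutator_le_left' (inf_le_left.trans nR))
    ((commutator_mono inf_le_left inf_le_right).trans a))

end H48.QR
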