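import Cfsg.Agent.H48.QR4

/-! The qrc-lemma (S1824): assembly. -/

set_option autoImplicit false

namespace H48.QR

open Subgroup Cfsg H98 H96
open scoped commutatorElement

universe u

variable {G : Type u} [Group G] [Finite G] {T H M V N : Subgroup G}

theorem case_ii (jv : JobV.{u}) (hT : IsSyl 2 T H) (hM : UMax T M H)
    (hV : IsElementaryAbelian 2 V) (VQ : V ≤ pCoreOf 2 H) (nV : T ≤ nr V) (h1 : ¬ H ≤ nr V)
    (hJ : ¬ jt 2 (T ⊓ cn V) ≤ pCoreOf 2 H) (nN : M ≤ nr N) (eN : T ⊓ N = T ⊓ cn V)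
    (hq : ¬ Qd T V) : T ⊓ res 2 H ≤ T ⊓ cn V := by
  have QT := hT.pCoreOf_le
  have nK := self_le_normalizer_res (p := 2) H
  have nQ := self_le_normalizer_pCoreOf (p := 2) H
  have KH := res_le (p := 2) H
  have cQ : ∀ h ∈ H, cj h V ≤ pCoreOf 2 H := fun h hh => cj_le_of_le VQ (nQ hh)
  have ab : ∀ h ∈ H, cj h V ≤ cn V := by
    have k : ∀ h ∈ H, ix (cj h V) V ≤ ix V (cj h V) → cj h V ≤ cn V := fun h hh e =>
      by_contra fun e' => hq (qd_of_le ((cQ h hh).trans QT) e' (bot_iff.2 ((commutator_le_right' (by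
        rw [← cj_normalizer, le_cj_iff]; exact (cQ _ (inv_mem hh)).trans (QT.trans nV))).trans
        (H12.ea_le_centralizer (ea_cj hV h)))) e)
    refine fun h hh => (le_total _ _).elim (k h hh) fun e => ?_
    rw [le_centralizer_iff, ← cj_centralizer, le_cj_iff]
    refine k _ (inv_mem hh) ?_
    rwa [← ix_cj h, ← ix_cj h V, cj_cj_inv]
  have nU := le_normalizer_ncl H V
  have UV : ncl H V ≤ cn V := ncl_le_iff.2 ab
  have UU : ncl H V ≤ cn (ncl H V) := le_centralizer_ncl UV nU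
  have hU : IsElementaryAbelian 2 (ncl H V) := H12.ea_iSup (fun g => ea_cj hV _) fun g k =>
    (cj_le_ncl g.2).trans (UU.trans (centralizer_anti (cj_le_ncl k.2)))
  have UQ : ncl H V ≤ pCoreOf 2 H := ncl_le VQ nQ
  have VU := le_ncl H V
  have UH := UQ.trans (pCoreOf_le H)
  have UR : ncl H V ≤ T ⊓ cn V := le_inf (UQ.trans QT) UV
  have KU : ¬ res 2 H ≤ cn (ncl H V) := fun e => h1 (hT.sup_res ▸ sup_le nV
    (le_normalizer_of_le_centralizer (e.trans (centralizer_anti VU))))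
  have hc := inf_le_core hT hM (le_normalizer_centralizer nU) KU
  obtain ⟨A, hA, AQ⟩ : ∃ A ∈ H12.maxEA 2 (T ⊓ cn V), ¬ A ≤ pCoreOf 2 H := by
    by_contra! e
    exact hJ (H12.thompsonSubgroupOf_le_iff.2 e)
  have AT : A ≤ T := hA.1.trans inf_le_left
  obtain ⟨X, -, XU, c, hm⟩ := exists_cf (H12.ea_isPGroup hU) UH bot_le nU (le_normalizer_bot H)
    fun e => KU (le_centralizer_iff.1 (cn_of_le_bot e))
  by_cases hX : ⁅ncl H V, res 2 H⁆ ≤ X
  swap
  · obtain ⟨X', x1, x2, c', -⟩ := exists_cf (H12.ea_isPGroup hU) UH XU nU c.nX hX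
    obtain ⟨B, b1, b2, b3, b4⟩ := exists_quad hU UR hA (AT.trans (hT.le.trans nU))
      fun e => AQ ((le_inf AT e).trans hc)
    obtain ⟨k1, k2⟩ := case_iii hT hM hU c c' (le_inf x1 (le_stab_iff.2
      ⟨le_normalizer, commutator_le_right' (KH.trans c.nX)⟩)) x2 (H12.ea_mono hA.2.1 b1)
      (b1.trans AT) hc b2 b4
    exact (hq (qd_of_ncl nQ QT inf_le_left k1 (le_bot_iff.1 (b3 ▸ commutator_mono
      (commutator_mono le_rfl inf_le_right) inf_le_right)) k2)).elim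
  have hm' : ∀ Z ≤ X, H ≤ nr Z → Z ≠ X → Z ≤ cn (res 2 H) := fun Z z1 z2 z3 =>
    cn_of_le_bot (hm Z bot_le z1 z2 z3)
  have cc : ∀ Z ≤ ncl H V, H ≤ nr Z → ⁅Z, res 2 H⁆ ≤ cn (res 2 H) → Z ≤ cn (res 2 H) :=
    fun Z h h' e => cn_of_le_bot
      (commutator_res_res ((H12.ea_isPGroup hU).to_le h) h' ▸ le_bot_of e)
  have eX : X ≤ ⁅X, res 2 H⁆ := by_contra fun e => c.nc ((le_bot_of (cc X XU c.nX (hm' _
    (commutator_le_left' (KH.trans c.nX)) (le_normalizer_commutator c.nX nK)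
    fun e' => e e'.ge))).trans bot_le)
  have eU : ncl H V ≤ V ⊔ X := ncl_le le_sup_left (hT.sup_res ▸ sup_le
    (le_normalizer_sup nV (hT.le.trans c.nX))
    (le_normalizer_of_commutator_le (hX.trans le_sup_right) (sup_le VU XU)))
  have nD := le_normalizer_commutator nU nQ
  have hQ : ⁅ncl H V, pCoreOf 2 H⁆ ≤ cn (res 2 H) := cc _
    (commutator_le_left' ((pCoreOf_le H).trans nU)) nD ((le_inf (commutator_le_left' (KH.trans nD))
      ((commutator_mono (commutator_le_left' ((pCoreOf_le H).trans nU)) le_rfl).trans hX)).trans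
      (hm' _ inf_le_right (le_normalizer_inf nD c.nX) fun e => h1 (le_antisymm VU
        (le_of_le_commutator_sup (H12.ea_isPGroup hU) (isPGroup_pCoreOf H) ((pCoreOf_le H).trans nU)
          (UQ.trans (QT.trans nV)) (QT.trans nV) (eU.trans (sup_le le_sup_right
            (e.ge.trans (inf_le_left.trans le_sup_left))))) ▸ nU)))
  by_cases h : X ≤ cn (pCoreOf 2 H)
  · refine case_v jv hT hM c (H12.ea_mono hU XU) h hA AQ (XU.trans UR)
      (le_normalizer_inf le_normalizer (le_normalizer_centralizer nV)) nN eN ?_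
    have e : T ⊓ cn V ⊓ pCoreOf 2 H = pCoreOf 2 H ⊓ cn (ncl H V) := le_antisymm
      (le_inf inf_le_right (le_centralizer_iff.1 (eU.trans (sup_le
        (le_centralizer_iff.1 (inf_le_left.trans inf_le_right))
        (h.trans (centralizer_anti inf_le_right))))))
      (le_inf (inf_le_inf QT (centralizer_anti VU)) inf_le_left)
    rw [e]; exact le_normalizer_inf nQ (le_normalizer_centralizer nU)
  · exact (hq (case_iv hT hU nU UH VU c.nX hX eX XU hm' hQ le_rfl h)).elim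

theorem main (jv : JobV.{u}) (hT : IsSyl 2 T H) (hH : CharP 2 H) (hM : UMax T M H)
    (hV : IsElementaryAbelian 2 V) (VT : V ≤ T) (nV : T ≤ nr V) (h1 : ¬ H ≤ nr V)
    (hJ : ¬ H ≤ nr (jt 2 (T ⊓ cn V))) (nN : M ≤ nr N) (eN : T ⊓ N = T ⊓ cn V) :
    (¬ V ≤ pCoreOf 2 H ∧ Cb T V) ∨ Qd T V ∨ T ⊓ res 2 H ≤ T ⊓ cn V := by
  by_cases hq : Qd T V
  · exact Or.inr (Or.inl hq)
  have eJ : jt 2 (T ⊓ cn V) = jt 2 T := jt_eq_of_le (H12.thompsonSubgroupOf_le_iff.2 fun A hA =>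
    le_inf hA.1 (by_contra fun e => by
      obtain ⟨B, b1, b2, b3, b4⟩ := exists_quad hV VT hA (hA.1.trans nV) e
      exact hq (qd_of_le (b1.trans hA.1) b2 b3 b4))) inf_le_left
  by_cases VQ : V ≤ pCoreOf 2 H
  · refine Or.inr (Or.inr (case_ii jv hT hM hV VQ nV h1 (fun e => hJ ?_) nN eN hq))
    rw [eJ] at e ⊢
    rw [← jt_eq_of_le e hT.pCoreOf_le]
    exact le_normalizer_jt (self_le_normalizer_pCoreOf H)
  have hW : WC 2 (T ⊓ cn V) H := wc_of_isSyl hT inf_le_left fun g hg e => by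
    have k := cj_jt_eq_of_le (p := 2) (g := g) (T := T)
      (eJ ▸ (cj_mono g (jt_le _)).trans e)
    have gM : g ∈ M := hM.inf_le_of_not_le (le_normalizer_jt le_normalizer) (eJ ▸ hJ)
      ⟨hg, cj_eq_self_iff.1 k⟩
    exact cj_eq_self (mem_normalizer_of_cj_le ((le_inf e
      (cj_le_of_le (eN.ge.trans inf_le_right) (nN gM))).trans eN.le))
  have VZ : V ≤ oz 2 (T ⊓ cn V) := le_oz hV (le_inf VT (H12.ea_le_centralizer hV))
    (le_centralizer_iff.1 inf_le_right)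
  obtain ⟨B, b1, b2, b3, b4, b5⟩ := case_i hT hH hW
    (le_normalizer_inf le_normalizer (le_normalizer_centralizer nV)) (ea_oz _) (oz_le _)
    (oz_le_centralizer _) (le_normalizer_oz le_rfl) fun e => VQ (VZ.trans e)
  have k : cn V ⊓ B ≤ cn (oz 2 (T ⊓ cn V)) :=
    (le_inf (inf_le_right.trans b1) inf_le_left).trans (le_centralizer_oz _)
  exact Or.inl ⟨VQ, B, b1, b2, fun e => b3 ((le_inf e le_rfl).trans k), le_bot_iff.1 (b4 ▸
    commutator_mono (commutator_mono (commutator_mono VZ le_rfl) le_rfl) le_rfl),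
    (rr _ VZ).trans (b5.trans (Nat.pow_le_pow_left (rl' k) 2))⟩

theorem t1824 (jv : JobV.{u}) : H97.QT.T1824.{u} := by
  intro G _ _ _ _ hQ T M M₀ H V _ TM MM hH hV hR hI
  change pCoreOf 2 M₀ = _ ⊓ cn V at hR
  change (∃ R₀, R₀ ≠ ⊥ ∧ R₀ ≤ pCoreOf 2 M₀ ∧ _) ∨ (¬ V ≤ pCoreOf 2 H ∧ _) ∨ _
  have hT := isSyl_sylow_of_le T hH.1.1.2
  have hT0 := isSyl_sylow_of_le T TM
  have hc := H97.QT.calH_charP hQ.2.2 T hH.1.1
  have q0 : pCoreOf 2 H ≠ ⊥ := mt pCoreOf_eq_bot_iff.1 hH.1.1.1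
  have hM : UMax T (H ⊓ M) H := ⟨le_inf hT.le (TM.trans MM), inf_lt_left.2 hH.1.2,
    fun X x1 x2 => or_iff_not_imp_left.2 fun e => hH.2 X ⟨⟨fun e' => q0 (le_bot_iff.1
      ((pCoreOf_le_pCoreOf x2 (hT.pCoreOf_le.trans x1)).trans (pCoreOf_eq_bot_iff.2 e').le)), x1⟩,
      fun e' => e (le_inf x2 e')⟩ x2⟩
  have VT : V ≤ T := (le_pCoreOf (H12.ea_isPGroup hV.2.2.1) hV.1 hV.2.1).trans hT0.pCoreOf_le
  have nR := self_le_normalizer_pCoreOf (p := 2) M₀
  have r0 : pCoreOf 2 M₀ ≠ ⊥ := hR ▸ inf_centralizer_ne_bot hT.isPGroup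
    (H12.ea_isPGroup hV.2.2.1) (le_normalizer_of_le VT)
    fun e => q0 (le_bot_iff.1 (hT.pCoreOf_le.trans e.le))
  have pu : ↑T ⊓ res 2 H ≤ pCoreOf 2 M₀ → ∃ R₀, R₀ ≠ ⊥ ∧ R₀ ≤ pCoreOf 2 M₀ ∧ M₀ ⊔ H ≤ nr R₀ := fun e => by
    have nK := hT.le.trans (self_le_normalizer_res (p := 2) H)
    have s := hT.inf_of_le_normalizer (sup_le (res_le H) (hT0.pCoreOf_le.trans hT.le))
      (le_normalizer_sup nK (TM.trans nR))
    rw [inf_comm, sup_comm, sup_inf_of_le_left (hT0.pCoreOf_le.trans nK) hT0.pCoreOf_le,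
      sup_eq_left.2 ((inf_comm _ _).le.trans e), sup_comm] at s
    obtain ⟨R₀, a, b, c, d⟩ := H97.QT.push_up (isSyl_sylow T) (H97.QT.even_charP hQ.2.2 T) hc hM r0
      hT0.pCoreOf_le s (TM.trans nR)
    exact ⟨R₀, a, b, sup_le (nR.trans c) d⟩
  by_cases h1 : H ≤ nr V
  · by_cases v0 : V = ⊥
    · exact Or.inl (pu (by rw [hR, v0, cn, centralizer_bot', inf_top_eq]; exact inf_le_left))
    · exact Or.inl ⟨V, v0, hR ▸ le_inf VT (H12.ea_le_centralizer hV.2.2.1), sup_le hV.2.1 h1⟩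
  by_cases hJ : H ≤ nr (jt 2 (↑T ⊓ cn V))
  · refine Or.inl ⟨_, H12.thompsonSubgroupOf_ne_bot ?_, jt_le _, sup_le (le_normalizer_jt nR) (hR ▸ hJ)⟩
    exact by_contra fun e => r0 ((isSyl_self (isPGroup_pCoreOf M₀)).eq_bot_iff.2 e)
  obtain ⟨N, nN, eN⟩ : ∃ N, H ⊓ M ≤ nr N ∧ ↑T ⊓ N = ↑T ⊓ cn V := by
    rcases hI with h | h
    · rw [H97.QT.oddGenerated_eq] at h
      have nX := self_le_normalizer_res (p := 2) M₀
      have XM := res_le (p := 2) M₀
      have nO := le_normalizer_pCoreOf (p := 2) nX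
      have OO := pCoreOf_eq_inf_of_normal (p := 2) XM nX
      refine ⟨stab (res 2 M₀) (pCoreOf 2 (res 2 M₀)), le_normalizer_stab h (le_normalizer_pCoreOf h),
        (le_antisymm (le_pCoreOf (hT.isPGroup.to_le inf_le_left) (inf_le_left.trans TM) ?_)
        (le_inf hT0.pCoreOf_le (le_stab_iff.2 ⟨(pCoreOf_le _).trans nO, (le_inf
          (commutator_le_right' (XM.trans nR)) (commutator_le_left' ((pCoreOf_le _).trans nX))).trans
          OO.ge⟩))).trans hR⟩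
      refine hT0.sup_res.ge.trans (sup_le (le_normalizer_inf le_normalizer
        (TM.trans (le_normalizer_stab nX nO))) (le_normalizer_of_commutator_le ?_ le_rfl))
      rw [commutator_comm]
      refine (le_stab_iff.1 inf_le_right).2.trans (le_inf (OO.le.trans
        (inf_le_left.trans hT0.pCoreOf_le)) (le_stab_iff.2 ⟨le_normalizer, commutator_le_right' (XM.trans nO)⟩))
    · exact ⟨cn V, le_normalizer_centralizer h, rfl⟩
  rcases main jv hT hc hM hV.2.2.1 VT (TM.trans hV.2.1) h1 hJ nN eN with h | h | h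
  · exact Or.inr (Or.inl ⟨h.1, h.2.param TM⟩)
  · exact Or.inr (Or.inr (h.param TM hV.2.2.1 (TM.trans hV.2.1)))
  · exact Or.inl (pu (hR ▸ h))

end H48.QR
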