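/- BG Theorem 12.12 from the classes of `H46.Spec12`. -/
import Cfsg.Agent.H48.Sec1212

namespace H48
open H46

universe u

instance i12_8b [T12_8.{u}] : H51.T12_8b.{u} :=
  ⟨T12_8.abelian_tau2_sub_Fitting, T12_8.abelian_tau2, T12_8.abelian_tau2_norm_Sylow⟩

instance i12_11b [T12_11.{u}] : H51.T12_11b.{u} := ⟨T12_11.out⟩

example [H50.T10_2.{u}] [T12_1.{u}] [T12_5.{u}] [T12_6.{u}] [T12_7.{u}] [T12_8.{u}]
    [T12_10.{u}] [T12_11.{u}] : T12_12.{u} := inferInstance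

end H48
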