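/- The hypothesis of S3253 in usable form. -/
import Cfsg.Agent.H48.T3Lem

set_option autoImplicit false

namespace H48.T3
open Subgroup Cfsg H98 H96.CG

universe u

/-- what is used of the two model groups -/
structure Mod (M : Type) [Group M] : Prop where
  m1 : ∀ a b : M, a * a = 1 → b * b = 1 → a * b * (a * b) = 1
  m2 : ∀ a : M, a ^ 6 = 1
  m3 : (Nat.card {a : M // a * a = 1} = 1 ∧ Nat.card M = 9) ∨
    (Nat.card {a : M // a * a = 1} = 4 ∧ Nat.card M = 36)
  m4 : ∀ s : M, s ≠ 1 → (∀ a, a * s = s * a) → ∀ y : M,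
    (∃ v, v * v = 1 ∧ (y = v ∨ y = v * s ∨ y = v * s⁻¹)) ∨
      (y ^ 3 = 1 ∧ ∀ v, v * v = 1 → y * v = v * y → v = 1)

theorem mod33 : Mod (Multiplicative (ZMod 3) × Multiplicative (ZMod 3)) where
  m1 := by decide +kernel
  m2 := by decide +kernel
  m3 := Or.inl ⟨by rw [Nat.card_eq_fintype_card]; decide +kernel, by simp⟩
  m4 := fun s _ _ y => Or.inr (by revert y; decide +kernel)

theorem a4_1 : ∀ a b : alternatingGroup (Fin 4), a * a = 1 → b * b = 1 → a * b * (a * b) = 1 := by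
  decide +kernel
theorem a4_2 : ∀ a : alternatingGroup (Fin 4), a * a = 1 ∨
    (a ^ 3 = 1 ∧ ∀ v, v * v = 1 → a * v = v * a → v = 1) := by decide +kernel
theorem a4_3 : ∀ a : alternatingGroup (Fin 4), (∀ b, b * a = a * b) → a = 1 := by decide +kernel
theorem z3_1 : ∀ a : Multiplicative (ZMod 3), a ^ 3 = 1 := by decide +kernel
theorem z3_2 : ∀ a : Multiplicative (ZMod 3), a * a = 1 → a = 1 := by decide +kernel
theorem z3_3 : ∀ a b : Multiplicative (ZMod 3), a ≠ 1 → b = 1 ∨ b = a ∨ b = a⁻¹ := by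
  decide +kernel

theorem mod34 : Mod (Multiplicative (ZMod 3) × alternatingGroup (Fin 4)) where
  m1 := by
    rintro ⟨a, a'⟩ ⟨b, b'⟩ h1 h2
    simp only [Prod.mk_mul_mk, Prod.mk_eq_one] at h1 h2 ⊢
    refine ⟨?_, a4_1 _ _ h1.2 h2.2⟩
    rw [z3_2 a h1.1, z3_2 b h2.1]; simp
  m2 := by
    rintro ⟨a, a'⟩
    simp only [Prod.pow_mk, Prod.mk_eq_one]
    refine ⟨by rw [show 6 = 3 * 2 from rfl, pow_mul, z3_1, one_pow], ?_⟩
    rcases a4_2 a' with h | h
    · rw [show 6 = 2 * 3 from rfl, pow_mul, pow_two, h, one_pow]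
    · rw [show 6 = 3 * 2 from rfl, pow_mul, h.1, one_pow]
  m3 := Or.inr ⟨by rw [Nat.card_eq_fintype_card]; decide +kernel, by
    rw [Nat.card_eq_fintype_card]; decide +kernel⟩
  m4 := by
    rintro ⟨s, s'⟩ h1 hc ⟨y, y'⟩
    have e : s' = 1 := a4_3 s' fun b => congrArg Prod.snd (hc (1, b))
    subst e
    have hs : s ≠ 1 := fun e => h1 (by rw [e]; rfl)
    rcases a4_2 y' with h | h
    · refine Or.inl ⟨(1, y'), by simp [h], ?_⟩
      rcases z3_3 s y hs with rfl | rfl | rfl <;> simp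
    · refine Or.inr ⟨by simp [z3_1, h.1], ?_⟩
      rintro ⟨v, v'⟩ hv hyv
      simp only [Prod.mk_mul_mk, Prod.mk_eq_one, Prod.mk.injEq] at hv hyv ⊢
      exact ⟨z3_2 v hv.1, h.2 v' hv.2 hyv.2⟩

section
variable {G : Type u} [Group G]

theorem mem_cen1 {s c : G} : c ∈ cen1 s ↔ c * s = s * c := by
  rw [mem_centralizer_iff]
  exact ⟨fun h => (h s rfl).symm, by rintro h _ rfl; exact h.symm⟩

theorem loc_of_mod {M : Type} [Group M] (hM : Mod M) {s : G} (hs : orderOf s = 3)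
    (φ : cen1 s ≃* M) :
    (∀ c, c ∈ V s ↔ c * s = s * c ∧ c * c = 1) ∧ (V s = ⊥ ∨ Nat.card (V s) = 4) ∧
    Nat.card (cen1 s) = 9 * Nat.card (V s) ∧
    (∀ c, c * s = s * c → ∀ k : ℕ, c ^ 2 ^ k = 1 → c ∈ V s) ∧
    ∀ y, y * s = s * y → y ∉ V s ⊔ zpowers s →
      y ^ 3 = 1 ∧ ∀ v ∈ V s, y * v = v * y → v = 1 := by
  have sqi : ∀ c : cen1 s, φ c * φ c = 1 ↔ (c : G) * c = 1 := fun c => by
    rw [← map_mul, map_eq_one_iff _ φ.injective, Subtype.ext_iff]; rfl
  let K : Subgroup G :=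
    { carrier := {c | c * s = s * c ∧ c * c = 1}
      one_mem' := by simp
      inv_mem' := fun {c} h => by rw [inv_eq_of_mul_eq_one_right h.2]; exact h
      mul_mem' := fun {a b} ha hb => by
        have ma := mem_cen1.mpr ha.1
        have mb := mem_cen1.mpr hb.1
        refine ⟨mem_cen1.mp (mul_mem ma mb), (sqi (⟨a, ma⟩ * ⟨b, mb⟩)).mp ?_⟩
        rw [map_mul]
        exact hM.m1 _ _ ((sqi ⟨a, ma⟩).mpr ha.2) ((sqi ⟨b, mb⟩).mpr hb.2) }
  have hK : V s = K := closure_eq K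
  have h1 : ∀ c, c ∈ V s ↔ c * s = s * c ∧ c * c = 1 := fun c => by rw [hK]; rfl
  have hc : Nat.card (V s) = Nat.card {a : M // a * a = 1} := by
    refine Nat.card_congr
      { toFun := fun c => ⟨φ ⟨c, mem_cen1.mpr ((h1 c).mp c.2).1⟩, (sqi _).mpr ((h1 c).mp c.2).2⟩
        invFun := fun a => ⟨φ.symm a.1, (h1 _).mpr ⟨mem_cen1.mp (φ.symm a.1).2,
          (sqi _).mp (by rw [φ.apply_symm_apply]; exact a.2)⟩⟩
        left_inv := fun c => by simp
        right_inv := fun a => by simp }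
  have hC : Nat.card (cen1 s) = Nat.card M := Nat.card_congr φ.toEquiv
  refine ⟨h1, ?_, ?_, fun c h k hk => (h1 c).mpr ⟨h, ?_⟩, fun y hy hn => ?_⟩
  · rcases hM.m3 with h | h
    · left; rw [← card_eq_one, hc, h.1]
    · right; rw [hc, h.1]
  · rcases hM.m3 with h | h <;> rw [hC, hc, h.1, h.2]
  · have h6 : c ^ 6 = 1 := by
      have := hM.m2 (φ ⟨c, mem_cen1.mpr h⟩)
      rw [← map_pow, map_eq_one_iff _ φ.injective, Subtype.ext_iff] at this
      exact this
    have d1 := orderOf_dvd_of_pow_eq_one h6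
    have d2 := orderOf_dvd_of_pow_eq_one hk
    have d3 : orderOf c ∣ 2 := by
      refine Nat.Coprime.dvd_of_dvd_mul_right (n := 3) ?_ d1
      exact Nat.Coprime.coprime_dvd_left d2 (Nat.Coprime.pow_left k (by norm_num))
    rw [← pow_two]
    exact orderOf_dvd_iff_pow_eq_one.mp d3
  · have ms : s ∈ cen1 s := mem_cen1.mpr rfl
    have my := mem_cen1.mpr hy
    rcases hM.m4 (φ ⟨s, ms⟩) (by
        rw [Ne, map_eq_one_iff _ φ.injective, Subtype.ext_iff]; exact ne_one_of hs)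
      (fun a => by
        rw [← φ.apply_symm_apply a, ← map_mul, ← map_mul]
        exact congrArg φ (Subtype.ext (mem_cen1.mp (φ.symm a).2))) (φ ⟨y, my⟩) with h | h
    · exfalso
      obtain ⟨v, hv, h⟩ := h
      obtain ⟨w, rfl⟩ := φ.surjective v
      have hw : (w : G) ∈ V s ⊔ zpowers s :=
        mem_sup_left ((h1 _).mpr ⟨mem_cen1.mp w.2, (sqi w).mp hv⟩)
      have hs' : s ∈ V s ⊔ zpowers s := mem_sup_right (mem_zpowers s)
      rw [← map_inv, ← map_mul, ← map_mul] at h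
      simp only [EmbeddingLike.apply_eq_iff_eq, Subtype.ext_iff, coe_mul, coe_inv] at h
      rcases h with h | h | h <;> refine hn (h ▸ ?_)
      exacts [hw, mul_mem hw hs', mul_mem hw (inv_mem hs')]
    · refine ⟨?_, fun v hv e => ?_⟩
      · have := h.1
        rw [← map_pow, map_eq_one_iff _ φ.injective, Subtype.ext_iff] at this
        exact this
      · have mv := mem_cen1.mpr ((h1 v).mp hv).1
        have := h.2 (φ ⟨v, mv⟩) ((sqi _).mpr ((h1 v).mp hv).2) (by
          rw [← map_mul, ← map_mul]; exact congrArg φ (Subtype.ext e))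
        rw [map_eq_one_iff _ φ.injective, Subtype.ext_iff] at this
        exact this

theorem jobHy [Finite G] (h3ex : ∃ s : G, orderOf s = 3)
    (h3 : ∀ s : G, orderOf s = 3 →
      Nonempty (cen1 s ≃* (Multiplicative (ZMod 3) × Multiplicative (ZMod 3))) ∨
      Nonempty (cen1 s ≃* (Multiplicative (ZMod 3) × alternatingGroup (Fin 4)))) : Hy G := by
  have key := fun s (hs : orderOf s = 3) => (h3 s hs).elim
    (fun h => h.elim fun φ => loc_of_mod mod33 hs φ) (fun h => h.elim fun φ => loc_of_mod mod34 hs φ)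
  refine ⟨fun s hs => (key s hs).1, fun s hs => (key s hs).2.1, fun s hs => (key s hs).2.2.1,
    fun s hs => (key s hs).2.2.2.1, fun s hs => (key s hs).2.2.2.2, ?_, fun h => ?_⟩
  · obtain ⟨s, hs⟩ := h3ex
    exact (Dvd.intro _ (key s hs).2.2.1.symm).trans (card_subgroup_dvd_card _)
  · have : Fact (Nat.Prime 3) := ⟨by norm_num⟩
    obtain ⟨P, hP⟩ := Sylow.exists_subgroup_card_pow_prime 3 (n := 3) (G := G) h
    have hp : IsPGroup 3 P := IsPGroup.of_card hP
    have : Nontrivial P := Finite.one_lt_card_iff_nontrivial.mp (by rw [hP]; norm_num)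
    have : Nontrivial (center P) := hp.center_nontrivial
    obtain ⟨z, hz⟩ := exists_prime_orderOf_dvd_card' (G := center P) 3 (by
      obtain ⟨n, hn, e⟩ := (hp.to_subgroup (center P)).nontrivial_iff_card.mp inferInstance
      rw [e]; exact dvd_pow_self 3 hn.ne')
    have hz' : orderOf ((z : P) : G) = 3 := by rw [orderOf_coe, orderOf_coe, hz]
    have hle : P ≤ cen1 ((z : P) : G) := fun g hg =>
      mem_cen1.mpr (congrArg Subtype.val (mem_center_iff.mp z.2 ⟨g, hg⟩))
    have d := card_dvd_of_le hle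
    rw [hP, (key _ hz').2.2.1] at d
    rcases (key _ hz').2.1 with e | e
    · rw [e, card_bot] at d; norm_num at d
    · rw [e] at d; norm_num at d

end

end H48.T3
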