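import Cfsg.Agent.H88.TESpec

/-! TE2, job C3: the group `P = UT₃(4) × UT₃(4)` and the action of its normaliser. -/

set_option autoImplicit false
set_option linter.unusedSectionVars false
set_option linter.constructorNameAsVariable false

namespace H48.TeC3

open Subgroup Cfsg H98 H1.Gold H86.L34 H88.AS H88.TE
open H6 (F4)

universe u

variable {G : Type u} [Group G] [Finite G]

theorem idx {T : Type} [Finite T] (X Y : Subgroup G) (f : G → T)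
    (h : ∀ x ∈ X, ∀ y ∈ X, f x = f y → x⁻¹ * y ∈ Y) : Nat.card X ≤ Nat.card T * Nat.card ↥(X ⊓ Y) := by
  rw [← (Y.subgroupOf X).index_mul_card, ← inf_subgroupOf_left, Nat.card_congr (subgroupOfEquivOfLe inf_le_left).toEquiv,
    inf_subgroupOf_left]
  refine Nat.mul_le_mul_right _ (Nat.card_le_card_of_injective (fun c : X ⧸ Y.subgroupOf X => f c.out) fun a b e => ?_)
  rw [← a.out_eq', ← b.out_eq']
  exact QuotientGroup.eq.2 (h _ a.out.2 _ b.out.2 e)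

theorem idx2 (X Y : Subgroup G) (h : ∀ x ∈ X, ∀ y ∈ X, x ∉ Y → y ∉ Y → x⁻¹ * y ∈ Y) :
    Nat.card X ≤ 2 * Nat.card ↥(X ⊓ Y) := by
  classical
  simpa using idx X Y (fun x => decide (x ∈ Y)) fun x hx y hy e => by
    rw [decide_eq_decide] at e
    by_cases m : x ∈ Y
    exacts [mul_mem (inv_mem m) (e.1 m), h x hx y hy m (mt e.2 m)]

/-- The semilinear monomial maps. -/
def Φ (l k : F4) (σ τ : Bool) (v : F4 × F4) : F4 × F4 :=
  if τ then (l * fr σ v.2, k * fr σ v.1) else (l * fr σ v.1, k * fr σ v.2)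

def ln (x y : F4 × F4) : F4 → F4 × F4
  | .o => 0 | .i => x | .w => y | .v => x + y

def Qd (v : F4 × F4) : F4 := v.1 * v.2

set_option synthInstance.maxSize 2000 in
theorem cls (φ : F4 × F4 → F4 × F4) (h1 : ∀ v w, φ (v + w) = φ v + φ w) (h3 : ∀ v, φ v = 0 → v = 0)
    (h4 : ∀ v v', Qd v = Qd v' → Qd (φ v) = Qd (φ v')) :
    ∃ l k σ τ, l ≠ 0 ∧ k ≠ 0 ∧ ∀ v, φ v = Φ l k σ τ v := by
  have h0 : φ 0 = 0 := by simpa using h1 0 0
  have e1 : ∀ a, φ (a, 0) = ln (φ (1, 0)) (φ (.w, 0)) a := fun a => by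
    cases a
    exacts [h0, rfl, rfl, h1 (1, 0) (.w, 0)]
  have e2 : ∀ a, φ (0, a) = ln (φ (0, 1)) (φ (0, .w)) a := fun a => by
    cases a
    exacts [h0, rfl, rfl, h1 (0, 1) (0, .w)]
  have e : ∀ v, φ v = ln (φ (1, 0)) (φ (.w, 0)) v.1 + ln (φ (0, 1)) (φ (0, .w)) v.2 := fun v => by
    rw [← e1, ← e2, ← h1]; simp
  have z : ∀ v, Qd v = 0 → Qd (φ v) = 0 := fun v hv => by rw [h4 v 0 hv, h0]; rfl
  have := (by decide +kernel : ∀ x : F4 × F4, Qd x = 0 → ∀ y, Qd y = 0 → Qd (x + y) = 0 → ∀ x', Qd x' = 0 →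
    ∀ y', Qd y' = 0 → Qd (x' + y') = 0 → (∀ v : F4 × F4, ln x y v.1 + ln x' y' v.2 = 0 → v = 0) →
    (∀ v : F4 × F4, Qd (ln x y v.1 + ln x' y' v.2) = Qd (ln x y (Qd v) + x')) →
    ∃ l k σ τ, l ≠ 0 ∧ k ≠ 0 ∧ ∀ v : F4 × F4, ln x y v.1 + ln x' y' v.2 = Φ l k σ τ v)
    _ (z (1, 0) rfl) _ (z (.w, 0) rfl) (h1 _ _ ▸ z _ rfl) _ (z (0, 1) rfl) _ (z (0, .w) rfl) (h1 _ _ ▸ z _ rfl)
    (fun v hv => h3 v ((e v).trans hv)) fun v => by
      rw [← e v, h4 v (Qd v, 1) (mul_one _).symm, e]; rfl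
  simpa only [← e] using this

/-- The product of two unitriangular groups with their centres. -/
structure PQ (p q : F4 → F4 → F4 → G) (P Z Z' : Subgroup G) : Prop where
  hp : HM p
  hq : HM q
  com : ∀ a b c a' b' c', Commute (p a b c) (q a' b' c')
  dis : ∀ a b c a' b' c', p a b c = q a' b' c' → p a b c = 1
  memP : ∀ x, x ∈ P ↔ ∃ a b c a' b' c', x = p a b c * q a' b' c'
  memZ : ∀ x, x ∈ Z ↔ ∃ c, p 0 0 c = x
  memZ' : ∀ x, x ∈ Z' ↔ ∃ c, q 0 0 c = x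

/-- The coordinates of the first factor. -/
noncomputable def co (p q : F4 → F4 → F4 → G) (x : G) : (F4 × F4) × F4 :=
  Classical.epsilon fun v => ∃ a b c, x = p v.1.1 v.1.2 v.2 * q a b c

variable {p q : F4 → F4 → F4 → G} {P Z Z' : Subgroup G} {a b c a' b' c' l k : F4} {σ τ : Bool} {s x y : G}

namespace PQ

variable (h : PQ p q P Z Z')
include h

theorem symm : PQ q p P Z' Z :=
  ⟨h.hq, h.hp, fun _ _ _ _ _ _ => (h.com ..).symm, fun _ _ _ _ _ _ e => e.trans (h.dis _ _ _ _ _ _ e.symm),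
    fun x => (h.memP x).trans ⟨fun ⟨_, _, _, _, _, _, e⟩ => ⟨_, _, _, _, _, _, e.trans (h.com ..)⟩,
      fun ⟨_, _, _, _, _, _, e⟩ => ⟨_, _, _, _, _, _, e.trans (h.com ..).symm⟩⟩, h.memZ', h.memZ⟩

theorem mem (a b c a' b' c' : F4) : p a b c * q a' b' c' ∈ P := (h.memP _).2 ⟨_, _, _, _, _, _, rfl⟩

theorem p_eq (a b c : F4) : p a b c = p a b c * q 0 0 0 := by rw [h.hq.one, mul_one]

theorem memp (a b c : F4) : p a b c ∈ P := h.p_eq a b c ▸ h.mem ..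

theorem mul (a b c a' b' c' x y z x' y' z' : F4) : p a b c * q a' b' c' * (p x y z * q x' y' z') =
    p (a + x) (b + y) (c + z + a * y) * q (a' + x') (b' + y') (c' + z' + a' * y') := by
  rw [(h.com x y z a' b' c').symm.mul_mul_mul_comm, h.hp.mul, h.hq.mul]

theorem inv (a b c a' b' c' : F4) : (p a b c * q a' b' c')⁻¹ = p a b (c + a * b) * q a' b' (c' + a' * b') := by
  rw [(h.com ..).eq, mul_inv_rev, h.hp.inv, h.hq.inv]

theorem sq (a b c a' b' c' : F4) : p a b c * q a' b' c' * (p a b c * q a' b' c') =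
    p 0 0 (a * b) * q 0 0 (a' * b') := by simp [h.mul]

theorem comm (a b c a' b' c' x y z x' y' z' : F4) : p a b c * q a' b' c' * (p x y z * q x' y' z') *
    (p a b c * q a' b' c')⁻¹ * (p x y z * q x' y' z')⁻¹ = p 0 0 (a * y + b * x) * q 0 0 (a' * y' + b' * x') := by
  rw [← h.hp.comm a b c x y z, ← h.hq.comm a' b' c' x' y' z', commutatorElement_def, commutatorElement_def,
    h.inv, h.inv, h.mul, h.mul, h.mul, h.hp.inv, h.hp.inv, h.hq.inv, h.hq.inv, h.hp.mul, h.hp.mul, h.hp.mul,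
    h.hq.mul, h.hq.mul, h.hq.mul]

theorem ext {x y z x' y' z' : F4} (e : p a b c * q a' b' c' = p x y z * q x' y' z') : a = x ∧ b = y ∧ c = z := by
  have : (p x y z)⁻¹ * p a b c = q x' y' z' * (q a' b' c')⁻¹ := by rw [eq_mul_inv_of_mul_eq e]; group
  rw [h.hp.inv, h.hq.inv, h.hp.mul, h.hq.mul] at this
  have := h.dis _ _ _ _ _ _ this
  rw [← h.hp.mul, ← h.hp.inv, inv_mul_eq_one] at this
  exact h.hp.ext this.symm

theorem co_eq (a b c a' b' c' : F4) : co p q (p a b c * q a' b' c') = ((a, b), c) := by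
  obtain ⟨_, _, _, e⟩ := Classical.epsilon_spec (p := fun v : (F4 × F4) × F4 =>
    ∃ x y z, p a b c * q a' b' c' = p v.1.1 v.1.2 v.2 * q x y z) ⟨((a, b), c), _, _, _, rfl⟩
  obtain ⟨e1, e2, e3⟩ := h.ext e
  exact Prod.ext (Prod.ext e1.symm e2.symm) e3.symm

theorem co_eq' (a b c a' b' c' : F4) : co q p (p a b c * q a' b' c') = ((a', b'), c') := by
  rw [(h.com ..).eq, h.symm.co_eq]

theorem co_p (a b c : F4) : co p q (p a b c) = ((a, b), c) := by rw [h.p_eq, h.co_eq]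

theorem π_mul (hx : x ∈ P) (hy : y ∈ P) : (co p q (x * y)).1 = (co p q x).1 + (co p q y).1 := by
  obtain ⟨_, _, _, _, _, _, rfl⟩ := (h.memP x).1 hx
  obtain ⟨_, _, _, _, _, _, rfl⟩ := (h.memP y).1 hy
  rw [h.mul, h.co_eq, h.co_eq, h.co_eq]; rfl

theorem π_inv (hx : x ∈ P) : (co p q x⁻¹).1 = (co p q x).1 := by
  obtain ⟨_, _, _, _, _, _, rfl⟩ := (h.memP x).1 hx
  rw [h.inv, h.co_eq, h.co_eq]

theorem co_sq (hx : x ∈ P) : co p q (x * x) = (0, Qd (co p q x).1) := by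
  obtain ⟨_, _, _, _, _, _, rfl⟩ := (h.memP x).1 hx
  rw [h.sq, h.co_eq, h.co_eq]; rfl

theorem cardZ : Nat.card Z = 4 := by
  rw [show Z = h.hp.A ⊓ h.hp.B from Subgroup.ext fun x => (h.memZ x).trans h.hp.mem_Z.symm, h.hp.card_Z,
    Nat.card_eq_fintype_card, H6.F4.card_eq]
  rfl

theorem ZP : Z ≤ P := fun x hx => let ⟨_, e⟩ := (h.memZ x).1 hx; e ▸ h.memp ..

theorem cenZ : P ≤ cen Z := fun x hx y hy => by
  obtain ⟨_, _, _, _, _, _, rfl⟩ := (h.memP x).1 hx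
  obtain ⟨c, rfl⟩ := (h.memZ y).1 hy
  rw [h.p_eq 0 0 c, h.mul, h.mul]; simp [add_comm]

theorem eq_one (h1 : x ∈ Z) (h2 : x ∈ Z') : x = 1 := by
  obtain ⟨_, rfl⟩ := (h.memZ x).1 h1
  obtain ⟨_, e⟩ := (h.memZ' _).1 h2
  exact h.dis _ _ _ _ _ _ e.symm

theorem p_ne (hc : c ≠ 0) : p 0 0 c ≠ 1 := fun e => hc (h.hp.inj e).2.2

theorem ne : Z ≠ Z' := fun e => h.p_ne one_ne_zero
  (h.eq_one ((h.memZ _).2 ⟨1, rfl⟩) (e ▸ (h.memZ _).2 ⟨1, rfl⟩))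

theorem surj (hx : x ∈ P) (h0 : (co p q x).1 ≠ 0) (c : F4) : ∃ y ∈ P, x * y * x⁻¹ * y⁻¹ = p 0 0 c := by
  obtain ⟨a, b, _, _, _, _, rfl⟩ := (h.memP x).1 hx
  rw [h.co_eq] at h0
  obtain ⟨u, v, e⟩ := (by decide : ∀ a b c : F4, (a, b) ≠ 0 → ∃ u v, a * v + b * u = c) a b c h0
  exact ⟨_, h.mem u v 0 0 0 0, by rw [h.comm, e]; simp [h.hq.one]⟩

theorem zero_iff (hx : x ∈ P) : (co p q x).1 = 0 ↔ ∀ y ∈ P, x * y * x⁻¹ * y⁻¹ ∈ Z' := by
  refine ⟨fun e y hy => ?_, fun e => by_contra fun h0 => ?_⟩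
  · obtain ⟨a, b, _, _, _, _, rfl⟩ := (h.memP x).1 hx
    obtain ⟨_, _, _, _, _, _, rfl⟩ := (h.memP y).1 hy
    rw [h.co_eq] at e
    obtain ⟨rfl, rfl⟩ := Prod.mk_eq_zero.1 e
    rw [h.comm]
    exact (h.memZ' _).2 ⟨_, by simp [h.hp.one]; rfl⟩
  · obtain ⟨y, hy, e'⟩ := h.surj hx h0 1
    exact h.p_ne one_ne_zero (h.eq_one ((h.memZ _).2 ⟨1, rfl⟩) (e' ▸ e y hy))

theorem memB (hx : x ∈ P) (h1 : (co p q x).1 = 0) (h2 : (co q p x).1 = 0) : ∃ c c', x = p 0 0 c * q 0 0 c' := by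
  obtain ⟨a, b, c, a', b', c', rfl⟩ := (h.memP x).1 hx
  rw [h.co_eq] at h1
  rw [h.co_eq'] at h2
  obtain ⟨rfl, rfl⟩ := Prod.mk_eq_zero.1 h1
  obtain ⟨rfl, rfl⟩ := Prod.mk_eq_zero.1 h2
  exact ⟨c, c', rfl⟩

/-- transport of the kernels of the coordinates -/
theorem zero_conj {p' q' : F4 → F4 → F4 → G} {W W' : Subgroup G} (h' : PQ p' q' P W W') (hs : s ∈ nor P)
    (e : cj s Z' ≤ W') (hx : x ∈ P) (h0 : (co p q x).1 = 0) : (co p' q' (s * x * s⁻¹)).1 = 0 :=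
  (h'.zero_iff (conj_mem_of_mem_normalizer hs hx)).2 fun y hy => by
    have := e (conj_mem_cj ((h.zero_iff hx).1 h0 _ (conj_mem_of_mem_normalizer' hs hy)))
    convert this using 1
    group

theorem perm (hs : s ∈ nor P) : cj s Z = Z ∨ cj s Z = Z' := by
  have hx := conj_mem_of_mem_normalizer hs (h.memp 1 0 0)
  have k : ∀ y ∈ P, s * p 1 0 0 * s⁻¹ * y * (s * p 1 0 0 * s⁻¹)⁻¹ * y⁻¹ ∈ cj s Z := fun y hy => by
    have := conj_mem_cj (g := s) ((h.symm.zero_iff (h.memp 1 0 0)).1 (by rw [h.p_eq, h.co_eq']; rfl) _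
      (conj_mem_of_mem_normalizer' hs hy))
    convert this using 1
    group
  by_cases h1 : (co p q (s * p 1 0 0 * s⁻¹)).1 = 0
  · refine .inr (eq_of_le_of_card_ge (fun z hz => ?_) (by rw [card_cj, h.cardZ, h.symm.cardZ])).symm
    obtain ⟨c, rfl⟩ := (h.memZ' z).1 hz
    refine (h.symm.surj hx (fun h2 => ?_) c).elim fun y e => e.2 ▸ k y e.1
    obtain ⟨c, c', e⟩ := h.memB hx h1 h2
    have m : s * p 1 0 0 * s⁻¹ ∈ cen P := le_centralizer_iff.1 (le_inf h.cenZ h.symm.cenZ |>.trans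
      (centralizer_sup Z Z').ge) (e ▸ mul_mem_sup ((h.memZ _).2 ⟨c, rfl⟩) ((h.memZ' _).2 ⟨c', rfl⟩))
    have := m _ (conj_mem_of_mem_normalizer hs (h.memp 0 1 0))
    rw [conj_mul, conj_mul, mul_left_inj, mul_right_inj, h.hp.mul, h.hp.mul] at this
    exact absurd (h.hp.ext this).2.2 (by decide)
  · refine .inl (eq_of_le_of_card_ge (fun z hz => ?_) (card_cj s Z).le).symm
    obtain ⟨c, rfl⟩ := (h.memZ z).1 hz
    obtain ⟨y, hy, e⟩ := h.surj hx h1 c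
    exact e ▸ k y hy

theorem perm' (hs : s ∈ nor P) : (cj s Z = Z ∧ cj s Z' = Z') ∨ (cj s Z = Z' ∧ cj s Z' = Z) := by
  rcases h.perm hs with e | e <;> rcases h.symm.perm hs with e' | e'
  exacts [.inl ⟨e, e'⟩, (h.ne (cj_inj.1 (e.trans e'.symm))).elim,
    (h.ne (cj_inj.1 (e.trans e'.symm))).elim, .inr ⟨e, e'⟩]

theorem norZ' (hs : s ∈ nor P) (h1 : s ∈ nor Z) : s ∈ nor Z' :=
  (h.perm' hs).elim (fun e => mem_normalizer_of_cj_le e.2.le) fun e => (h.ne ((cj_eq_self h1).symm.trans e.1)).elim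

end PQ

/-- The type of `s` on the first factor. -/
structure Ty (p q : F4 → F4 → F4 → G) (P : Subgroup G) (s : G) (l k : F4) (σ τ : Bool) : Prop where
  l0 : l ≠ 0
  k0 : k ≠ 0
  act : ∀ x ∈ P, (co p q (s * x * s⁻¹)).1 = Φ l k σ τ (co p q x).1
  actZ : ∀ c, s * p 0 0 c * s⁻¹ = p 0 0 (l * k * fr σ c)

theorem PQ.exTy (h : PQ p q P Z Z') (hs : s ∈ nor P) (h1 : s ∈ nor Z) : ∃ l k σ τ, Ty p q P s l k σ τ := by
  have h2 := h.norZ' hs h1
  have m : ∀ {x}, x ∈ P → s * x * s⁻¹ ∈ P := conj_mem_of_mem_normalizer hs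
  have e1 : ∀ x ∈ P, (co p q (s * x * s⁻¹)).1 = (co p q (s * p (co p q x).1.1 (co p q x).1.2 0 * s⁻¹)).1 :=
    fun x hx => by
      have m1 := h.memp (co p q x).1.1 (co p q x).1.2 0
      have := h.zero_conj h hs (cj_eq_self h2).le (mul_mem (inv_mem m1) hx) (by
        rw [h.π_mul (inv_mem m1) hx, h.π_inv m1, h.co_p]; exact Prod.ext (H6.F4.add_self _) (H6.F4.add_self _))
      rw [← mul_inv_cancel_left (p (co p q x).1.1 (co p q x).1.2 0) x, ← conj_mul,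
        h.π_mul (m m1) (m (mul_mem (inv_mem m1) hx)), this, add_zero, mul_inv_cancel_left]
  have e2 : ∀ v : F4 × F4, s * p 0 0 (Qd v) * s⁻¹ = p 0 0 (Qd (co p q (s * p v.1 v.2 0 * s⁻¹)).1) := fun v => by
    obtain ⟨c, e⟩ := (h.memZ _).1 (conj_mem_of_mem_normalizer h1 ((h.memZ _).2 ⟨Qd v, rfl⟩))
    have := h.co_sq (m (h.memp v.1 v.2 0))
    rw [conj_mul, ← pow_two, h.hp.sq, show p 0 0 (v.1 * v.2) = p 0 0 (Qd v) from rfl, ← e, h.co_p] at this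
    rw [← e, show c = _ from congrArg Prod.snd this]
  obtain ⟨l, k, σ, τ, l0, k0, e⟩ := cls (fun v => (co p q (s * p v.1 v.2 0 * s⁻¹)).1) (fun v w => by
    rw [← h.π_mul (m (h.memp ..)) (m (h.memp ..)), conj_mul, h.hp.mul, e1 (p _ _ (_ + _)) (h.memp ..), h.co_p]
    rfl) (fun v e => by
      have := h.zero_conj h (inv_mem hs) (cj_eq_self (inv_mem h2)).le (m (h.memp ..)) e
      rwa [show s⁻¹ * (s * p v.1 v.2 0 * s⁻¹) * s⁻¹⁻¹ = p v.1 v.2 0 by group, h.co_p] at this)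
    fun v v' e => (h.hp.ext ((e2 v).symm.trans (e ▸ e2 v'))).2.2
  refine ⟨l, k, σ, τ, l0, k0, fun x hx => (e1 x hx).trans (e _), fun c => ?_⟩
  rw [← (by decide : ∀ l k σ τ c, Qd (Φ l k σ τ (c, 1)) = l * k * fr σ c) l k σ τ c, ← e, ← e2]
  simp [Qd]

theorem Ty.inv (t : Ty p q P s l k σ τ) (h : PQ p q P Z Z') (hs : s ∈ nor P) (ss : s * s = 1) (v : F4 × F4) :
    Φ l k σ τ (Φ l k σ τ v) = v := by
  have := t.act _ (conj_mem_of_mem_normalizer hs (h.memp v.1 v.2 0))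
  rwa [t.act _ (h.memp ..), show s * (s * p v.1 v.2 0 * s⁻¹) * s⁻¹ = s * s * p v.1 v.2 0 * (s * s)⁻¹ by group,
    ss, one_mul, inv_one, mul_one, h.co_p, eq_comm] at this

theorem Ty.conj (t : Ty p q P s l k σ τ) (h : PQ p q P Z Z') (hs : s ∈ nor P) (h1 : s ∈ nor Z) (a b c : F4) :
    ∃ e e', s * p a b c * s⁻¹ = p (Φ l k σ τ (a, b)).1 (Φ l k σ τ (a, b)).2 e * q 0 0 e' := by
  have h2 := h.symm.zero_conj h.symm hs (cj_eq_self h1).le (h.memp a b c) (by rw [h.p_eq, h.co_eq']; rfl)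
  have h3 := t.act _ (h.memp a b c)
  obtain ⟨x, y, e, x', y', e', q⟩ := (h.memP _).1 (conj_mem_of_mem_normalizer hs (h.memp a b c))
  rw [q, h.co_eq'] at h2
  rw [q, h.co_eq, h.co_p] at h3
  obtain ⟨rfl, rfl⟩ := Prod.mk_eq_zero.1 h2
  exact ⟨e, e', by rw [q, ← h3]⟩

end H48.TeC3
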