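import Cfsg.Agent.H48.TeC3a

/-! TE2, job C3: elementary subgroups of order 256 lie in `P`. -/

set_option autoImplicit false
set_option linter.unusedSectionVars false
set_option linter.constructorNameAsVariable false
set_option synthInstance.maxSize 2000

namespace H48.TeC3

open Subgroup Cfsg H98 H1.Gold H86.L34 H88.AS H88.TE
open H6 (F4)

universe u

variable {G : Type u} [Group G] [Finite G] {p q : F4 → F4 → F4 → G} {P Z Z' E X : Subgroup G}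
  {a b c a' b' c' l k : F4} {σ τ : Bool} {s x y : G}

theorem El.mono (h : El E) (e : X ≤ E) : El X := fun x hx => h x (e hx)

theorem El.inv (h : El E) (hx : x ∈ E) : x⁻¹ = x := inv_eq_of_mul_eq_one_right (h x hx)

theorem El.conj (h : El E) (hx : x ∈ E) (hy : y ∈ E) : x * y * x⁻¹ = y := by
  have := El.inv h (mul_mem hx hy)
  rw [mul_inv_rev, El.inv h hx, El.inv h hy] at this
  rw [← this, mul_inv_cancel_right]

theorem card4 : Nat.card F4 = 4 := by rw [Nat.card_eq_fintype_card, H6.F4.card_eq]; rfl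

namespace PQ

variable (h : PQ p q P Z Z')
include h

/-- the kernel of the first coordinates -/
def KR : Subgroup G where
  carrier := {x | x ∈ P ∧ (co p q x).1 = 0}
  one_mem' := ⟨one_mem _, by rw [← h.hp.one, h.co_p]; rfl⟩
  mul_mem' := fun a b => ⟨mul_mem a.1 b.1, by rw [h.π_mul a.1 b.1, a.2, b.2, add_zero]⟩
  inv_mem' := fun a => ⟨inv_mem a.1, (h.π_inv a.1).trans a.2⟩

/-- the elements which act trivially on the first coordinates -/
def YY (_h : PQ p q P Z Z') : Subgroup G where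
  carrier := {s | s ∈ nor P ∧ ∀ x ∈ P, (co p q (s * x * s⁻¹)).1 = (co p q x).1}
  one_mem' := ⟨one_mem _, by simp⟩
  mul_mem' := fun {a b} ha hb => ⟨mul_mem ha.1 hb.1, fun x hx => by
    rw [← hb.2 x hx, ← ha.2 _ (conj_mem_of_mem_normalizer hb.1 hx)]
    congr 2; group⟩
  inv_mem' := fun {a} ha => ⟨inv_mem ha.1, fun x hx => by
    rw [← ha.2 _ (conj_mem_of_mem_normalizer (inv_mem ha.1) hx)]
    congr 2; group⟩

theorem memY (hs : s ∈ nor P) : s ∈ h.YY ↔ ∀ x ∈ P, s * x * s⁻¹ * x⁻¹ ∈ h.KR := by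
  refine (and_iff_right hs).trans (forall₂_congr fun x hx => ?_)
  have m := conj_mem_of_mem_normalizer hs hx
  refine Iff.trans ?_ (and_iff_right (mul_mem m (inv_mem hx))).symm
  rw [h.π_mul m (inv_mem hx), h.π_inv hx]
  exact (by decide : ∀ a b : F4 × F4, a = b ↔ a + b = 0) _ _

theorem sing (hx : x ∈ P) (e : x * x = 1) : Qd (co p q x).1 = 0 := by
  have := h.co_sq hx
  rw [e, ← h.hp.one, h.co_p] at this
  exact (congrArg Prod.snd this).symm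

theorem kr (el : El X) (hX : X ≤ P) (hx : x ∈ X) (hy : y ∈ X)
    (k : ∀ v w, (co p q x).1 = v → (co p q y).1 = w → Qd v = 0 → Qd w = 0 → Qd (v + w) = 0 → v + w = 0) :
    x⁻¹ * y ∈ h.KR := by
  have e := h.π_mul (hX hx) (hX hy)
  rw [El.inv el hx]
  exact ⟨hX (mul_mem hx hy), e ▸ k _ _ rfl rfl (h.sing (hX hx) (el x hx)) (h.sing (hX hy) (el y hy))
    (e ▸ h.sing (hX (mul_mem hx hy)) (el _ (mul_mem hx hy)))⟩

theorem i4 (el : El X) (hX : X ≤ P) : Nat.card X ≤ 4 * Nat.card ↥(X ⊓ h.KR) :=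
  card4 ▸ idx X _ (fun x => (co p q x).1.1 + (co p q x).1.2) fun x hx y hy e => h.kr el hX hx hy
    fun v w e1 e2 => (by decide : ∀ v w : F4 × F4, v.1 + v.2 = w.1 + w.2 → Qd v = 0 → Qd w = 0 →
      Qd (v + w) = 0 → v + w = 0) v w (e1 ▸ e2 ▸ e)

theorem zr (hx : x ∈ h.KR) (hx' : x ∈ h.symm.KR) (hy : y ∈ h.KR) (hy' : y ∈ h.symm.KR)
    (e : (co p q x).2 = (co p q y).2) : x⁻¹ * y ∈ Z' := by
  obtain ⟨c, c', rfl⟩ := h.memB hx.1 hx.2 hx'.2
  obtain ⟨d, d', rfl⟩ := h.memB hy.1 hy.2 hy'.2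
  rw [h.co_eq, h.co_eq] at e
  rw [h.inv, h.mul, show c = d from e]
  exact (h.memZ' _).2 ⟨_, by simp [h.hp.one]; rfl⟩

theorem z4 (h1 : X ≤ h.KR) (h2 : X ≤ h.symm.KR) : Nat.card X ≤ 4 * Nat.card ↥(X ⊓ Z') :=
  card4 ▸ idx X _ (fun x => (co p q x).2) fun _ hx _ hy => h.zr (h1 hx) (h2 hx) (h1 hy) (h2 hy)

theorem yy (el : El E) (h1 : E ≤ nor P) (hx : x ∈ E) (hy : y ∈ E) {l' k' : F4} (t : Ty p q P x l k σ τ)
    (t' : Ty p q P y l' k' σ τ) : x⁻¹ * y ∈ h.YY := by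
  have m := h1 (mul_mem hx hy)
  have e : ∀ z ∈ P, (co p q (x * y * z * (x * y)⁻¹)).1 = Φ l k σ τ (Φ l' k' σ τ (co p q z).1) := fun z hz => by
    rw [← t'.act z hz, ← t.act _ (conj_mem_of_mem_normalizer (h1 hy) hz)]
    congr 2; group
  rw [El.inv el hx]
  refine ⟨m, fun z hz => (e z hz).trans ((by decide +kernel : ∀ l k l' k' σ τ, (∀ v, Φ l k σ τ (Φ l' k' σ τ
    (Φ l k σ τ (Φ l' k' σ τ v))) = v) → ∀ v, Φ l k σ τ (Φ l' k' σ τ v) = v) l k l' k' σ τ (fun v => ?_) _)⟩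
  have := e _ (conj_mem_of_mem_normalizer m (h.memp v.1 v.2 0))
  rwa [e _ (h.memp ..), show x * y * (x * y * p v.1 v.2 0 * (x * y)⁻¹) * (x * y)⁻¹ =
    x * y * (x * y) * p v.1 v.2 0 * (x * y * (x * y))⁻¹ by group, el _ (mul_mem hx hy), one_mul, inv_one,
    mul_one, h.co_p, eq_comm] at this

theorem fac (el : El E) (h1 : E ≤ nor P) (h2 : E ≤ nor Z) : ∃ n₁ n₂ n₃ : ℕ, n₁ * n₂ * n₃ ≤ 16 ∧
    (E ≤ h.YY ∨ n₁ * n₂ * n₃ ≤ 8) ∧ (∀ X ≤ E, Nat.card X ≤ n₁ * Nat.card ↥(X ⊓ h.YY)) ∧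
    (∀ X ≤ E, X ≤ P → Nat.card X ≤ n₂ * Nat.card ↥(X ⊓ h.KR)) ∧
    ∀ X ≤ E, X ≤ h.KR → X ≤ h.symm.KR → Nat.card X ≤ n₃ * Nat.card ↥(X ⊓ Z') := by
  choose! l k σ τ t using fun x (hx : x ∈ E) => h.exTy (h1 hx) (h2 hx)
  have y1 := fun x hx y hy (e1 : σ x = σ y) (e2 : τ x = τ y) => h.yy el h1 hx hy (t x hx) (e1 ▸ e2 ▸ t y hy)
  have fx : ∀ e ∈ E, ∀ x ∈ E, x ∈ P → Φ (l e) (k e) (σ e) (τ e) (co p q x).1 = (co p q x).1 :=
    fun e he x hx m => by rw [← (t e he).act x m, El.conj el he hx]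
  have z2 : ∀ e ∈ E, σ e = true → ∀ X ≤ E, X ≤ h.KR → X ≤ h.symm.KR → Nat.card X ≤ 2 * Nat.card ↥(X ⊓ Z') :=
    fun e he e1 X hX k1 k2 => idx2 _ _ fun x hx y hy nx ny => h.zr (k1 hx) (k2 hx) (k1 hy) (k2 hy) (by
      have k3 : ∀ x ∈ X, x ∉ Z' → (co p q x).2 ≠ 0 ∧ l e * k e * fr true (co p q x).2 = (co p q x).2 :=
        fun x hx n => by
          obtain ⟨c, c', rfl⟩ := h.memB (k1 hx).1 (k1 hx).2 (k2 hx).2
          have := El.conj el he (hX hx)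
          obtain ⟨d, e2⟩ := (h.memZ' _).1 (conj_mem_of_mem_normalizer (h.norZ' (h1 he) (h2 he))
            ((h.memZ' _).2 ⟨c', rfl⟩))
          rw [← conj_mul, (t e he).actZ, e1, ← e2] at this
          rw [h.co_eq]
          exact ⟨fun e0 => n (by rw [show c = 0 from e0, h.hp.one, one_mul]; exact (h.memZ' _).2 ⟨_, rfl⟩),
            (h.ext this).2.2⟩
      exact (by decide : ∀ m a b : F4, a ≠ 0 ∧ m * fr true a = a → b ≠ 0 ∧ m * fr true b = b → a = b) _ _ _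
        (k3 x hx nx) (k3 y hy ny))
  have r1 : ∀ e ∈ E, τ e = true → ∀ X ≤ E, X ≤ P → Nat.card X ≤ 1 * Nat.card ↥(X ⊓ h.KR) :=
    fun e he e1 X hX m => by
      rw [one_mul, inf_eq_left.2 fun x hx => ⟨m hx, (by decide : ∀ l k σ, l ≠ 0 → k ≠ 0 → ∀ v, Qd v = 0 →
        Φ l k σ true v = v → v = 0) _ _ _ (t e he).l0 (t e he).k0 _ (h.sing (m hx) (el x (hX hx)))
        (e1 ▸ fx e he x (hX hx) (m hx))⟩]
  by_cases s1 : ∃ e ∈ E, σ e = true <;> by_cases t1 : ∃ e ∈ E, τ e = true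
  · obtain ⟨e, he, e1⟩ := s1
    obtain ⟨f, hf, f1⟩ := t1
    exact ⟨4, 1, 2, by decide, .inr (by decide), fun X hX => by
      simpa using idx X _ (fun x => (σ x, τ x)) fun x hx y hy e => y1 x (hX hx) y (hX hy)
        (congrArg Prod.fst e) (congrArg Prod.snd e), r1 f hf f1, z2 e he e1⟩
  · obtain ⟨e, he, e1⟩ := s1
    simp only [not_exists, not_and, Bool.not_eq_true] at t1
    refine ⟨2, 2, 2, by decide, .inr (by decide), fun X hX => by
      simpa using idx X _ σ fun x hx y hy e => y1 x (hX hx) y (hX hy) e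
        ((t1 x (hX hx)).trans (t1 y (hX hy)).symm), fun X hX m => idx2 _ _ fun x hx y hy nx ny => ?_, z2 e he e1⟩
    have a1 := fx e he x (hX hx) (m hx)
    have a2 := fx e he y (hX hy) (m hy)
    rw [e1, t1 e he] at a1 a2
    exact h.kr (El.mono el hX) m hx hy fun v w e1 e2 => (by decide +kernel : ∀ l k, ∀ v w : F4 × F4, v ≠ 0 → w ≠ 0 →
      Φ l k true false v = v → Φ l k true false w = w → Qd v = 0 → Qd w = 0 → Qd (v + w) = 0 → v + w = 0)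
      _ _ v w (e1 ▸ fun e0 => nx ⟨m hx, e0⟩) (e2 ▸ fun e0 => ny ⟨m hy, e0⟩) (e1 ▸ a1) (e2 ▸ a2)
  · obtain ⟨f, hf, f1⟩ := t1
    simp only [not_exists, not_and, Bool.not_eq_true] at s1
    exact ⟨2, 1, 4, by decide, .inr (by decide), fun X hX => by
      simpa using idx X _ τ fun x hx y hy e => y1 x (hX hx) y (hX hy)
        ((s1 x (hX hx)).trans (s1 y (hX hy)).symm) e, r1 f hf f1, fun X _ => h.z4⟩
  · simp only [not_exists, not_and, Bool.not_eq_true] at s1 t1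
    have : E ≤ h.YY := fun x hx => by
      simpa using y1 1 (one_mem _) x hx ((s1 1 (one_mem _)).trans (s1 x hx).symm)
        ((t1 1 (one_mem _)).trans (t1 x hx).symm)
    exact ⟨1, 4, 4, by decide, .inl this, fun X hX => by rw [one_mul, inf_eq_left.2 (hX.trans this)],
      fun X hX => h.i4 (El.mono el hX), fun X _ => h.z4⟩

theorem card_one (h1 : X ≤ Z) (h2 : X ≤ Z') : Nat.card X = 1 :=
  card_eq_one.2 (eq_bot_iff.2 fun _ hx => h.eq_one (h1 hx) (h2 hx))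

theorem big (el : El E) (h1 : E ≤ nor P) (fa : ∀ s ∈ E, s ∈ h.YY → s ∈ h.symm.YY → s ∈ P)
    (hc : 256 ≤ Nat.card E) : E ≤ P := by
  by_contra n
  by_cases h2 : E ≤ nor Z
  · obtain ⟨n₁, n₂, n₃, a1, a2, a3, a4, a5⟩ := h.fac el h1 h2
    obtain ⟨m₁, m₂, m₃, b1, b2, b3, b4, b5⟩ := h.symm.fac el h1 fun e he => h.norZ' (h1 he) (h2 he)
    have l1 : E ⊓ h.YY ⊓ h.symm.YY ≤ E := inf_le_left.trans inf_le_left
    have l2 : E ⊓ h.YY ⊓ h.symm.YY ≤ P := fun s hs => fa s hs.1.1 hs.1.2 hs.2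
    have l3 : E ⊓ h.YY ⊓ h.symm.YY ⊓ h.KR ⊓ h.symm.KR ≤ E := inf_le_left.trans (inf_le_left.trans l1)
    have c1 := a3 E le_rfl
    have c2 := b3 (E ⊓ h.YY) inf_le_left
    have c3 := a4 _ l1 l2
    have c4 := b4 (_ ⊓ h.KR) (inf_le_left.trans l1) (inf_le_left.trans l2)
    have c5 := a5 _ l3 (inf_le_left.trans inf_le_right) inf_le_right
    have c6 := b5 (_ ⊓ Z') (inf_le_left.trans l3) (inf_le_left.trans inf_le_right)
      (inf_le_left.trans (inf_le_left.trans inf_le_right))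
    rw [h.card_one inf_le_right (inf_le_left.trans inf_le_right)] at c6
    have c : Nat.card E ≤ n₁ * n₂ * n₃ * (m₁ * m₂ * m₃) :=
      calc _ ≤ n₁ * (m₁ * (n₂ * (m₂ * (n₃ * (m₃ * 1))))) := c1.trans (Nat.mul_le_mul_left _ (c2.trans
            (Nat.mul_le_mul_left _ (c3.trans (Nat.mul_le_mul_left _ (c4.trans (Nat.mul_le_mul_left _
              (c5.trans (Nat.mul_le_mul_left _ c6)))))))))
        _ = _ := by ring
    rcases a2 with a2 | a2
    · rcases b2 with b2 | b2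
      · exact n fun s hs => fa s hs (a2 hs) (b2 hs)
      · have := Nat.mul_le_mul a1 b2; omega
    · have := Nat.mul_le_mul a2 b1; omega
  obtain ⟨e, he, ne⟩ := SetLike.not_le_iff_exists.1 h2
  have sw : ∀ e ∈ E, e ∉ nor Z → cj e Z = Z' ∧ cj e Z' = Z := fun e he ne =>
    (h.perm' (h1 he)).resolve_left fun a => ne (cj_eq_self_iff.1 a.1)
  have c1 := idx2 E (nor Z) fun x hx y hy nx ny => cj_eq_self_iff.1 (by
    rw [← cj_cj, (sw y hy ny).1, (sw _ (inv_mem hx) (mt inv_mem_iff.1 nx)).2])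
  have k1 : ∀ x ∈ h.KR, e * x * e⁻¹ ∈ h.symm.KR := fun x hx =>
    ⟨conj_mem_of_mem_normalizer (h1 he) hx.1, h.zero_conj h.symm (h1 he) (sw e he ne).2.le hx.1 hx.2⟩
  choose! l k σ τ t using fun x (hx : x ∈ E ⊓ nor Z) => h.exTy (h1 hx.1) hx.2
  have c2 := idx (E ⊓ nor Z) h.YY (fun x => (σ x, τ x)) fun x hx y hy e => h.yy el h1 hx.1 hy.1 (t x hx)
    ((show σ x = σ y from congrArg Prod.fst e) ▸ (show τ x = τ y from congrArg Prod.snd e) ▸ t y hy)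
  have l1 : E ⊓ nor Z ⊓ h.YY ≤ E := inf_le_left.trans inf_le_left
  have c3 := h.i4 (El.mono el l1) fun s hs => fa s hs.1.1 hs.2 ((h.symm.memY hs.2.1).2 fun x hx => by
    have := k1 _ ((h.memY hs.2.1).1 hs.2 _ (conj_mem_of_mem_normalizer' (h1 he) hx))
    rwa [show e * (s * (e⁻¹ * x * e) * s⁻¹ * (e⁻¹ * x * e)⁻¹) * e⁻¹ = e * s * e⁻¹ * x * (e * s * e⁻¹)⁻¹ * x⁻¹ by
      group, El.conj el he hs.1.1] at this)
  have c4 := h.z4 (X := E ⊓ nor Z ⊓ h.YY ⊓ h.KR) inf_le_right fun x hx => El.conj el he hx.1.1.1 ▸ k1 x hx.2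
  rw [h.card_one (X := E ⊓ nor Z ⊓ h.YY ⊓ h.KR ⊓ Z') (fun x hx => El.conj el he hx.1.1.1.1 ▸ (sw e he ne).2.le
    (conj_mem_cj hx.2)) inf_le_right] at c4
  simp only [Nat.card_prod, Nat.card_eq_fintype_card (α := Bool), Fintype.card_bool] at c2
  omega

end PQ

end H48.TeC3
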